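import Mathlib
import Cfsg.Agent.Lib.RankFour54.Cross
import Cfsg.Agent.Lib.RankFour54.Local
import Cfsg.Agent.S0033

/-!
# Elementary facts for simple groups with five centraliser orders
-/

set_option autoImplicit false
set_option linter.style.haveILetI false
set_option linter.unusedSectionVars false

namespace Cfsg.Agent.Lib.RankFive54

open Cfsg.Agent.Lib.ClassSizes.Basic
open Cfsg.Agent.Lib.Inv59.RankThree
open Cfsg.Agent.Lib.RankFour54

universe u

variable {G : Type u} [Group G] [Finite G]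

/-- Five distinct values are all of them. -/
theorem eq_of_five (h5 : (Cross.vals G).ncard = 5) {a b c d e f : ℕ} (ha : a ∈ Cross.vals G)
    (hb : b ∈ Cross.vals G) (hc : c ∈ Cross.vals G) (hd : d ∈ Cross.vals G) (he : e ∈ Cross.vals G)
    (hf : f ∈ Cross.vals G) (hn : [a, b, c, d, e].Nodup) :
    f = a ∨ f = b ∨ f = c ∨ f = d ∨ f = e := by
  simp only [List.nodup_cons, List.mem_cons, List.not_mem_nil, or_false, not_or, List.nodup_nil,
    and_true, not_false_eq_true] at hn
  obtain ⟨⟨hab, hac, had, hae⟩, ⟨hbc, hbd, hbe⟩, ⟨hcd, hce⟩, hde⟩ := hn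
  have hsub : ({a, b, c, d, e} : Set ℕ) ⊆ Cross.vals G := by
    intro v hv
    rcases hv with rfl | rfl | rfl | rfl | rfl <;> assumption
  have hcard : ({a, b, c, d, e} : Set ℕ).ncard = 5 := by
    rw [Set.ncard_insert_of_notMem (by simp [hab, hac, had, hae]),
      Set.ncard_insert_of_notMem (by simp [hbc, hbd, hbe]),
      Set.ncard_insert_of_notMem (by simp [hcd, hce]), Set.ncard_pair hde]
  have := Set.eq_of_subset_of_ncard_le hsub (by rw [hcard, h5]) ((Set.toFinite _).image _)
  rw [← this] at hf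
  simpa using hf

/-- The product of commuting elements of coprime orders. -/
theorem pair {z w : G} (hc : Commute z w) (hcop : (orderOf z).Coprime (orderOf w)) :
    Subgroup.centralizer ({z * w} : Set G) =
        Subgroup.centralizer ({z} : Set G) ⊓ Subgroup.centralizer ({w} : Set G) ∧
      (z ≠ 1 → z * w ≠ 1) ∧ cn (z * w) ∣ cn z ∧ cn (z * w) ∣ cn w ∧
      orderOf z ∣ cn (z * w) ∧ orderOf w ∣ cn (z * w) := by
  have hC := cen_mul_eq hc hcop
  refine ⟨hC, fun hz h1 => hz ?_, cn_dvd_of_le (hC.le.trans inf_le_left),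
    cn_dvd_of_le (hC.le.trans inf_le_right), orderOf_dvd_cn' (hC.ge ⟨mem_self z, mem_cen.2 hc.symm.eq⟩),
    orderOf_dvd_cn' (hC.ge ⟨mem_cen.2 hc.eq, mem_self w⟩)⟩
  have := hc.orderOf_mul_eq_mul_orderOf_of_coprime hcop
  rw [h1, orderOf_one] at this
  exact orderOf_eq_one_iff.1 (Nat.eq_one_of_mul_eq_one_right this.symm)

theorem coprime_orders {z w : G} {p q : ℕ} (hp : p.Prime) (hq : q.Prime) (hz : orderOf z = p)
    (hw : orderOf w = q) (hne : p ≠ q) : (orderOf z).Coprime (orderOf w) := by
  rw [hz, hw]; exact (Nat.coprime_primes hp hq).2 hne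

/-- The power of a prime in the order of a centraliser, against a subgroup of it. -/
theorem pow_dvd_cn {p : ℕ} {n : ℕ} {z : G} {P : Subgroup G} (hP : Nat.card P = p ^ n)
    (hPz : P ≤ Subgroup.centralizer ({z} : Set G)) : p ^ n ∣ cn z :=
  hP ▸ Subgroup.card_dvd_of_le hPz

theorem fac_le_of_pow_dvd {p n v : ℕ} (hp : p.Prime) (hv : v ≠ 0) (h : p ^ n ∣ v) :
    n ≤ v.factorization p := (hp.pow_dvd_iff_le_factorization hv).1 h

theorem fac_mono {p u v : ℕ} (hv : v ≠ 0) (h : u ∣ v) : u.factorization p ≤ v.factorization p :=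
  (Nat.factorization_le_iff_dvd (ne_zero_of_dvd_ne_zero hv h) hv).2 h p

theorem fac_index {p : ℕ} (hp : p.Prime) (z : G) :
    p ∣ (Subgroup.centralizer ({z} : Set G)).index ↔
      (cn z).factorization p < (Nat.card G).factorization p := by
  have hi : (Subgroup.centralizer ({z} : Set G)).index ≠ 0 := Subgroup.index_ne_zero_of_finite
  rw [← cn_mul_index z, Nat.factorization_mul (cn_pos z).ne' hi, Finsupp.add_apply,
    hp.dvd_iff_one_le_factorization hi]
  omega

theorem fac_le_card {p : ℕ} (z : G) : (cn z).factorization p ≤ (Nat.card G).factorization p :=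
  fac_mono Nat.card_pos.ne' (Subgroup.card_subgroup_dvd_card _)

/-- A prime dividing `w / u`. -/
theorem exists_prime_lt {u w : ℕ} (hw : w ≠ 0) (h : u ∣ w) (hne : u ≠ w) :
    ∃ l, l.Prime ∧ u.factorization l < w.factorization l := by
  by_contra! hle
  refine hne (Nat.dvd_antisymm h ((Nat.factorization_le_iff_dvd hw (ne_zero_of_dvd_ne_zero hw h)).1 ?_))
  intro l
  by_cases hl : l.Prime
  · exact hle l hl
  · simp [Nat.factorization_eq_zero_of_not_prime _ hl]

/-- An element of order `l` central in a Sylow subgroup of the group. -/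
theorem exists_central_invariant {l : ℕ} [hl : Fact l.Prime] {L : Subgroup G} (hL : IsPGroup l L)
    (hne : L ≠ ⊥) : ∃ z ∈ L, orderOf z = l ∧ L ≤ Subgroup.centralizer ({z} : Set G) := by
  haveI : Nontrivial L := (Subgroup.nontrivial_iff_ne_bot _).2 hne
  haveI := hL.center_nontrivial
  obtain ⟨n, hn, hn'⟩ := (hL.to_subgroup (Subgroup.center L)).nontrivial_iff_card.1 inferInstance
  obtain ⟨ω, hω⟩ := exists_prime_orderOf_dvd_card' (G := Subgroup.center L) l
    (hn' ▸ dvd_pow_self l hn.ne')
  rw [← Subgroup.orderOf_coe, ← Subgroup.orderOf_coe] at hω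
  exact ⟨((ω : L) : G), (ω : L).2, hω, fun v hv => mem_cen.2
    (congrArg Subtype.val (Subgroup.mem_center_iff.1 ω.2 ⟨v, hv⟩)).symm⟩

/-- For a prime dividing the group order there is a central element of a Sylow subgroup. -/
theorem exists_full_central {l : ℕ} (hl : l.Prime) (hd : l ∣ Nat.card G) :
    ∃ (L : Sylow l G) (z : G), z ∈ (L : Subgroup G) ∧ orderOf z = l ∧
      (L : Subgroup G) ≤ Subgroup.centralizer ({z} : Set G) ∧
      (cn z).factorization l = (Nat.card G).factorization l := by
  haveI := Fact.mk hl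
  obtain ⟨L⟩ : Nonempty (Sylow l G) := inferInstance
  obtain ⟨z, hz, hzo, hLz⟩ := exists_central_invariant L.2 (L.ne_bot_of_dvd_card hd)
  refine ⟨L, z, hz, hzo, hLz, le_antisymm (fac_le_card z) ?_⟩
  exact fac_le_of_pow_dvd hl (cn_pos z).ne' (pow_dvd_cn L.card_eq_multiplicity hLz)

/-- The automorphism of a normalised subgroup induced by conjugation. -/
noncomputable def conjAut (X : Subgroup G) {w : G} (hw : w ∈ Subgroup.normalizer (X : Set G)) :
    X ≃* X where
  toFun y := ⟨w * y * w⁻¹, (Subgroup.mem_normalizer_iff.1 hw y).1 y.2⟩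
  invFun y := ⟨w⁻¹ * y * w, (Subgroup.mem_normalizer_iff''.1 hw y).1 y.2⟩
  left_inv y := Subtype.ext (by simp [mul_assoc])
  right_inv y := Subtype.ext (by simp [mul_assoc])
  map_mul' y z := Subtype.ext (by simp [mul_assoc])

theorem conjAut_pow_apply (X : Subgroup G) {w : G} (hw : w ∈ Subgroup.normalizer (X : Set G))
    (n : ℕ) (y : X) : ((conjAut X hw ^ n) y : G) = w ^ n * y * (w ^ n)⁻¹ := by
  induction n generalizing y with
  | zero => simp
  | succ n ih =>
    rw [pow_succ (conjAut X hw) n, MulAut.mul_apply, ih]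
    show w ^ n * (w * y * w⁻¹) * (w ^ n)⁻¹ = _
    rw [pow_succ]; group

/-- A subgroup normalised by an element of prime order centralising none of its non-identity
elements is nilpotent. -/
theorem isNilpotent_of_fpf {X : Subgroup G} {w : G} {p : ℕ} (hp : p.Prime) (hwo : orderOf w = p)
    (hw : w ∈ Subgroup.normalizer (X : Set G)) (hfix : ∀ y ∈ X, w * y = y * w → y = 1) :
    Group.IsNilpotent X := by
  by_cases hX : X = ⊥
  · subst hX; infer_instance
  haveI := Fact.mk hp
  have hne : conjAut X hw ≠ 1 := fun e => hX ((Subgroup.eq_bot_iff_forall _).2 fun y hy =>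
    hfix y hy (mul_inv_eq_iff_eq_mul.1 (congrArg Subtype.val (MulEquiv.congr_fun e ⟨y, hy⟩))))
  refine Cfsg.Agent.S0033.result (conjAut X hw) ?_ p hp ?_
  · intro y hy
    exact Subtype.ext (hfix y y.2 (mul_inv_eq_iff_eq_mul.1 (congrArg Subtype.val hy)))
  · refine orderOf_eq_prime (MulEquiv.ext fun y => Subtype.ext ?_) hne
    rw [conjAut_pow_apply, ← hwo, pow_orderOf_eq_one]
    simp

end Cfsg.Agent.Lib.RankFive54
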