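import Mathlib
import Cfsg.Agent.S1534
import Cfsg.Agent.Lib.Inv59.RankThree.Chars

/-!
# Isolation by coherence

For a nilpotent subgroup containing the centralisers of its non-identity elements, an element with
as many conjugates as that subgroup has elements, and with no conjugate in its normaliser, commutes
with no other conjugate of itself.
-/

set_option autoImplicit false
set_option linter.style.haveILetI false
set_option linter.unusedSectionVars false

namespace Cfsg.Agent.Lib.RankFive54.Coherent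

open Cfsg Cfsg.Agent.Lib.Characters.Basic Cfsg.Agent.Lib.Isometry
open Cfsg.Agent.Lib.Inv59.RankThree
open scoped ComplexConjugate Classical

universe u

variable {G : Type u} [Group G]

/-- A nilpotent subgroup containing the centralisers of its non-identity elements is a
trivial intersection set. -/
theorem isTISubset [Finite G] (K : Subgroup G) [Group.IsNilpotent K]
    (hC : ∀ k ∈ K, k ≠ 1 → Subgroup.centralizer ({k} : Set G) ≤ K) :
    Cfsg.IsTISubset (K : Set G) := by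
  intro g hg x hx hgx
  by_contra hx1
  haveI : Nontrivial K := ⟨⟨⟨x, hx⟩, 1, fun e => hx1 (congrArg Subtype.val e)⟩⟩
  haveI : Nontrivial (Subgroup.center K) :=
    (Subgroup.nontrivial_iff_ne_bot _).2 (Group.IsNilpotent.center_ne_bot _)
  obtain ⟨z, hz1⟩ := exists_ne (1 : Subgroup.center K)
  have hz1' : ((z : K) : G) ≠ 1 := fun e => hz1 (Subtype.ext (Subtype.ext e))
  have hall : ∀ k ∈ K, Commute ((z : K) : G) k := fun k hk =>
    (congrArg Subtype.val (Subgroup.mem_center_iff.1 z.2 ⟨k, hk⟩)).symm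
  have hzx : ((z : K) : G) ∈ Subgroup.centralizer ({x} : Set G) :=
    Subgroup.mem_centralizer_singleton_iff.2 (hall x hx).eq
  have hgz : g * ((z : K) : G) * g⁻¹ ∈ K := by
    refine hC _ hgx (fun e => hx1 (conj_eq_one_iff.1 e)) ?_
    refine Subgroup.mem_centralizer_singleton_iff.2 ?_
    calc g * ((z : K) : G) * g⁻¹ * (g * x * g⁻¹) = g * (((z : K) : G) * x) * g⁻¹ := by group
      _ = g * (x * ((z : K) : G)) * g⁻¹ := by rw [(hall x hx).eq]
      _ = _ := by group
  have key : ∀ k ∈ K, g * k * g⁻¹ ∈ K := fun k hk => by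
    refine hC _ hgz (fun e => hz1' (conj_eq_one_iff.1 e)) ?_
    refine Subgroup.mem_centralizer_singleton_iff.2 ?_
    calc g * k * g⁻¹ * (g * ((z : K) : G) * g⁻¹) = g * (k * ((z : K) : G)) * g⁻¹ := by group
      _ = g * (((z : K) : G) * k) * g⁻¹ := by rw [(hall k hk).eq]
      _ = _ := by group
  refine hg ?_
  rw [Subgroup.mem_normalizer_iff]
  refine fun k => ⟨key k, fun hk => ?_⟩
  have hmap : K.map (MulAut.conj g).toMonoidHom = K := Subgroup.eq_of_le_of_card_ge
    (by rintro _ ⟨w, hw, rfl⟩; exact key w hw)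
    (by rw [Subgroup.card_map_of_injective (MulAut.conj g).injective])
  rw [← hmap] at hk
  obtain ⟨w, hw, hwe⟩ := hk
  rwa [← (MulAut.conj g).injective hwe]

set_option maxHeartbeats 1000000 in
/-- Such an element commutes with no other conjugate of itself. -/
theorem isolated [Finite G] [IsSimpleGroup G] (hG : ¬ IsMulCommutative G) (K : Subgroup G)
    [Group.IsNilpotent K]
    (hC : ∀ k ∈ K, k ≠ 1 → Subgroup.centralizer ({k} : Set G) ≤ K)
    (hlt : K < Subgroup.normalizer (K : Set G))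
    (hcop : Nat.Coprime (Nat.card K) K.index)
    (hnp : ∀ p k : ℕ, p.Prime → Nat.card K ≠ p ^ k)
    {t : G} (ht1 : t ≠ 1) (htc : (Subgroup.centralizer ({t} : Set G)).index = Nat.card K)
    (htN : ∀ x : G, x⁻¹ * t * x ∉ Subgroup.normalizer (K : Set G))
    {g : G} (hg : Commute t (g * t * g⁻¹)) : g * t * g⁻¹ = t := by
  haveI := Fintype.ofFinite G
  haveI : Fintype (Cfsg.IrrCharacter G) := Fintype.ofFinite _
  set N := Subgroup.normalizer (K : Set G) with hN
  haveI := Fintype.ofFinite N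
  haveI : Fintype (Cfsg.IrrCharacter N) := Fintype.ofFinite _
  set H := Subgroup.centralizer ({t} : Set G) with hH
  haveI := Fintype.ofFinite H
  have hK1 : K ≠ ⊥ := fun e => hnp 2 0 Nat.prime_two (by rw [e, Subgroup.card_bot, pow_zero])
  set KN := K.subgroupOf N with hKN
  haveI : KN.Normal := Subgroup.normal_in_normalizer
  haveI := Fintype.ofFinite KN
  have hC' : ∀ k ∈ KN, k ≠ 1 → Subgroup.centralizer ({k} : Set N) ≤ KN :=
    NormalizerBridge.centralizer_le K hC
  have hbK : Nat.card KN = Nat.card K := NormalizerBridge.card_eq K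
  -- coherence
  obtain ⟨⟨α₀, hα₀, hα₀0⟩, τ, hτ, hτind⟩ : Cfsg.IsCoherent (↑(Inflate.layer KN ⊥) : Set (N → ℂ))
      {1}ᶜ (fun α => Cfsg.indFun N α) := by
    rw [← NormalizerBridge.setOf_eq_layer K]
    rcases Cfsg.Agent.S1534.result K hK1 inferInstance (isTISubset K hC) hlt hC with
      ⟨-, -, p, hp, hel⟩ | ⟨h2, -⟩ | h
    · exfalso
      haveI := Fact.mk hp
      obtain ⟨k, hk⟩ := IsPGroup.iff_card.1 (fun x : K => ⟨1, by rw [pow_one]; exact Subtype.ext (hel.2 (x : G) x.2)⟩)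
      exact hnp p k hp hk
    · exact absurd h2 (hnp 2 _ Nat.prime_two)
    · exact h
  set S := Inflate.layer KN ⊥ with hS
  set e := KN.index with he
  have he0 : 0 < e := Nat.pos_of_ne_zero Subgroup.index_ne_zero_of_finite
  set d : (N → ℂ) → ℕ := Layers.mdeg KN with hd
  have hdeg : ∀ ζ ∈ S, ζ 1 = ((e * d ζ : ℕ) : ℂ) := fun ζ h => (Layers.mdeg_spec hC' h).1
  have hdpos : ∀ ζ ∈ S, 0 < d ζ := fun ζ h => (Layers.mdeg_spec hC' h).2.1
  have hirr : ∀ ζ ∈ S, Cfsg.IsIrrCharacter N ζ := fun ζ h => Layers.isIrr h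
  -- the sum of squares
  have hsq : e * ∑ ζ ∈ S, d ζ ^ 2 + 1 = Nat.card KN := by
    have h := Layers.sum_mdeg hC' (A := KN) (B := ⊥) bot_le le_rfl
    rwa [Subgroup.relIndex_self, Subgroup.relIndex_bot_left] at h
  -- a member of least degree
  obtain ⟨ζ₁, hζ₁, hd₁⟩ : ∃ ζ ∈ S, d ζ = 1 := by
    set D := ⁅KN, KN⁆ with hD
    haveI : D.Normal := Subgroup.commutator_normal KN KN
    haveI : Group.IsNilpotent KN :=
      Group.nilpotent_of_mulEquiv (Subgroup.subgroupOfEquivOfLe Subgroup.le_normalizer).symm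
    haveI : Nontrivial KN := (Subgroup.nontrivial_iff_ne_bot _).2 (NormalizerBridge.ne_bot K hK1)
    have hlt' : D < KN := lt_of_le_of_ne (Subgroup.commutator_le_left KN KN) fun h => by
      have h1 := Group.IsSolvable.commutator_lt_top_of_nontrivial KN
      refine h1.ne (Subgroup.map_injective KN.subtype_injective ?_)
      rw [map_commutator_eq, Subgroup.range_subtype, ← MonoidHom.range_eq_map,
        Subgroup.range_subtype]
      exact h
    obtain ⟨ζ, hζ⟩ := Inflate.layer_nonempty hlt'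
    refine ⟨ζ, Layers.layer_subset le_rfl hζ, ?_⟩
    have h2 := Layers.mdeg_sq_le hC' hlt'.le le_rfl le_rfl hζ
    rw [Subgroup.relIndex_self] at h2
    have := hdpos ζ (Layers.layer_subset le_rfl hζ)
    show Layers.mdeg KN ζ = 1
    nlinarith
  -- a second member
  obtain ⟨ζ₂, hζ₂, h₂₁⟩ : ∃ ζ ∈ S, ζ ≠ ζ₁ := by
    by_contra! hall
    refine hα₀0 ?_
    have hsub : (↑S : Set (N → ℂ)) ⊆ {ζ₁} := fun ζ h => hall ζ h
    have hmem : α₀ ∈ Submodule.span ℤ ({ζ₁} : Set (N → ℂ)) := Submodule.span_mono hsub hα₀.1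
    obtain ⟨z, rfl⟩ := Submodule.mem_span_singleton.1 hmem
    have h1 := hα₀.2 1 (by simp)
    rw [Pi.smul_apply, hdeg _ hζ₁, hd₁, mul_one, zsmul_eq_mul, mul_eq_zero] at h1
    rcases h1 with h1 | h1
    · rw [Int.cast_eq_zero] at h1; rw [h1, zero_smul]
    · exact absurd (Nat.cast_eq_zero.1 h1) he0.ne'
  -- multiplicities
  have hrestr : ∀ χ : Cfsg.IrrCharacter G, Cfsg.IsCharacter N (fun x : N => (χ : G → ℂ) x) :=
    fun χ => isCharacter_comp N.subtype (isCharacter_irr χ)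
  have hn' : ∀ (χ : Cfsg.IrrCharacter G) (ζ : N → ℂ), ∃ n : ℕ, ζ ∈ S →
      Cfsg.classInner (fun x : N => (χ : G → ℂ) x) ζ = n := fun χ ζ => by
    by_cases hζ : ζ ∈ S
    · obtain ⟨n, hn⟩ := exists_classInner_nat (hrestr χ) (isCharacter_irr ⟨ζ, hirr ζ hζ⟩)
      exact ⟨n, fun _ => hn⟩
    · exact ⟨0, fun h => absurd h hζ⟩
  choose n hn using hn'
  choose m hm using fun χ : Cfsg.IrrCharacter G => exists_classInner_nat
    (isCharacter_comp H.subtype (isCharacter_irr χ)) (isCharacter_one (G := H))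
  have hperm : ∀ y : G, (Nat.card H : ℂ) * ∑ χ, (m χ : ℂ) * (χ : G → ℂ) y = conjCount H y := by
    intro y
    rw [← perm_char H y]
    simp only [← hm]
    rfl
  have hcardH : Nat.card H = K.index := by
    have h1 := H.card_mul_index
    rw [htc, ← K.card_mul_index, mul_comm (Nat.card K)] at h1
    exact Nat.eq_of_mul_eq_mul_right Nat.card_pos h1
  have hH0 : (Nat.card H : ℂ) ≠ 0 := Nat.cast_ne_zero.2 Nat.card_pos.ne'
  have hp0 : ∀ y ∈ K, y ≠ 1 → ∑ χ, (m χ : ℂ) * (χ : G → ℂ) y = 0 := by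
    intro y hy hy1
    have h := hperm y
    suffices h0 : conjCount H y = 0 by
      rw [h0, Nat.cast_zero] at h
      exact (mul_eq_zero.1 h).resolve_left hH0
    rw [conjCount, Finset.card_eq_zero, Finset.filter_eq_empty_iff]
    intro z _ hz
    apply hy1
    have h1 := H.orderOf_dvd_natCard hz
    have h2 : orderOf (z⁻¹ * y * z) = orderOf y := by
      have := (MulAut.conj z⁻¹).orderOf_eq y
      simpa [MulAut.conj_apply] using this
    rw [h2, hcardH] at h1
    exact orderOf_eq_one_iff.1 (Nat.eq_one_of_dvd_coprimes hcop (K.orderOf_dvd_natCard hy) h1)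
  have hp1 : ∑ χ, (m χ : ℂ) * (χ : G → ℂ) 1 = Nat.card KN := by
    have h := hperm 1
    have hc1 : conjCount H (1 : G) = Nat.card G := by
      rw [conjCount, Nat.card_eq_fintype_card, ← Finset.card_univ]
      congr 1
      exact Finset.filter_true_of_mem fun z _ => by simp
    rw [hc1, ← H.card_mul_index, htc, ← hbK, Nat.cast_mul] at h
    exact mul_left_cancel₀ hH0 h
  have hcardN : (Nat.card N : ℂ) = (Nat.card KN : ℂ) * e := by
    rw [← KN.card_mul_index, Nat.cast_mul]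
  have hKN0 : (Nat.card KN : ℂ) ≠ 0 := Nat.cast_ne_zero.2 Nat.card_pos.ne'
  have heC : (e : ℂ) ≠ 0 := Nat.cast_ne_zero.2 he0.ne'
  have hT : ∀ ζ ∈ S, ∑ χ, m χ * n χ ζ = d ζ := by
    intro ζ hζ
    have h : ((∑ χ, m χ * n χ ζ : ℕ) : ℂ) = (d ζ : ℂ) := by
      push_cast
      simp only [← hn _ ζ hζ, Cfsg.classInner, Finset.mul_sum]
      rw [Finset.sum_comm, Finset.sum_eq_single (1 : N)]
      · rw [OneMemClass.coe_one, hdeg ζ hζ, map_natCast]
        calc ∑ χ : Cfsg.IrrCharacter G, (m χ : ℂ) * ((Nat.card N : ℂ)⁻¹ *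
              ((χ : G → ℂ) 1 * ((e * d ζ : ℕ) : ℂ)))
            = (Nat.card N : ℂ)⁻¹ * ((e * d ζ : ℕ) : ℂ) * ∑ χ, (m χ : ℂ) * (χ : G → ℂ) 1 := by
              rw [Finset.mul_sum]
              exact Finset.sum_congr rfl fun χ _ => by ring
          _ = _ := by
              rw [hp1, hcardN, Nat.cast_mul]
              field_simp
      · intro y _ hy1
        by_cases hy : y ∈ KN
        · calc ∑ χ : Cfsg.IrrCharacter G, (m χ : ℂ) * ((Nat.card N : ℂ)⁻¹ *
                ((χ : G → ℂ) y * conj (ζ y)))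
              = (Nat.card N : ℂ)⁻¹ * conj (ζ y) * ∑ χ, (m χ : ℂ) * (χ : G → ℂ) y := by
                rw [Finset.mul_sum]
                exact Finset.sum_congr rfl fun χ _ => by ring
            _ = 0 := by rw [hp0 (y : G) hy fun h => hy1 (Subtype.ext h), mul_zero]
        · exact Finset.sum_eq_zero fun χ _ => by rw [Layers.vanish hC' hζ hy]; simp
      · exact fun h => absurd (Finset.mem_univ _) h
    exact_mod_cast h
  -- the trivial part of the restrictions
  choose m₀ hm₀ using fun χ : Cfsg.IrrCharacter G => exists_classInner_nat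
    (isCharacter_comp KN.subtype (hrestr χ)) (isCharacter_one (G := KN))
  have hm₀' : ∀ χ, (m₀ χ : ℂ) = (Nat.card KN : ℂ)⁻¹ * ∑ k : KN, (χ : G → ℂ) ((k : N) : G) :=
    fun χ => by
      rw [← hm₀]
      simp [Cfsg.classInner]
  have hT₀ : ∑ χ, m χ * m₀ χ = 1 := by
    have h : ((∑ χ, m χ * m₀ χ : ℕ) : ℂ) = 1 := by
      push_cast
      simp only [hm₀', Finset.mul_sum]
      rw [Finset.sum_comm, Finset.sum_eq_single (1 : KN)]
      · calc ∑ χ : Cfsg.IrrCharacter G, (m χ : ℂ) * ((Nat.card KN : ℂ)⁻¹ *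
              (χ : G → ℂ) (((1 : KN) : N) : G))
            = (Nat.card KN : ℂ)⁻¹ * ∑ χ, (m χ : ℂ) * (χ : G → ℂ) 1 := by
              rw [Finset.mul_sum]
              exact Finset.sum_congr rfl fun χ _ => by simp only [OneMemClass.coe_one]; ring
          _ = 1 := by rw [hp1, inv_mul_cancel₀ hKN0]
      · intro k _ hk
        calc ∑ χ : Cfsg.IrrCharacter G, (m χ : ℂ) * ((Nat.card KN : ℂ)⁻¹ *
              (χ : G → ℂ) ((k : N) : G))
            = (Nat.card KN : ℂ)⁻¹ * ∑ χ, (m χ : ℂ) * (χ : G → ℂ) ((k : N) : G) := by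
              rw [Finset.mul_sum]
              exact Finset.sum_congr rfl fun χ _ => by ring
          _ = 0 := by rw [hp0 ((k : N) : G) k.2 fun h => hk (Subtype.ext (Subtype.ext h)), mul_zero]
      · exact fun h => absurd (Finset.mem_univ _) h
    exact_mod_cast h
  set one := oneChar G with hone
  have hm1 : m one = 1 := by
    have h := hm one
    simp only [hone, Cfsg.classInner, Function.comp_apply, oneChar_apply, Pi.one_apply, map_one,
      mul_one, Finset.sum_const, Finset.card_univ, nsmul_eq_mul, ← Nat.card_eq_fintype_card,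
      inv_mul_cancel₀ hH0] at h
    exact_mod_cast h.symm
  have hm₀one : m₀ one = 1 := by
    have h := hm₀' one
    simp only [hone, oneChar_apply, Finset.sum_const, Finset.card_univ, nsmul_eq_mul, mul_one,
      ← Nat.card_eq_fintype_card, inv_mul_cancel₀ hKN0] at h
    exact_mod_cast h
  have htriv : ∀ χ, χ ≠ one → m χ ≠ 0 → m₀ χ = 0 := by
    intro χ hχ hmχ
    have h := hT₀
    rw [← Finset.add_sum_erase _ _ (Finset.mem_univ one), hm1, hm₀one] at h
    have h0 : ∑ θ ∈ Finset.univ.erase one, m θ * m₀ θ = 0 := by omega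
    rw [Finset.sum_eq_zero_iff] at h0
    exact (mul_eq_zero.1 (h0 χ (Finset.mem_erase.2 ⟨hχ, Finset.mem_univ _⟩))).resolve_left hmχ
  -- the degree of a constituent
  have hdegree : ∀ χ, χ ≠ one → m χ ≠ 0 →
      (χ : G → ℂ) 1 = ((e * ∑ ζ ∈ S, n χ ζ * d ζ : ℕ) : ℂ) := by
    intro χ hχ hmχ
    have hlay : ∀ x : N, ∑ ζ ∈ S, ((e * d ζ : ℕ) : ℂ) * conj (ζ x) =
        (if x = 1 then (Nat.card N : ℂ) else 0) - if x ∈ KN then (e : ℂ) else 0 := by
      intro x
      have h := congrArg conj (Inflate.sum_layer (A := KN) (B := ⊥) bot_le x)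
      rw [map_sum] at h
      simp only [map_mul, map_sub, apply_ite (conj : ℂ → ℂ), map_natCast, map_zero,
        Subgroup.mem_bot, Subgroup.index_bot] at h
      rw [← h]
      exact Finset.sum_congr rfl fun ζ hζ => by rw [hdeg ζ hζ, map_natCast]
    have hsumK : ∑ x : N, (if x ∈ KN then (χ : G → ℂ) x else 0) = 0 := by
      rw [← Finset.sum_filter, Finset.sum_subtype (p := fun x => x ∈ KN) _ (fun x => by simp)]
      have h := hm₀' χ
      rw [htriv χ hχ hmχ, Nat.cast_zero] at h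
      exact (mul_eq_zero.1 h.symm).resolve_left (inv_ne_zero hKN0)
    symm
    calc ((e * ∑ ζ ∈ S, n χ ζ * d ζ : ℕ) : ℂ)
        = ∑ ζ ∈ S, Cfsg.classInner (fun x : N => (χ : G → ℂ) x) ζ * ((e * d ζ : ℕ) : ℂ) := by
          push_cast
          rw [Finset.mul_sum]
          exact Finset.sum_congr rfl fun ζ hζ => by rw [hn χ ζ hζ]; ring
      _ = (Nat.card N : ℂ)⁻¹ *
            ∑ x : N, (χ : G → ℂ) x * ∑ ζ ∈ S, ((e * d ζ : ℕ) : ℂ) * conj (ζ x) := by
          simp only [Cfsg.classInner, Finset.mul_sum, Finset.sum_mul]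
          rw [Finset.sum_comm]
          exact Finset.sum_congr rfl fun x _ => Finset.sum_congr rfl fun ζ _ => by ring
      _ = (Nat.card N : ℂ)⁻¹ * ((Nat.card N : ℂ) * (χ : G → ℂ) 1 -
            (e : ℂ) * ∑ x : N, (if x ∈ KN then (χ : G → ℂ) x else 0)) := by
          congr 1
          rw [Finset.mul_sum]
          simp only [hlay, mul_sub, Finset.sum_sub_distrib, mul_ite, mul_zero]
          rw [Finset.sum_ite_eq']
          simp [mul_comm]
      _ = _ := by
          rw [hsumK, mul_zero, sub_zero, ← mul_assoc,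
            inv_mul_cancel₀ (Nat.cast_ne_zero.2 Nat.card_pos.ne'), one_mul]
  -- the coherent extension on the members
  have hmem : ∀ ζ ∈ S, ζ ∈ Cfsg.zspan (↑S : Set (N → ℂ)) := fun ζ h => Inner.subset_zspan _ h
  have hiso : ∀ ζ ∈ S, ∀ η ∈ S, Cfsg.classInner (τ ζ) (τ η) = if ζ = η then 1 else 0 :=
    fun ζ hζ η hη => by
      rw [hτ.2.2.1 _ (hmem ζ hζ) _ (hmem η hη), Inner.classInner_irr_eq (hirr ζ hζ) (hirr η hη)]
  have hfs : ∀ ζ : N → ℂ, ∃ (φ : Cfsg.IrrCharacter G) (s : ℤ), ζ ∈ S →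
      (s = 1 ∨ s = -1) ∧ τ ζ = (s : ℂ) • (φ : G → ℂ) := by
    intro ζ
    by_cases hζ : ζ ∈ S
    · rcases Inner.signed_of_norm_one (hτ.2.2.2 _ (hmem ζ hζ))
        (by rw [hiso ζ hζ ζ hζ, if_pos rfl]) with h | h
      · exact ⟨⟨τ ζ, h⟩, 1, fun _ => ⟨Or.inl rfl, by simp⟩⟩
      · exact ⟨⟨-τ ζ, h⟩, -1, fun _ => ⟨Or.inr rfl, by simp⟩⟩
    · exact ⟨one, 1, fun h => absurd h hζ⟩
  choose f s hfs using hfs
  have hf_inj : ∀ ζ ∈ S, ∀ η ∈ S, f ζ = f η → ζ = η := by
    intro ζ hζ η hη h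
    by_contra hne
    have h1 := hiso ζ hζ η hη
    rw [if_neg hne, (hfs ζ hζ).2, (hfs η hη).2, h, Induced.Basic.classInner_smul_left,
      Induced.Basic.classInner_smul_right, classInner_self_irr] at h1
    rcases (hfs ζ hζ).1 with h2 | h2 <;> rcases (hfs η hη).1 with h3 | h3 <;>
      simp [h2, h3] at h1
  set eps : Cfsg.IrrCharacter G → (N → ℂ) → ℤ := fun χ ζ => if f ζ = χ then s ζ else 0 with heps
  have heps' : ∀ χ : Cfsg.IrrCharacter G, ∀ ζ ∈ S,
      Cfsg.classInner (τ ζ) (χ : G → ℂ) = (eps χ ζ : ℂ) := by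
    intro χ ζ hζ
    rw [(hfs ζ hζ).2, Induced.Basic.classInner_smul_left, classInner_irr]
    simp only [heps]
    split_ifs <;> simp
  -- the fundamental relation
  have hαmem : ∀ ζ ∈ S, (d ζ : ℤ) • ζ₁ + (-1 : ℤ) • ζ ∈ Cfsg.zspanOn (↑S : Set (N → ℂ)) {1}ᶜ := by
    intro ζ hζ
    refine Inner.mem_zspanOn_one.2 ⟨Submodule.add_mem _ (Submodule.smul_mem _ _ (hmem _ hζ₁))
      (Submodule.smul_mem _ _ (hmem _ hζ)), ?_⟩
    simp [hdeg _ hζ₁, hdeg _ hζ, hd₁, mul_comm]
  have hτα : ∀ ζ ∈ S, (d ζ : ℂ) • τ ζ₁ - τ ζ =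
      Cfsg.indFun N ((d ζ : ℤ) • ζ₁ + (-1 : ℤ) • ζ) := by
    intro ζ hζ
    rw [← show τ _ = Cfsg.indFun N _ from hτind _ (hαmem ζ hζ), hτ.1 _ (Submodule.smul_mem _ _ (hmem _ hζ₁)) _
      (Submodule.smul_mem _ _ (hmem _ hζ)), hτ.2.1 _ (hmem _ hζ₁), hτ.2.1 _ (hmem _ hζ)]
    rw [← Int.cast_smul_eq_zsmul ℂ, ← Int.cast_smul_eq_zsmul ℂ]
    push_cast
    rw [neg_one_smul, sub_eq_add_neg]
  set c : Cfsg.IrrCharacter G → ℤ := fun χ => (n χ ζ₁ : ℤ) - eps χ ζ₁ with hcdef
  have hrel : ∀ χ : Cfsg.IrrCharacter G, ∀ ζ ∈ S, (n χ ζ : ℤ) = d ζ * c χ + eps χ ζ := by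
    intro χ ζ hζ
    have h := congrArg (fun F => Cfsg.classInner F (χ : G → ℂ)) (hτα ζ hζ)
    rw [Induced.Basic.frobenius_reciprocity N _ (isClassFunction_irr χ),
      Induced.Basic.classInner_sub_left, Induced.Basic.classInner_smul_left, heps' χ ζ₁ hζ₁,
      heps' χ ζ hζ, ← Int.cast_smul_eq_zsmul ℂ, ← Int.cast_smul_eq_zsmul ℂ,
      Induced.Basic.classInner_add_left, Induced.Basic.classInner_smul_left,
      Induced.Basic.classInner_smul_left] at h
    have hswap : ∀ η ∈ S, Cfsg.classInner η (fun x : N => (χ : G → ℂ) x) = (n χ η : ℂ) :=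
      fun η hη => by rw [← Induced.Basic.classInner_conj_symm, hn χ η hη, map_natCast]
    rw [hswap ζ hζ, hswap ζ₁ hζ₁] at h
    have h' : (d ζ : ℤ) * eps χ ζ₁ - eps χ ζ = d ζ * n χ ζ₁ + -1 * n χ ζ := by exact_mod_cast h
    simp only [hcdef]
    linarith
  -- the values at `t`
  have hval : ∀ ζ ∈ S, (d ζ : ℂ) * τ ζ₁ t = τ ζ t := by
    intro ζ hζ
    have h := congrFun (hτα ζ hζ) t
    rw [Induced.Basic.indFun_eq_zero_of_forall_not_mem N _ htN, Pi.sub_apply, Pi.smul_apply,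
      smul_eq_mul, sub_eq_zero] at h
    exact h
  -- a member avoiding a given character
  have hother : ∀ χ : Cfsg.IrrCharacter G, ∃ η ∈ S, f η ≠ χ := by
    intro χ
    by_cases h : f ζ₁ = χ
    · exact ⟨ζ₂, hζ₂, fun h' => h₂₁ (hf_inj _ hζ₂ _ hζ₁ (h'.trans h.symm))⟩
    · exact ⟨ζ₁, hζ₁, h⟩
  have hnone : ∀ ζ ∈ S, n one ζ = 0 := by
    intro ζ hζ
    have h := hT ζ hζ
    have h1 : Cfsg.classInner (fun x : N => (one : G → ℂ) x) ζ = 0 := by
      rw [show (fun x : N => (one : G → ℂ) x) = (oneChar N : N → ℂ) from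
        funext fun x => rfl]
      obtain ⟨-, -, k, hk, hk1⟩ := Inflate.mem_layer.1 hζ
      have hne : oneChar N ≠ ⟨ζ, hirr ζ hζ⟩ := fun h => hk1 (by
        have h' : (oneChar N : N → ℂ) = ζ := congrArg Subtype.val h
        rw [← h']; rfl)
      exact classInner_irr_of_ne hne
    rw [hn one ζ hζ, Nat.cast_eq_zero] at h1
    exact h1
  have hcone : c one = 0 := by
    obtain ⟨η, hη, hne⟩ := hother one
    have h := hrel one η hη
    simp only [hnone η hη, heps, if_neg hne, Nat.cast_zero, add_zero] at h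
    exact (mul_eq_zero.1 h.symm).resolve_left (by exact_mod_cast (hdpos η hη).ne')
  have hfone : ∀ ζ ∈ S, f ζ ≠ one := by
    intro ζ hζ he1
    have h := hrel one ζ hζ
    simp only [hnone ζ hζ, heps, if_pos he1, hcone, mul_zero, Nat.cast_zero, zero_add] at h
    rcases (hfs ζ hζ).1 with h' | h' <;> omega
  have hnle : ∀ χ, m χ ≠ 0 → ∀ ζ ∈ S, n χ ζ ≤ d ζ := by
    intro χ hχ ζ hζ
    rw [← hT ζ hζ]
    exact (Nat.le_mul_of_pos_left _ (Nat.pos_of_ne_zero hχ)).trans
      (Finset.single_le_sum (f := fun θ => m θ * n θ ζ) (fun _ _ => Nat.zero_le _) (Finset.mem_univ χ))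
  have hc01 : ∀ χ, m χ ≠ 0 → c χ = 0 ∨ c χ = 1 := by
    intro χ hχ
    obtain ⟨η, hη, hne⟩ := hother χ
    have h := hrel χ η hη
    simp only [heps, if_neg hne, add_zero] at h
    have h1 : (0 : ℤ) ≤ (d η : ℤ) * c χ := h ▸ Int.natCast_nonneg _
    have h2 : (d η : ℤ) * c χ ≤ (d η : ℤ) * 1 := by
      rw [mul_one, ← h]; exact_mod_cast hnle χ hχ η hη
    have hd' : (0 : ℤ) < d η := by exact_mod_cast hdpos η hη
    have := nonneg_of_mul_nonneg_right h1 hd'
    have := le_of_mul_le_mul_left h2 hd'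
    omega
  set A : ℤ := ∑ χ, (m χ : ℤ) * c χ with hA
  have hbal : ∀ ζ ∈ S, (m (f ζ) : ℤ) * s ζ = (1 - A) * d ζ := by
    intro ζ hζ
    have h : ((∑ χ, m χ * n χ ζ : ℕ) : ℤ) = d ζ := by rw [hT ζ hζ]
    push_cast at h
    simp only [hrel _ ζ hζ, mul_add, Finset.sum_add_distrib] at h
    have e1 : ∑ χ, (m χ : ℤ) * ((d ζ : ℤ) * c χ) = d ζ * A := by
      rw [hA, Finset.mul_sum]
      exact Finset.sum_congr rfl fun χ _ => by ring
    have e2 : ∑ χ, (m χ : ℤ) * eps χ ζ = m (f ζ) * s ζ := by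
      simp [heps]
    rw [e1, e2] at h
    linarith
  -- non-principal constituents vanish at `t`
  have hcope : Nat.Coprime e (Nat.card KN) := Layers.coprime_index hC'
  have hvan : ∀ χ, χ ≠ one → m χ ≠ 0 → (χ : G → ℂ) t = 0 := by
    intro χ hχ hmχ
    by_cases hexc : ∃ ζ ∈ S, f ζ = χ
    swap
    · push Not at hexc
      have hnc : ∀ ζ ∈ S, (n χ ζ : ℤ) = d ζ * c χ := fun ζ hζ => by
        rw [hrel χ ζ hζ, show eps χ ζ = 0 from if_neg (hexc ζ hζ), add_zero]
      rcases hc01 χ hmχ with hc | hc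
      · exfalso
        refine apply_one_ne_zero χ ?_
        rw [hdegree χ hχ hmχ, Finset.sum_eq_zero fun ζ hζ => ?_, mul_zero, Nat.cast_zero]
        have := hnc ζ hζ
        rw [hc, mul_zero] at this
        rw [show n χ ζ = 0 by omega, zero_mul]
      · refine vanish hG ht1 χ hχ (hdegree χ hχ hmχ) ?_
        have hsum : ∑ ζ ∈ S, n χ ζ * d ζ = ∑ ζ ∈ S, d ζ ^ 2 := Finset.sum_congr rfl fun ζ hζ => by
          have := hnc ζ hζ
          rw [hc, mul_one] at this
          rw [show n χ ζ = d ζ by omega, ← sq]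
        rw [htc, ← hbK, hsum, ← hsq]
        exact Nat.coprime_self_add_right.2 (Nat.coprime_one_right _)
    obtain ⟨ζ₀, hζ₀, rfl⟩ := hexc
    have hA1 : 1 - A ≠ 0 := fun h0 => by
      have h := hbal ζ₀ hζ₀
      rw [h0, zero_mul, mul_eq_zero] at h
      rcases h with h | h
      · exact hmχ (by omega)
      · rcases (hfs ζ₀ hζ₀).1 with h' | h' <;> omega
    have hmf : ∀ ζ ∈ S, m (f ζ) ≠ 0 := fun ζ hζ h0 => by
      have h := hbal ζ hζ
      rw [h0, Nat.cast_zero, zero_mul, eq_comm, mul_eq_zero] at h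
      exact (h.resolve_left hA1) |> fun h' => by have := hdpos ζ hζ; omega
    suffices h1 : (f ζ₁ : G → ℂ) t = 0 by
      have h := hval ζ₀ hζ₀
      rw [(hfs ζ₁ hζ₁).2, (hfs ζ₀ hζ₀).2, Pi.smul_apply, Pi.smul_apply, h1, smul_zero, mul_zero,
        smul_eq_mul, eq_comm, mul_eq_zero] at h
      refine h.resolve_left ?_
      rcases (hfs ζ₀ hζ₀).1 with h' | h' <;> simp [h']
    refine vanish hG ht1 (f ζ₁) (hfone ζ₁ hζ₁) (n := e) ?_ (by rw [htc, ← hbK]; exact hcope)
    rw [hdegree _ (hfone ζ₁ hζ₁) (hmf ζ₁ hζ₁), Nat.cast_inj]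
    suffices hs : ∑ ζ ∈ S, n (f ζ₁) ζ * d ζ = 1 by rw [hs, mul_one]
    have he₁ : eps (f ζ₁) ζ₁ = s ζ₁ := if_pos rfl
    have he' : ∀ ζ ∈ S, ζ ≠ ζ₁ → eps (f ζ₁) ζ = 0 := fun ζ hζ hne =>
      if_neg fun h => hne (hf_inj ζ hζ ζ₁ hζ₁ h)
    have hn₁ := hrel (f ζ₁) ζ₁ hζ₁
    rw [he₁, hd₁] at hn₁
    have hle := hnle _ (hmf ζ₁ hζ₁) ζ₁ hζ₁
    rw [hd₁] at hle
    rcases (hfs ζ₁ hζ₁).1 with hs1 | hs1 <;> rcases hc01 _ (hmf ζ₁ hζ₁) with hc | hc <;>
      rw [hs1, hc] at hn₁
    · rw [Finset.sum_eq_single ζ₁]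
      · rw [hd₁]; omega
      · intro ζ hζ hne
        have h := hrel (f ζ₁) ζ hζ
        rw [he' ζ hζ hne, hc, mul_zero, add_zero] at h
        rw [show n (f ζ₁) ζ = 0 by omega, zero_mul]
      · exact fun h => absurd hζ₁ h
    · omega
    · omega
    · -- negative sign
      have hA2 : 2 ≤ A := by
        have h := hbal ζ₁ hζ₁
        rw [hs1, hd₁] at h
        have := Nat.pos_of_ne_zero (hmf ζ₁ hζ₁)
        omega
      have hsneg : ∀ ζ ∈ S, s ζ = -1 := fun ζ hζ => by
        refine (hfs ζ hζ).1.resolve_left fun h' => ?_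
        have h := hbal ζ hζ
        rw [h', mul_one] at h
        have h3 : (1 - A) * (d ζ : ℤ) < 0 :=
          mul_neg_of_neg_of_pos (by omega) (by exact_mod_cast hdpos ζ hζ)
        omega
      have hcone' : ∀ ζ ∈ S, c (f ζ) = 1 := fun ζ hζ => by
        refine (hc01 _ (hmf ζ hζ)).resolve_left fun h' => ?_
        have h := hrel (f ζ) ζ hζ
        rw [show eps (f ζ) ζ = s ζ from if_pos rfl, hsneg ζ hζ, h', mul_zero, zero_add] at h
        omega
      have hAsum : ∑ ζ ∈ S, (A - 1) * (d ζ : ℤ) ≤ A := by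
        have h : ∑ χ ∈ S.image f, (m χ : ℤ) * c χ ≤ A := by
          refine Finset.sum_le_sum_of_subset_of_nonneg (Finset.subset_univ _) fun χ _ _ => ?_
          rcases eq_or_ne (m χ) 0 with h0 | h0
          · rw [h0, Nat.cast_zero, zero_mul]
          · rcases hc01 χ h0 with h' | h' <;> rw [h'] <;> simp
        rw [Finset.sum_image hf_inj] at h
        refine le_trans (le_of_eq (Finset.sum_congr rfl fun ζ hζ => ?_)) h
        rw [hcone' ζ hζ, mul_one]
        have h1 := hbal ζ hζ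
        rw [hsneg ζ hζ] at h1
        linarith
      rw [← Finset.mul_sum, ← Finset.add_sum_erase _ _ hζ₁, hd₁] at hAsum
      set T₂ := ∑ ζ ∈ S.erase ζ₁, d ζ with hT
      have hTtwo : 1 ≤ T₂ := (hdpos ζ₂ hζ₂).trans_le (Finset.single_le_sum (f := d)
        (fun _ _ => Nat.zero_le _) (Finset.mem_erase.2 ⟨h₂₁, hζ₂⟩))
      have hTone : T₂ = 1 := by
        rw [← Nat.cast_sum, ← hT] at hAsum
        nlinarith
      rw [← Finset.add_sum_erase _ _ hζ₁, show n (f ζ₁) ζ₁ = 0 by omega, zero_mul, zero_add]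
      refine le_antisymm ?_ ?_ <;> rw [← hTone, hT]
      · refine Finset.sum_le_sum fun ζ hζ => ?_
        have h := hrel (f ζ₁) ζ (Finset.mem_of_mem_erase hζ)
        rw [he' ζ (Finset.mem_of_mem_erase hζ) (Finset.ne_of_mem_erase hζ), hc, mul_one, add_zero] at h
        have h3 : d ζ ≤ 1 := hTone ▸ Finset.single_le_sum (f := d) (fun _ _ => Nat.zero_le _) hζ
        rw [show n (f ζ₁) ζ = d ζ by omega]
        exact (Nat.mul_le_mul_left _ h3).trans (le_of_eq (mul_one _))
      · refine Finset.sum_le_sum fun ζ hζ => ?_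
        have h := hrel (f ζ₁) ζ (Finset.mem_of_mem_erase hζ)
        rw [he' ζ (Finset.mem_of_mem_erase hζ) (Finset.ne_of_mem_erase hζ), hc, mul_one, add_zero] at h
        rw [show n (f ζ₁) ζ = d ζ by omega]
        exact Nat.le_mul_of_pos_left _ (hdpos ζ (Finset.mem_of_mem_erase hζ))
  -- the permutation character at `t`
  have hfix : conjCount H t = Nat.card H := by
    have h := hperm t
    rw [Finset.sum_eq_single one] at h
    · rw [hm1, Nat.cast_one, one_mul, hone, oneChar_apply, mul_one] at h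
      exact_mod_cast h.symm
    · intro χ _ hχ
      by_cases hmχ : m χ = 0
      · rw [hmχ, Nat.cast_zero, zero_mul]
      · rw [hvan χ hχ hmχ, mul_zero]
    · exact fun h => absurd (Finset.mem_univ _) h
  have htH : t ∈ H := Subgroup.mem_centralizer_singleton_iff.2 rfl
  set X := Finset.univ.filter fun z : G => z⁻¹ * t * z ∈ H with hX
  have hsub : (Finset.univ : Finset H).image (fun h : H => (h : G)) ⊆ X := by
    intro z hz
    obtain ⟨h, -, rfl⟩ := Finset.mem_image.1 hz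
    simp only [hX, Finset.mem_filter, Finset.mem_univ, true_and]
    exact H.mul_mem (H.mul_mem (inv_mem h.2) htH) h.2
  have heq := Finset.eq_of_subset_of_card_le hsub (le_of_eq (by
    rw [show X.card = Nat.card H from hfix, Finset.card_image_of_injective _ Subtype.val_injective,
      Finset.card_univ, ← Nat.card_eq_fintype_card]))
  have hgX : g ∈ X := by
    simp only [hX, Finset.mem_filter, Finset.mem_univ, true_and]
    rw [hH, Subgroup.mem_centralizer_singleton_iff]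
    calc g⁻¹ * t * g * t = g⁻¹ * (t * (g * t * g⁻¹)) * g := by group
      _ = g⁻¹ * (g * t * g⁻¹ * t) * g := by rw [hg.eq]
      _ = t * (g⁻¹ * t * g) := by group
  rw [← heq] at hgX
  obtain ⟨h, -, rfl⟩ := Finset.mem_image.1 hgX
  rw [Subgroup.mem_centralizer_singleton_iff.1 h.2]
  group

end Cfsg.Agent.Lib.RankFive54.Coherent
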