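import Mathlib
import Cfsg.Agent.Lib.RankFive54.Basic
import Cfsg.Agent.S4033

/-!
# Two maximal values are coprime
-/

set_option autoImplicit false
set_option linter.style.haveILetI false
set_option linter.unusedSectionVars false

namespace Cfsg.Agent.Lib.RankFive54.Common

open Cfsg.Agent.Lib.ClassSizes.Basic
open Cfsg.Agent.Lib.Inv59.RankThree
open Cfsg.Agent.Lib.RankFour54

universe u

/-- Two incomparable values dominating all others, with representatives of prime order. -/
structure Heads (G : Type u) [Group G] (a b : ℕ) where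
  x : G
  y : G
  p : ℕ
  q : ℕ
  hp : p.Prime
  hq : q.Prime
  hxo : orderOf x = p
  hyo : orderOf y = q
  hxa : cn x = a
  hyb : cn y = b
  hab : ¬ a ∣ b
  hba : ¬ b ∣ a
  hall : ∀ v ∈ Cross.vals G, v ∣ a ∨ v ∣ b

variable {G : Type u} [Group G] [Finite G]

/-- The heads in the other order. -/
def Heads.swap {a b : ℕ} (H : Heads G a b) : Heads G b a :=
  ⟨H.y, H.x, H.q, H.p, H.hq, H.hp, H.hyo, H.hxo, H.hyb, H.hxa, H.hba, H.hab,
    fun v hv => (H.hall v hv).symm⟩

variable [IsSimpleGroup G] (hG : ¬ IsMulCommutative G)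
include hG

/-- Elements of the two maximal values do not commute. -/
theorem no_commute {a b : ℕ} (H : Heads G a b) {c d : G} (hc : cn c = a) (hd : cn d = b)
    (hc1 : c ≠ 1) (hd1 : d ≠ 1) : ¬ Commute d c := fun h =>
  not_coprime_commute hG hc1 hd1 (mem_cen.2 h.eq) (by
    rw [Cross.index_eq (hc.trans H.hxa.symm), Cross.index_eq (hd.trans H.hyb.symm)]
    exact Cross.index_coprime hG (x := H.x) (y := H.y) (by rw [H.hxa, H.hyb]; exact H.hall))

/-- The order of a head divides the index of the other. -/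
theorem dvd_index {a b : ℕ} (H : Heads G a b) :
    H.p ∣ (Subgroup.centralizer ({H.y} : Set G)).index := by
  by_contra h
  obtain ⟨g, hg⟩ := exists_conj_commute H.hp h H.hxo
  have hy1 := ne_one_of_prime H.hq H.hyo
  exact no_commute hG H H.hxa ((cn_conj g H.y).trans H.hyb) (ne_one_of_prime H.hp H.hxo)
    (conj_ne_one hy1) (mem_cen.1 hg)

theorem not_dvd_index {a b : ℕ} (H : Heads G a b) :
    ¬ H.p ∣ (Subgroup.centralizer ({H.x} : Set G)).index := fun h =>
  H.hp.ne_one (Nat.eq_one_of_dvd_coprimes (Cross.index_coprime hG (x := H.x) (y := H.y)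
    (by rw [H.hxa, H.hyb]; exact H.hall)) h (dvd_index hG H))

/-- An element of order `r` central in a Sylow subgroup of the centraliser of the first head. -/
theorem central_elt {a b : ℕ} (H : Heads G a b) {r : ℕ} (hr : r.Prime) (hra : r ∣ a)
    (hrb : ¬ r ∣ (Subgroup.centralizer ({H.y} : Set G)).index) :
    ∃ e : G, orderOf e = r ∧ r ≠ H.p ∧ Commute H.x e ∧ cn e ≠ a ∧ cn e ≠ b ∧ e ≠ 1 ∧
      cn (H.x * e) ∈ Cross.vals G ∧ cn (H.x * e) ≠ a ∧ cn (H.x * e) ≠ b ∧
      cn (H.x * e) ≠ cn e ∧ cn (H.x * e) ∣ cn e ∧ cn (H.x * e) ∣ a ∧ H.p ∣ cn (H.x * e) ∧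
      a.factorization r ≤ (cn (H.x * e)).factorization r ∧
      (r = H.q → ¬ cn e ∣ a) ∧
      (r ≠ H.q → ∃ u', u' ∈ Cross.vals G ∧ u' ≠ a ∧ u' ≠ b ∧ u' ∣ cn e ∧ u' ≠ cn e ∧ H.q ∣ u') := by
  classical
  haveI := Fact.mk hr
  obtain ⟨x, y, p, q, hp, hq, hxo, hyo, hxa, hyb, hab, hba, hall⟩ := H
  set H : Heads G a b := ⟨x, y, p, q, hp, hq, hxo, hyo, hxa, hyb, hab, hba, hall⟩ with hH
  have hpy : p ∣ (Subgroup.centralizer ({y} : Set G)).index := dvd_index hG H
  have hrp : r ≠ p := fun e => hrb (e ▸ hpy)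
  have hx1 : x ≠ 1 := ne_one_of_prime hp hxo
  have hy1 : y ≠ 1 := ne_one_of_prime hq hyo
  obtain ⟨R, -, hRx, hRp, hRcard⟩ :=
    exists_full (p := r) (H := Subgroup.centralizer ({x} : Set G)) IsPGroup.of_bot bot_le
  have hfac : 1 ≤ a.factorization r := (hr.dvd_iff_one_le_factorization
    (hxa ▸ (cn_pos x).ne')).1 hra
  have hcx : Nat.card (Subgroup.centralizer ({x} : Set G)) = a := hxa
  rw [hcx] at hRcard
  obtain ⟨e, heR, heo, hRe⟩ := exists_central_invariant hRp (fun h => by
    rw [h, Subgroup.card_bot] at hRcard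
    exact absurd hRcard (one_lt_pow₀ hr.one_lt (by omega)).ne)
  have he1 := ne_one_of_prime hr heo
  have hxe : Commute x e := mem_cen.1 (hRx heR)
  obtain ⟨g, hg⟩ := exists_conj_commute hr hrb heo
  set y' := g * y * g⁻¹ with hy'
  have hy'1 : y' ≠ 1 := conj_ne_one hy1
  have hy'b : cn y' = b := (cn_conj g y).trans hyb
  have hey : Commute y' e := mem_cen.1 hg
  have hva : cn e ≠ a := fun h => no_commute hG H h hy'b he1 hy'1 hey
  have hvb : cn e ≠ b := fun h => no_commute hG H hxa h hx1 he1 hxe.symm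
  obtain ⟨hC, hne1, hux, huv, hpu, -⟩ := pair hxe (coprime_orders hp hr hxo heo hrp.symm)
  rw [hxo] at hpu
  rw [hxa] at hux
  have hlow : ∀ u, u ∈ Cross.vals G → u ∣ cn e → u ≠ a ∧ u ≠ b := by
    intro u _ huv
    constructor
    · rintro rfl
      rcases hall _ (Cross.mem_vals he1) with h | h
      · exact hva (Nat.dvd_antisymm h huv)
      · exact hab (huv.trans h)
    · rintro rfl
      rcases hall _ (Cross.mem_vals he1) with h | h
      · exact hba (huv.trans h)
      · exact hvb (Nat.dvd_antisymm h huv)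
  obtain ⟨hua, hub⟩ := hlow _ (Cross.mem_vals (hne1 hx1)) huv
  have hxny' : x ∉ Subgroup.centralizer ({y'} : Set G) := fun h =>
    no_commute hG H hxa hy'b hx1 hy'1 (mem_cen.1 h)
  have huv' : cn (x * e) ≠ cn e := fun h => by
    have hle : Subgroup.centralizer ({e} : Set G) ≤ Subgroup.centralizer ({x} : Set G) := by
      rw [← eq_of_le_cn (hC.le.trans inf_le_right) h, hC]
      exact inf_le_left
    exact hxny' (mem_cen_comm.1 (hle (mem_cen.2 hey.symm.eq)))
  refine ⟨e, heo, hrp, hxe, hva, hvb, he1, Cross.mem_vals (hne1 hx1), hua, hub, huv', huv, hux, hpu,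
    fac_le_of_pow_dvd hr (cn_pos _).ne' (pow_dvd_cn hRcard (hC ▸ le_inf hRx hRe)),
    ?_, fun hne => ?_⟩
  · intro hrq hd
    change r = q at hrq
    set W := Subgroup.centralizer ({e} : Set G) with hW
    have hidx : ¬ r ∣ (R.subgroupOf W).index := by
      intro h
      have h1 : Nat.card R * (R.subgroupOf W).index = cn e := by
        rw [← Nat.card_congr (Subgroup.subgroupOfEquivOfLe hRe).toEquiv]
        exact Subgroup.card_mul_index _
      have h2 : Nat.card R * r ∣ a := ((Nat.mul_dvd_mul_left _ h).trans (dvd_of_eq h1)).trans hd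
      rw [hRcard, ← pow_succ, hr.pow_dvd_iff_le_factorization (hxa ▸ (cn_pos x).ne')] at h2
      omega
    have hy'o : orderOf (⟨y', mem_cen.2 hey.symm.eq⟩ : W) = r := by
      rw [Subgroup.orderOf_mk, hy', RankFour54.orderOf_conj, hyo, hrq]
    obtain ⟨c, hc⟩ := exists_conj_mem hr hidx hy'o
    exact no_commute hG H hxa ((cn_conj _ _).trans hy'b) hx1 (conj_ne_one hy'1)
      (mem_cen.1 (hRx (Subgroup.mem_subgroupOf.1 hc))).symm
  · change r ≠ q at hne
    obtain ⟨hC2, hne2, -, huv2, hqu, -⟩ := pair hey (coprime_orders hq hr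
      (by rw [hy', RankFour54.orderOf_conj, hyo]) heo hne.symm)
    rw [hy', RankFour54.orderOf_conj, hyo, ← hy'] at hqu
    obtain ⟨h1, h2⟩ := hlow _ (Cross.mem_vals (hne2 hy'1)) huv2
    refine ⟨_, Cross.mem_vals (hne2 hy'1), h1, h2, huv2, fun h => hxny' ?_, hqu⟩
    have hle : Subgroup.centralizer ({e} : Set G) ≤ Subgroup.centralizer ({y'} : Set G) := by
      rw [← eq_of_le_cn (hC2.le.trans inf_le_right) h, hC2]
      exact inf_le_left
    exact hle (mem_cen.2 hxe.symm.eq)

/-- The order of the second head divides the first value, and conversely, if they share a prime. -/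
theorem cross_dvd {a b : ℕ} (H : Heads G a b) {r : ℕ} (hr : r.Prime) (hra : r ∣ a) (hrb : r ∣ b)
    (hry : ¬ r ∣ (Subgroup.centralizer ({H.y} : Set G)).index) : H.q ∣ a ∧ H.p ∣ b := by
  obtain ⟨e, -, -, -, -, -, he1, -, -, -, -, huv, -, hpu, -, hsyl, hoth⟩ := central_elt hG H hr hra hry
  rcases H.hall _ (Cross.mem_vals he1) with hd | hd
  · have hrq : r ≠ H.q := fun h => hsyl h hd
    obtain ⟨u', -, -, -, hu', -, hqu⟩ := hoth hrq
    have hqa : H.q ∣ a := hqu.trans (hu'.trans hd)
    refine ⟨hqa, ?_⟩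
    obtain ⟨e2, -, -, -, -, -, he2, -, -, -, -, huv2, -, hpu2, -, hsyl2, -⟩ :=
      central_elt hG H H.hq hqa (not_dvd_index hG H.swap)
    exact hpu2.trans (huv2.trans ((H.hall _ (Cross.mem_vals he2)).resolve_left (hsyl2 rfl)))
  · have hpb : H.p ∣ b := hpu.trans (huv.trans hd)
    refine ⟨?_, hpb⟩
    obtain ⟨e2, -, -, -, -, -, he2, -, -, -, -, huv2, -, hpu2, -, hsyl2, -⟩ :=
      central_elt hG H.swap H.hp hpb (not_dvd_index hG H)
    exact hpu2.trans (huv2.trans ((H.hall _ (Cross.mem_vals he2)).resolve_right (hsyl2 rfl)))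

variable (h5 : (Cross.vals G).ncard = 5)
include h5

set_option maxHeartbeats 1000000 in
/-- The class sizes in the centraliser of the middle element form a power of the order of the
second head. -/
theorem middle {a b : ℕ} (H : Heads G a b) (hqa : H.q ∣ a) (hpb : H.p ∣ b) :
    ∃ u w k, u ∣ a ∧ 0 < k ∧ a.factorization H.q ≤ u.factorization H.q ∧ w = u * H.q ^ k ∧ w ≠ a ∧ w ≠ b ∧ w ∣ b ∧ ¬ w ∣ a ∧
      w ∈ Cross.vals G ∧ u ∈ Cross.vals G ∧
      ∀ v ∈ Cross.vals G, v ∣ a ∨ v = b ∨ v = w := by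
  classical
  obtain ⟨r, hro, hrp, hxr, hra', hrb', hr1, huV, hua, hub, huw, hudw, huda, hpu, hfq, hsyl, -⟩ :=
    central_elt hG H H.hq hqa (not_dvd_index hG H.swap)
  obtain ⟨e, -, -, -, hea, heb, he1, hu2V, hu2b, hu2a, hu2e, hu2de, hu2b', -, hfp, hsyl2, -⟩ :=
    central_elt hG H.swap H.hp hpb (not_dvd_index hG H)
  change cn e ≠ b at hea
  change cn e ≠ a at heb
  set x := H.x
  set y := H.y
  set u := cn (x * r) with hu
  set w := cn r with hw
  set v := cn e with hv
  set u2 := cn (H.swap.x * e) with hu2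
  have hwa : ¬ w ∣ a := hsyl rfl
  have hvb : ¬ v ∣ b := hsyl2 rfl
  have hwb : w ∣ b := (H.hall _ (Cross.mem_vals hr1)).resolve_left hwa
  have hva : v ∣ a := (H.hall _ (Cross.mem_vals he1)).resolve_right hvb
  have hvw : v ≠ w := fun h => hwa (h ▸ hva)
  have hne : a ≠ b := fun h => H.hab (h ▸ dvd_rfl)
  have hxV : a ∈ Cross.vals G := H.hxa ▸ Cross.mem_vals (ne_one_of_prime H.hp H.hxo)
  have hyV : b ∈ Cross.vals G := H.hyb ▸ Cross.mem_vals (ne_one_of_prime H.hq H.hyo)
  have huv : u ≠ v := fun h => hvb (h ▸ hudw.trans hwb)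
  have hnd : [a, b, v, w, u].Nodup := by
    simp only [List.nodup_cons, List.mem_cons, List.not_mem_nil, or_false, not_or, List.nodup_nil,
      and_true, not_false_eq_true]
    exact ⟨⟨hne, Ne.symm heb, Ne.symm hra', Ne.symm hua⟩, ⟨Ne.symm hea, Ne.symm hrb', Ne.symm hub⟩,
      ⟨hvw, huv.symm⟩, huw.symm⟩
  have hV := fun z (hz : z ∈ Cross.vals G) =>
    eq_of_five h5 hxV hyV (Cross.mem_vals he1) (Cross.mem_vals hr1) huV hz hnd
  have hu2u : u2 = u := by
    rcases hV u2 hu2V with h | h | h | h | h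
    · exact absurd h hu2a
    · exact absurd h hu2b
    · exact absurd h hu2e
    · exact absurd ((dvd_of_eq h.symm).trans (hu2de.trans hva)) hwa
    · exact h
  -- the `p`-parts
  have hp_w : ¬ H.p ∣ w / u := by
    intro hd
    obtain ⟨k, hk⟩ := hudw
    have hu0 : 0 < u := cn_pos _
    rw [hk, Nat.mul_div_cancel_left _ hu0] at hd
    have hk0 : k ≠ 0 := by rintro rfl; rw [mul_zero] at hk; exact (cn_pos r).ne' hk
    have h1 : w.factorization H.p = u.factorization H.p + k.factorization H.p := by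
      rw [hk, Nat.factorization_mul hu0.ne' hk0, Finsupp.add_apply]
    have h2 := fac_mono (p := H.p) (H.hyb ▸ (cn_pos y).ne') hwb
    have h3 : b.factorization H.p ≤ u2.factorization H.p := hfp
    rw [hu2u] at h3
    have := (H.hp.dvd_iff_one_le_factorization hk0).1 hd
    omega
  -- the centraliser of `r`
  set C := Subgroup.centralizer ({r} : Set G) with hC
  have hxC : x ∈ C := mem_cen.2 hxr.symm.eq
  have hclass : ∀ z : C, (ConjClasses.mk z).carrier.ncard = (Subgroup.centralizer ({z} : Set C)).index :=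
    fun z => by
      rw [← Nat.card_coe_set_eq]
      exact Cfsg.Agent.Lib.Induced.Integral.nat_card_carrier z
  have hsize : ∀ z : C, (orderOf z).Coprime H.q →
      (Subgroup.centralizer ({z} : Set C)).index = 1 ∨
      (Subgroup.centralizer ({z} : Set C)).index = w / u := by
    intro z hz
    rw [← Subgroup.orderOf_coe] at hz
    have hc : Commute r (z : G) := mem_cen.1 z.2
    obtain ⟨hCz, hne1, hdr, -⟩ := pair hc (by rw [hro]; exact hz.symm)
    have hcn : cn z = cn (r * (z : G)) := by rw [Local.cn_subtype, ← hCz]; rfl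
    have hmul := cn_mul_index z
    rw [hcn] at hmul
    change cn (r * (z : G)) * _ = w at hmul
    rcases hV _ (Cross.mem_vals (hne1 hr1)) with h | h | h | h | h
    · rw [h] at hdr; exact absurd (hdr.trans hwb) H.hab
    · rw [h] at hdr; exact absurd (Nat.dvd_antisymm hwb hdr) hrb'
    · rw [h] at hdr; exact absurd (hdr.trans hwb) hvb
    · left; rw [h] at hmul
      exact Nat.eq_of_mul_eq_mul_left (cn_pos r) (hmul.trans (mul_one _).symm)
    · right; rw [h] at hmul
      rw [← hmul, Nat.mul_div_cancel_left _ (cn_pos _)]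
  have hxq : (orderOf (⟨x, hxC⟩ : C)).Coprime H.q := by
    rw [Subgroup.orderOf_mk, H.hxo]; exact (Nat.coprime_primes H.hp H.hq).2 hrp.symm
  have hxi : (Subgroup.centralizer ({(⟨x, hxC⟩ : C)} : Set C)).index = w / u := by
    refine (hsize _ hxq).resolve_left fun h => hwa ?_
    have h2 : Subgroup.centralizer ({(⟨x, hxC⟩ : C)} : Set C) = ⊤ := Subgroup.index_eq_one.1 h
    refine H.hxa ▸ cn_dvd_of_le (x := r) (fun z hz => mem_cen.2 ?_)
    exact congrArg Subtype.val (mem_cen.1 (h2.ge (Subgroup.mem_top (⟨z, hz⟩ : C))))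
  have hwu : 1 < w / u := by
    obtain ⟨k, hk⟩ := hudw
    rw [hk, Nat.mul_div_cancel_left _ (cn_pos _)]
    rcases k with _ | _ | k
    · rw [mul_zero] at hk; exact absurd hk (cn_pos r).ne'
    · rw [zero_add, mul_one] at hk; exact absurd hk.symm huw
    · omega
  have h2 : (Set.range fun z : {z : C // (orderOf z).Coprime H.q} =>
      (ConjClasses.mk (z : C)).carrier.ncard).ncard = 2 := by
    rw [Set.ncard_eq_two]
    refine ⟨1, w / u, by omega, Set.ext fun n => ?_⟩
    constructor
    · rintro ⟨z, rfl⟩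
      simp only [hclass, Set.mem_insert_iff, Set.mem_singleton_iff]
      exact hsize z.1 z.2
    · rintro (rfl | rfl)
      · refine ⟨⟨1, by simp⟩, ?_⟩
        simp only [hclass]
        rw [Subgroup.index_eq_one, Subgroup.eq_top_iff']
        exact fun g => mem_cen.2 (by simp)
      · exact ⟨⟨⟨x, hxC⟩, hxq⟩, by simp only [hclass]; exact hxi⟩
  haveI := Fact.mk H.hp
  obtain ⟨k, hk⟩ : ∃ k, w / u = H.q ^ k := by
    rcases Cfsg.Agent.S4033.result H.hq h2 with ⟨K, hK, -, k, hk⟩ |
      ⟨q0, hq0, P, Q, A, -, hA, hcard, hN, hinf, hsup⟩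
    · haveI := Fact.mk H.hq
      obtain ⟨g, hg⟩ := exists_conj_mem H.hp (fun h : H.p ∣ K.index => by
          rw [hk] at h
          exact hrp ((Nat.prime_dvd_prime_iff_eq H.hp H.hq).1 (H.hp.dvd_of_dvd_pow h)).symm)
        (y := (⟨x, hxC⟩ : C)) (by rw [Subgroup.orderOf_mk, H.hxo])
      refine ((Nat.dvd_prime_pow H.hq).1 (show w / u ∣ H.q ^ k from ?_)).imp fun _ h => h.2
      rw [← hk, ← hxi, ← Cross.index_eq (cn_conj g (⟨x, hxC⟩ : C))]
      exact Subgroup.index_dvd_of_le fun z hz => mem_cen.2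
        (congrArg Subtype.val (hK.is_comm.comm ⟨_, hg⟩ ⟨z, hz⟩))
    · haveI := Fact.mk H.hq
      set T : Subgroup C := (P : Subgroup C) ⊔ (Q : Subgroup C) with hT
      haveI : T.Normal := hN
      have hAT : Nat.card T * Nat.card A = Nat.card C :=
        (Subgroup.isComplement'_of_disjoint_and_mul_eq_univ (disjoint_iff.2 hinf)
          (by rw [← Subgroup.normal_mul, hsup]; rfl)).card_mul_card
      have hdvd : w / u ∣ Nat.card T := by
        rw [← hxi]
        have h1 : A ≤ Subgroup.centralizer ({(⟨x, hxC⟩ : C)} : Set C) := fun z hz =>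
          mem_cen.2 (Subgroup.mem_center_iff.1 (hA hz) _)
        refine (Subgroup.index_dvd_of_le h1).trans (dvd_of_eq ?_)
        refine Nat.eq_of_mul_eq_mul_left (n := Nat.card A) Nat.card_pos ?_
        rw [A.card_mul_index, mul_comm, hAT]
      obtain ⟨i, hi⟩ := IsPGroup.iff_card.1 P.2
      obtain ⟨j, hj⟩ := IsPGroup.iff_card.1 Q.2
      have hall' : ∀ l : ℕ, l.Prime → l ∣ w / u → l = H.q ∨ l = q0 := fun l hl hd => by
        have h := hd.trans hdvd
        rw [hcard, hi, hj] at h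
        rcases hl.dvd_mul.1 h with h' | h'
        · exact Or.inl ((Nat.prime_dvd_prime_iff_eq hl H.hq).1 (hl.dvd_of_dvd_pow h'))
        · exact Or.inr ((Nat.prime_dvd_prime_iff_eq hl hq0.out).1 (hl.dvd_of_dvd_pow h'))
      refine ⟨_, Nat.eq_prime_pow_of_unique_prime_dvd (by omega) fun {l} hl hd => ?_⟩
      refine (hall' l hl hd).resolve_right fun hl0 => ?_
      rw [hl0] at hd
      by_cases hq0p : q0 = H.p
      · exact hp_w (hq0p ▸ hd)
      -- `x` would be central
      have hxA : (⟨x, hxC⟩ : C) ∈ A := by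
        obtain ⟨s, hs, z, hz, hsz⟩ : ∃ s ∈ T, ∃ z ∈ A, s * z = (⟨x, hxC⟩ : C) := by
          have h : (⟨x, hxC⟩ : C) ∈ ((T ⊔ A : Subgroup C) : Set C) := by
            rw [hsup]; exact Subgroup.mem_top _
          rw [Subgroup.normal_mul] at h
          exact h
        have hcs : Commute s z := (Subgroup.mem_center_iff.1 (hA hz) s)
        have hord : orderOf (⟨x, hxC⟩ : C) = H.p := by rw [Subgroup.orderOf_mk, H.hxo]
        have hp1 : s ^ H.p * z ^ H.p = 1 := by
          rw [← hcs.mul_pow, hsz, ← hord, pow_orderOf_eq_one]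
        have hsp : s ^ H.p = 1 := by
          have hm : s ^ H.p ∈ T ⊓ A := ⟨T.pow_mem hs _, by
            rw [eq_inv_of_mul_eq_one_left hp1]; exact A.inv_mem (A.pow_mem hz _)⟩
          rwa [hinf, Subgroup.mem_bot] at hm
        have hs1 : s = 1 := orderOf_eq_one_iff.1 (by
          by_contra h1
          have hd1 : orderOf s ∣ Nat.card T := by
            have := orderOf_dvd_natCard (⟨s, hs⟩ : T)
            rwa [Subgroup.orderOf_mk] at this
          rcases (Nat.dvd_prime H.hp).1 (orderOf_dvd_of_pow_eq_one hsp) with h | h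
          · exact h1 h
          rw [h, hcard, hi, hj] at hd1
          rcases H.hp.dvd_mul.1 hd1 with h' | h'
          · exact hrp ((Nat.prime_dvd_prime_iff_eq H.hp H.hq).1 (H.hp.dvd_of_dvd_pow h')).symm
          · exact hq0p ((Nat.prime_dvd_prime_iff_eq H.hp hq0.out).1 (H.hp.dvd_of_dvd_pow h')).symm)
        rw [hs1, one_mul] at hsz
        exact hsz ▸ hz
      have h1 : (Subgroup.centralizer ({(⟨x, hxC⟩ : C)} : Set C)).index = 1 := by
        rw [Subgroup.index_eq_one, Subgroup.eq_top_iff']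
        exact fun g => mem_cen.2 (Subgroup.mem_center_iff.1 (hA hxA) g).symm
      omega
  refine ⟨u, w, k, huda, Nat.pos_of_ne_zero fun h => ?_, hfq, ?_, hra', hrb', hwb, hwa,
    Cross.mem_vals hr1, huV, fun z hz => ?_⟩
  · rw [h, pow_zero] at hk; omega
  · rw [← hk, Nat.mul_div_cancel' hudw]
  · rcases hV z hz with h | h | h | h | h
    · exact Or.inl (h ▸ dvd_rfl)
    · exact Or.inr (Or.inl h)
    · exact Or.inl (h ▸ hva)
    · exact Or.inr (Or.inr h)
    · exact Or.inl (h ▸ huda)

theorem main_aux {a b : ℕ} (H : Heads G a b) {r : ℕ} (hr : r.Prime) (hra : r ∣ a) (hrb : r ∣ b)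
    (hry : ¬ r ∣ (Subgroup.centralizer ({H.y} : Set G)).index) : False := by
  obtain ⟨hqa, hpb⟩ := cross_dvd hG H hr hra hrb hry
  obtain ⟨u, w, k, hua, hk, hfu, hwu, hwa, hwb, hwdb, hwda, hwV, huV, hV⟩ := middle hG h5 H hqa hpb
  have hx1 := ne_one_of_prime H.hp H.hxo
  refine not_prime_pow hG hx1 H.hq (k := _) (Nat.eq_prime_pow_of_unique_prime_dvd
    Subgroup.index_ne_zero_of_finite fun {l} hl hd => ?_)
  have hfa := (fac_index hl H.x).1 hd
  rw [H.hxa] at hfa
  have ha0 : a ≠ 0 := H.hxa ▸ (cn_pos H.x).ne'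
  have hu0 : u ≠ 0 := ne_zero_of_dvd_ne_zero ha0 hua
  obtain ⟨L, z, -, hzo, -, hzfac⟩ := exists_full_central hl (hd.trans (Subgroup.index_dvd_card _))
  have hz1 := ne_one_of_prime hl hzo
  rcases hV _ (Cross.mem_vals hz1) with h | h | h
  · exact absurd (fac_mono (p := l) ha0 h) (by omega)
  · -- `z` replaces the second head
    set H' : Heads G a b := ⟨H.x, z, H.p, l, H.hp, hl, H.hxo, hzo, H.hxa, h, H.hab, H.hba, H.hall⟩
    have hind := Cross.index_coprime hG (x := H.x) (y := H.y) (by rw [H.hxa, H.hyb]; exact H.hall)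
    have hlz : ¬ l ∣ (Subgroup.centralizer ({z} : Set G)).index := fun h' => by
      rw [Cross.index_eq (h.trans H.hyb.symm)] at h'
      exact hl.ne_one (Nat.eq_one_of_dvd_coprimes hind hd h')
    obtain ⟨hla, hpb'⟩ : l ∣ a ∧ H.p ∣ b := by
      have hry' : ¬ r ∣ (Subgroup.centralizer ({H'.y} : Set G)).index := by
        show ¬ r ∣ (Subgroup.centralizer ({z} : Set G)).index
        rw [Cross.index_eq (h.trans H.hyb.symm)]
        exact hry
      exact cross_dvd hG H' hr hra hrb hry'
    obtain ⟨u', w', k', hua', hk', hfu', hwu', hwa', hwb', hwdb', hwda', hwV', huV', hV'⟩ :=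
      middle hG h5 H' hla hpb'
    have hww : w' = w := by
      rcases hV w' hwV' with h1 | h1 | h1
      · exact absurd h1 hwda'
      · exact absurd h1 hwb'
      · exact h1
    have hq' : (u * H.q ^ k).factorization l = (u' * l ^ k').factorization l := by
      change w' = u' * l ^ k' at hwu'
      rw [← hwu, ← hww, hwu']
    have hu0' : u' ≠ 0 := ne_zero_of_dvd_ne_zero ha0 hua'
    change a.factorization l ≤ u'.factorization l at hfu'
    rw [Nat.factorization_mul hu0 (pow_ne_zero _ H.hq.ne_zero), Finsupp.add_apply,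
      Nat.Prime.factorization_pow H.hq, Finsupp.single_apply,
      Nat.factorization_mul hu0' (pow_ne_zero _ hl.ne_zero), Finsupp.add_apply,
      Nat.Prime.factorization_pow hl, Finsupp.single_eq_same] at hq'
    have := fac_mono (p := l) ha0 hua
    split_ifs at hq' with hql
    · exact hql.symm
    · omega
  · rw [h, hwu, Nat.factorization_mul hu0 (pow_ne_zero _ H.hq.ne_zero), Finsupp.add_apply,
      Nat.Prime.factorization_pow H.hq, Finsupp.single_apply] at hzfac
    have := fac_mono (p := l) ha0 hua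
    split_ifs at hzfac with hql
    · exact hql.symm
    · omega

/-- Two maximal values are coprime. -/
theorem coprime_of_two_max {a b : ℕ} (H : Heads G a b) : a.Coprime b := by
  refine Nat.coprime_of_dvd fun r hr hra hrb => ?_
  by_cases h : r ∣ (Subgroup.centralizer ({H.y} : Set G)).index
  · refine main_aux hG h5 H.swap hr hrb hra fun h' => hr.ne_one (Nat.eq_one_of_dvd_coprimes
      (Cross.index_coprime hG (x := H.x) (y := H.y) (by rw [H.hxa, H.hyb]; exact H.hall)) h' h)
  · exact main_aux hG h5 H hr hra hrb h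

end Cfsg.Agent.Lib.RankFive54.Common
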