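import Mathlib
import Cfsg.Agent.Lib.Cores.Basic

/-!
# A group with two primes whose central series elements are central

Auxiliary facts about a solvable `{l, m}`-group in which every element centralising a Sylow
subgroup of its own prime is central.
-/

set_option autoImplicit false
set_option linter.style.haveILetI false
set_option linter.unusedSectionVars false

namespace Cfsg.Agent.Lib.RankFive54.Pure

open scoped commutatorElement

universe u

variable {H : Type u} [Group H] [Finite H]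

/-- A Sylow subgroup centralises a non-identity element of each non-identity normal subgroup of
its prime. -/
theorem exists_fixed {l : ℕ} [hl : Fact l.Prime] (A : Subgroup H) [hA : A.Normal]
    (hAp : IsPGroup l A) (hne : A ≠ ⊥) :
    ∃ (P : Sylow l H) (v : H), v ∈ A ∧ v ≠ 1 ∧
      (P : Subgroup H) ≤ Subgroup.centralizer ({v} : Set H) := by
  obtain ⟨P, hP⟩ := hAp.exists_le_sylow
  haveI : Group.IsNilpotent (P : Subgroup H) := P.2.isNilpotent
  haveI : (A.subgroupOf (P : Subgroup H)).Normal := hA.comap _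
  haveI : Nontrivial A := (Subgroup.nontrivial_iff_ne_bot _).2 hne
  obtain ⟨n, hn, hn'⟩ := hAp.nontrivial_iff_card.1 inferInstance
  haveI : Fintype (A.subgroupOf (P : Subgroup H)) := Fintype.ofFinite _
  letI : MulAction (P : Subgroup H) A := MulAction.compHom A
    ((MulAut.conjNormal : H →* MulAut A).comp (P : Subgroup H).subtype)
  have hdvd : l ∣ Nat.card A := hn' ▸ dvd_pow_self l hn.ne'
  obtain ⟨v, hv, hv1⟩ := P.2.exists_fixed_point_of_prime_dvd_card_of_fixed_point A hdvd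
    (a := (1 : A)) (fun g => Subtype.ext (show (g : H) * 1 * (g : H)⁻¹ = 1 by group))
  refine ⟨P, v, v.2, fun h => hv1 (Subtype.ext h).symm, fun g hg => ?_⟩
  rw [Subgroup.mem_centralizer_singleton_iff]
  have h := congrArg Subtype.val (hv ⟨g, hg⟩)
  change g * (v : H) * g⁻¹ = v at h
  exact mul_inv_eq_iff_eq_mul.1 h

/-- A normal subgroup acting as an `m`-group on an abelian normal `l`-group centralises it. -/
theorem centralises {l m : ℕ} [hl : Fact l.Prime] [hm : Fact m.Prime] (hlm : l ≠ m)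
    (hz : ∀ (v : H) (P : Sylow l H), (P : Subgroup H) ≤ Subgroup.centralizer ({v} : Set H) →
      (∃ i, orderOf v = l ^ i) → v ∈ Subgroup.center H)
    (A : Subgroup H) [hA : A.Normal] (hAp : IsPGroup l A) (hAc : ∀ x ∈ A, ∀ y ∈ A, Commute x y)
    (K : Subgroup H) [hK : K.Normal]
    (hKm : ∀ k ∈ K, ∃ j, k ^ m ^ j ∈ Subgroup.centralizer (A : Set H)) :
    K ≤ Subgroup.centralizer (A : Set H) := by
  classical
  by_contra hne
  have hbot : ⁅A, K⁆ ≠ ⊥ := fun h => hne (Subgroup.commutator_eq_bot_iff_le_centralizer.1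
    ((Subgroup.commutator_comm K A).trans h))
  have hle : ⁅A, K⁆ ≤ A := Subgroup.commutator_le_left A K
  obtain ⟨P, v, hv, hv1, hPv⟩ := exists_fixed ⁅A, K⁆ (hAp.to_le hle) hbot
  obtain ⟨i, hi⟩ := IsPGroup.iff_orderOf.1 hAp ⟨v, hle hv⟩
  rw [Subgroup.orderOf_mk] at hi
  have hvc : v ∈ Subgroup.center H := hz v P hPv ⟨i, hi⟩
  -- the norm map of the action of `K` on `A`
  letI : CommGroup A :=
    { (inferInstance : Group A) with mul_comm := fun x y => Subtype.ext (hAc x x.2 y y.2).eq }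
  set f : K →* MulAut A := (MulAut.conjNormal : H →* MulAut A).comp K.subtype with hf
  haveI := Fintype.ofFinite f.range
  obtain ⟨j, hj⟩ : ∃ j, Nat.card f.range = m ^ j := by
    refine IsPGroup.iff_card.1 fun r => ?_
    obtain ⟨⟨k, hk⟩, hr⟩ := r.2
    obtain ⟨j, hj⟩ := hKm k hk
    refine ⟨j, Subtype.ext ?_⟩
    rw [SubmonoidClass.coe_pow, ← hr, ← map_pow]
    refine MulEquiv.ext fun x => Subtype.ext ?_
    show k ^ m ^ j * (x : H) * (k ^ m ^ j)⁻¹ = x
    exact mul_inv_eq_iff_eq_mul.2 (Subgroup.mem_centralizer_iff.1 hj x x.2).symm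
  let ψ : A →* A :=
    { toFun := fun x => ∏ r : f.range, (r : MulAut A) x
      map_one' := by simp
      map_mul' := fun x y => by simp [Finset.prod_mul_distrib] }
  have hinv : ∀ (k : K) (x : A), ψ (f k x) = ψ x := by
    intro k x
    let r0 : f.range := ⟨f k, k, rfl⟩
    refine Fintype.prod_equiv (Equiv.mulRight r0) (fun r : f.range => (r : MulAut A) (f k x))
      (fun r : f.range => (r : MulAut A) x) fun r => ?_
    simp [r0, MulAut.mul_apply]
  have hker : ⁅A, K⁆ ≤ (ψ.ker).map A.subtype := by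
    rw [Subgroup.commutator_le]
    intro x hx k hk
    refine ⟨⟨x, hx⟩ * (f ⟨k, hk⟩ ⟨x, hx⟩)⁻¹, ?_, ?_⟩
    · rw [SetLike.mem_coe, MonoidHom.mem_ker, map_mul, map_inv, hinv, mul_inv_cancel]
    · show x * (k * x * k⁻¹)⁻¹ = ⁅x, k⁆
      rw [commutatorElement_def]
      group
  obtain ⟨w, hw, hwv⟩ := hker hv
  rw [SetLike.mem_coe, MonoidHom.mem_ker] at hw
  have hfix : ∀ r : f.range, (r : MulAut A) w = w := by
    rintro ⟨_, ⟨k, hk⟩, rfl⟩
    refine Subtype.ext ?_
    show k * (w : H) * k⁻¹ = w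
    rw [show (w : H) = v from hwv, Subgroup.mem_center_iff.1 hvc k, mul_inv_cancel_right]
  have hpow : v ^ (m ^ j) = 1 := by
    have h : ψ w = w ^ (m ^ j) := by
      show ∏ r : f.range, (r : MulAut A) w = _
      rw [Finset.prod_congr rfl fun r _ => hfix r, Finset.prod_const, Finset.card_univ,
        ← Nat.card_eq_fintype_card, hj]
    rw [hw] at h
    rw [← hwv]
    exact (congrArg Subtype.val h).symm
  refine hv1 (orderOf_eq_one_iff.1 (Nat.eq_one_of_dvd_coprimes ?_ (orderOf_dvd_of_pow_eq_one hpow)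
    (dvd_of_eq hi)))
  exact Nat.Coprime.pow j i ((Nat.coprime_primes hm.out hl.out).2 hlm.symm)

/-- The configuration: two primes, with a predicate `E` marking the elements with small
centraliser. -/
structure Hyp (H : Type u) [Group H] (l m : ℕ) (E : H → Prop) : Prop where
  hl : l.Prime
  hm : m.Prime
  hlm : l ≠ m
  card : ∀ q : ℕ, q.Prime → q ∣ Nat.card H → q = l ∨ q = m
  solv : Group.IsSolvable H
  zl : ∀ (v : H) (P : Sylow l H), (P : Subgroup H) ≤ Subgroup.centralizer ({v} : Set H) →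
      (∃ i, orderOf v = l ^ i) → v ∈ Subgroup.center H
  zm : ∀ (v : H) (P : Sylow m H), (P : Subgroup H) ≤ Subgroup.centralizer ({v} : Set H) →
      (∃ i, orderOf v = m ^ i) → v ∈ Subgroup.center H
  cell : ∀ v u : H, (∃ i, orderOf v = l ^ i) → (∃ i, orderOf u = m ^ i) →
      v ∉ Subgroup.center H → u ∉ Subgroup.center H → Commute v u → E v ∨ E u →
      Subgroup.centralizer ({v} : Set H) = Subgroup.centralizer ({u} : Set H)
  comm_l : ∀ (P : Sylow l H), ∀ v ∈ (P : Subgroup H), ∀ v' ∈ (P : Subgroup H),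
      v ∉ Subgroup.center H → v' ∉ Subgroup.center H → ¬ E v → ¬ E v' → Commute v v'
  comm_m : ∀ (P : Sylow m H), ∀ v ∈ (P : Subgroup H), ∀ v' ∈ (P : Subgroup H),
      v ∉ Subgroup.center H → v' ∉ Subgroup.center H → ¬ E v → ¬ E v' → Commute v v'

variable {l m : ℕ} {E : H → Prop}

omit [Finite H] in
theorem Hyp.symm (X : Hyp H l m E) : Hyp H m l E :=
  ⟨X.hm, X.hl, X.hlm.symm, fun q hq hd => (X.card q hq hd).symm, X.solv, X.zm, X.zl,
    fun v u hv hu hvc huc hc hE => (X.cell u v hu hv huc hvc hc.symm hE.symm).symm,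
    X.comm_m, X.comm_l⟩

/-- A proper normal subgroup lies in a larger one with quotient an `l`- or `m`-group. -/
theorem exists_above (X : Hyp H l m E) (N : Subgroup H) [N.Normal] (hN : N ≠ ⊤) :
    ∃ (p : ℕ) (K : Subgroup H), (p = l ∨ p = m) ∧ K.Normal ∧ ¬ K ≤ N ∧
      ∀ k ∈ K, ∃ j, k ^ p ^ j ∈ N := by
  haveI := X.solv
  haveI : Nontrivial (H ⧸ N) := QuotientGroup.nontrivial_iff.2 hN
  haveI : Group.IsSolvable (H ⧸ N) := Group.isSolvable_of_surjective (QuotientGroup.mk'_surjective N)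
  obtain ⟨p, hp, hne⟩ : ∃ p : ℕ, p.Prime ∧ Cfsg.pCore p (H ⧸ N) ≠ ⊥ := by
    by_contra! hall
    refine Cores.fittingSubgroup_ne_bot (G := H ⧸ N) ?_
    rw [Cores.fittingSubgroup_eq_iSup_pCore]
    exact iSup_eq_bot.2 fun r => hall r r.2
  haveI := Fact.mk hp
  have hpg := Cores.pCore_isPGroup (G := H ⧸ N) p
  refine ⟨p, (Cfsg.pCore p (H ⧸ N)).comap (QuotientGroup.mk' N), X.card p hp ?_,
    Subgroup.Normal.comap inferInstance _, fun hle => hne ?_, fun k hk => ?_⟩
  · haveI : Nontrivial (Cfsg.pCore p (H ⧸ N)) := (Subgroup.nontrivial_iff_ne_bot _).2 hne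
    obtain ⟨n, hn, hn'⟩ := hpg.nontrivial_iff_card.1 inferInstance
    exact ((hn' ▸ dvd_pow_self p hn.ne' : p ∣ Nat.card (Cfsg.pCore p (H ⧸ N))).trans
      (Subgroup.card_subgroup_dvd_card _)).trans (Subgroup.card_quotient_dvd_card N)
  · rw [← Subgroup.map_comap_eq_self_of_surjective (QuotientGroup.mk'_surjective N)
      (Cfsg.pCore p (H ⧸ N)), eq_bot_iff]
    rintro _ ⟨k, hk, rfl⟩
    exact Subgroup.mem_bot.2 ((QuotientGroup.eq_one_iff k).2 (hle hk))
  · obtain ⟨j, hj⟩ := hpg ⟨_, hk⟩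
    refine ⟨j, (QuotientGroup.eq_one_iff _).1 ?_⟩
    rw [QuotientGroup.mk_pow]
    exact congrArg Subtype.val hj

theorem commute_cores (X : Hyp H l m E) {v u : H} (hv : v ∈ Cfsg.pCore l H)
    (hu : u ∈ Cfsg.pCore m H) : Commute v u := by
  haveI := Fact.mk X.hl
  haveI := Fact.mk X.hm
  exact Subgroup.commute_of_normal_of_disjoint _ _ inferInstance inferInstance
    (IsPGroup.disjoint_of_ne l m X.hlm _ _ (Cores.pCore_isPGroup l) (Cores.pCore_isPGroup m))
    v u hv hu

theorem order_of_mem {p : ℕ} [Fact p.Prime] {v : H} {P : Subgroup H} (hP : IsPGroup p P)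
    (hv : v ∈ P) : ∃ i, orderOf v = p ^ i := by
  obtain ⟨i, hi⟩ := IsPGroup.iff_orderOf.1 hP ⟨v, hv⟩
  exact ⟨i, by rwa [Subgroup.orderOf_mk] at hi⟩

/-- No element of small centraliser outside the centre in the `l`-core. -/
theorem false_of_small (X : Hyp H l m E) (hM : ¬ Cfsg.pCore m H ≤ Subgroup.center H) {v : H}
    (hvL : v ∈ Cfsg.pCore l H) (hvc : v ∉ Subgroup.center H) (hvE : E v) : False := by
  haveI := Fact.mk X.hl
  haveI := Fact.mk X.hm
  set L := Cfsg.pCore l H
  set M := Cfsg.pCore m H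
  have hLp : IsPGroup l L := Cores.pCore_isPGroup l
  have hMp : IsPGroup m M := Cores.pCore_isPGroup m
  set N₀ := Subgroup.centralizer ({v} : Set H)
  obtain ⟨u0, hu0, hu0c⟩ := SetLike.not_le_iff_exists.1 hM
  have hcell : ∀ u ∈ M, u ∉ Subgroup.center H →
      N₀ = Subgroup.centralizer ({u} : Set H) := fun u hu huc =>
    X.cell v u (order_of_mem hLp hvL) (order_of_mem hMp hu) hvc huc (commute_cores X hvL hu)
      (Or.inl hvE)
  have hN : N₀ = Subgroup.centralizer (M : Set H) := by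
    refine le_antisymm (fun g hg => Subgroup.mem_centralizer_iff.2 fun u hu => ?_) ?_
    · by_cases huc : u ∈ Subgroup.center H
      · exact (Subgroup.mem_center_iff.1 huc g).symm
      · rw [hcell u hu huc] at hg
        exact (Subgroup.mem_centralizer_singleton_iff.1 hg).symm
    · rw [hcell u0 hu0 hu0c]
      exact Subgroup.centralizer_le (by simpa using hu0)
  haveI : N₀.Normal := by rw [hN]; infer_instance
  have hMN : M ≤ N₀ := fun u hu => Subgroup.mem_centralizer_singleton_iff.2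
    (commute_cores X hvL hu).eq.symm
  have hMc : ∀ x ∈ M, ∀ y ∈ M, Commute x y := fun x hx y hy =>
    Subgroup.mem_centralizer_iff.1 (hN ▸ hMN hy : y ∈ Subgroup.centralizer (M : Set H)) x hx
  set A : Subgroup H := L ⊓ N₀ ⊓ Subgroup.centralizer (N₀ : Set H)
  haveI : A.Normal := inferInstance
  have hvA : v ∈ A := ⟨⟨hvL, Subgroup.mem_centralizer_singleton_iff.2 rfl⟩,
    Subgroup.mem_centralizer_iff.2 fun g hg => Subgroup.mem_centralizer_singleton_iff.1 hg⟩
  have hAc : ∀ x ∈ A, ∀ y ∈ A, Commute x y := fun x hx y hy =>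
    Subgroup.mem_centralizer_iff.1 hy.2 x hx.1.2
  have hAN : Subgroup.centralizer (A : Set H) ≤ N₀ :=
    Subgroup.centralizer_le (by simpa using hvA)
  have hNA : N₀ ≤ Subgroup.centralizer (A : Set H) := fun g hg =>
    Subgroup.mem_centralizer_iff.2 fun x hx => (Subgroup.mem_centralizer_iff.1 hx.2 g hg).symm
  have htop : N₀ ≠ ⊤ := fun h => hvc (Subgroup.mem_center_iff.2 fun g =>
    Subgroup.mem_centralizer_singleton_iff.1 (h ▸ Subgroup.mem_top g : g ∈ N₀))
  obtain ⟨p, K, hp, hKn, hKne, hKp⟩ := exists_above X N₀ htop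
  haveI := hKn
  rcases hp with rfl | rfl
  · exact hKne ((centralises X.hlm.symm X.zm M hMp hMc K fun k hk => by
      obtain ⟨j, hj⟩ := hKp k hk
      exact ⟨j, hN ▸ hj⟩).trans hN.ge)
  · exact hKne ((centralises X.hlm X.zl A (hLp.to_le (inf_le_left.trans inf_le_left)) hAc K
      fun k hk => by
        obtain ⟨j, hj⟩ := hKp k hk
        exact ⟨j, hNA hj⟩).trans hAN)

/-- With both cores abelian, a normal subgroup over the Fitting subgroup with an `m`-group quotient
is trivial. -/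
theorem false_of_layer (X : Hyp H l m E) (hLc : ∀ x ∈ Cfsg.pCore l H, ∀ y ∈ Cfsg.pCore l H, Commute x y)
    (K : Subgroup H) [K.Normal] (hK : ¬ K ≤ Cfsg.pCore l H ⊔ Cfsg.pCore m H)
    (hKm : ∀ k ∈ K, ∃ j, k ^ m ^ j ∈ Cfsg.pCore l H ⊔ Cfsg.pCore m H) : False := by
  haveI := Fact.mk X.hl
  haveI := Fact.mk X.hm
  set L := Cfsg.pCore l H
  set M := Cfsg.pCore m H
  have hLp : IsPGroup l L := Cores.pCore_isPGroup l
  have hFC : L ⊔ M ≤ Subgroup.centralizer (L : Set H) := sup_le
    (fun x hx => Subgroup.mem_centralizer_iff.2 fun y hy => hLc y hy x hx)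
    (fun x hx => Subgroup.mem_centralizer_iff.2 fun y hy => (commute_cores X hy hx).eq)
  have hKC : K ≤ Subgroup.centralizer (L : Set H) :=
    centralises X.hlm X.zl L hLp hLc K fun k hk => by
      obtain ⟨j, hj⟩ := hKm k hk
      exact ⟨j, hFC hj⟩
  have hker : (L.subgroupOf K) ≤ Subgroup.center K := fun x hx =>
    Subgroup.mem_center_iff.2 fun y => Subtype.ext
      ((Subgroup.mem_centralizer_iff.1 (hKC y.2) _ (Subgroup.mem_subgroupOf.1 hx)).symm)
  have hq : IsPGroup m (K ⧸ L.subgroupOf K) := by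
    intro q
    obtain ⟨k, rfl⟩ := QuotientGroup.mk'_surjective _ q
    obtain ⟨j, hj⟩ := hKm k k.2
    obtain ⟨x, hx, y, hy, hxy⟩ := Subgroup.mem_sup_of_normal_right.1 hj
    obtain ⟨i, hi⟩ := order_of_mem (Cores.pCore_isPGroup m) hy
    refine ⟨j + i, ?_⟩
    rw [← map_pow, QuotientGroup.mk'_apply, QuotientGroup.eq_one_iff, Subgroup.mem_subgroupOf,
      SubmonoidClass.coe_pow, pow_add, pow_mul, ← hxy, (commute_cores X hx hy).mul_pow, ← hi,
      pow_orderOf_eq_one, mul_one]
    exact pow_mem hx _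
  haveI : Group.IsNilpotent (K ⧸ L.subgroupOf K) := hq.isNilpotent
  haveI hKnil : Group.IsNilpotent K := Subgroup.isNilpotent_of_ker_le_center
    (QuotientGroup.mk' (L.subgroupOf K)) (by rw [QuotientGroup.ker_mk']; exact hker)
  refine hK ((Cores.le_iSup_pCore hKnil).trans (iSup_le fun r => ?_))
  haveI : Fact (r : ℕ).Prime := ⟨r.2⟩
  by_cases hr : Cfsg.pCore (r : ℕ) H = ⊥
  · rw [hr]; exact bot_le
  haveI : Nontrivial (Cfsg.pCore (r : ℕ) H) := (Subgroup.nontrivial_iff_ne_bot _).2 hr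
  obtain ⟨n, hn, hn'⟩ := (Cores.pCore_isPGroup (G := H) (r : ℕ)).nontrivial_iff_card.1 inferInstance
  rcases X.card r r.2 ((hn' ▸ dvd_pow_self (r : ℕ) hn.ne' :
    (r : ℕ) ∣ Nat.card (Cfsg.pCore (r : ℕ) H)).trans (Subgroup.card_subgroup_dvd_card _)) with e | e
  · rw [e]; exact le_sup_left
  · rw [e]; exact le_sup_right

/-- One of the two cores is central. -/
theorem core_central (X : Hyp H l m E) :
    Cfsg.pCore l H ≤ Subgroup.center H ∨ Cfsg.pCore m H ≤ Subgroup.center H := by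
  by_contra! h
  obtain ⟨hL, hM⟩ := h
  haveI := Fact.mk X.hl
  haveI := Fact.mk X.hm
  by_cases hs : ∃ v ∈ Cfsg.pCore l H, v ∉ Subgroup.center H ∧ E v
  · obtain ⟨v, h1, h2, h3⟩ := hs
    exact false_of_small X hM h1 h2 h3
  by_cases hs' : ∃ v ∈ Cfsg.pCore m H, v ∉ Subgroup.center H ∧ E v
  · obtain ⟨v, h1, h2, h3⟩ := hs'
    exact false_of_small X.symm hL h1 h2 h3
  push Not at hs hs'
  have hab : ∀ {p : ℕ} [Fact p.Prime],
      (∀ (P : Sylow p H), ∀ v ∈ (P : Subgroup H), ∀ v' ∈ (P : Subgroup H), v ∉ Subgroup.center H →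
        v' ∉ Subgroup.center H → ¬ E v → ¬ E v' → Commute v v') →
      (∀ v ∈ Cfsg.pCore p H, v ∉ Subgroup.center H → ¬ E v) →
      ∀ x ∈ Cfsg.pCore p H, ∀ y ∈ Cfsg.pCore p H, Commute x y := by
    intro p _ hcomm hE x hx y hy
    obtain ⟨P, hP⟩ := (Cores.pCore_isPGroup (G := H) p).exists_le_sylow
    by_cases hxc : x ∈ Subgroup.center H
    · exact (Subgroup.mem_center_iff.1 hxc y).symm
    by_cases hyc : y ∈ Subgroup.center H
    · exact Subgroup.mem_center_iff.1 hyc x
    exact hcomm P x (hP hx) y (hP hy) hxc hyc (hE x hx hxc) (hE y hy hyc)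
  have hLc := hab X.comm_l hs
  have hMc := hab X.comm_m hs'
  have htop : Cfsg.pCore l H ⊔ Cfsg.pCore m H ≠ ⊤ := fun ht => hL fun x hx => by
    refine Subgroup.mem_center_iff.2 fun g => ?_
    have hg : g ∈ Subgroup.centralizer (Cfsg.pCore l H : Set H) := by
      refine (sup_le (fun u hu => Subgroup.mem_centralizer_iff.2 fun w hw => hLc w hw u hu)
        (fun u hu => Subgroup.mem_centralizer_iff.2 fun w hw => (commute_cores X hw hu).eq) :
        Cfsg.pCore l H ⊔ Cfsg.pCore m H ≤ _) (ht ▸ Subgroup.mem_top g)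
    exact (Subgroup.mem_centralizer_iff.1 hg x hx).symm
  obtain ⟨p, K, hp, hKn, hKne, hKp⟩ := exists_above X _ htop
  haveI := hKn
  rcases hp with rfl | rfl
  · rw [sup_comm] at hKne
    exact false_of_layer X.symm hMc K hKne fun k hk => by
      obtain ⟨j, hj⟩ := hKp k hk
      exact ⟨j, by rwa [sup_comm]⟩
  · exact false_of_layer X hLc K hKne hKp

end Cfsg.Agent.Lib.RankFive54.Pure
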