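import Mathlib
import Cfsg.Agent.Lib.RankFive54.Common

/-!
# Two coprime maximal values split the group
-/

set_option autoImplicit false
set_option linter.style.haveILetI false
set_option linter.unusedSectionVars false

namespace Cfsg.Agent.Lib.RankFive54.Split

open Cfsg.Agent.Lib.ClassSizes.Basic
open Cfsg.Agent.Lib.Inv59.RankThree
open Cfsg.Agent.Lib.RankFour54

universe u

/-- Two coprime values whose product is the group order and which dominate all others. -/
structure IsSplit (G : Type u) [Group G] (a b : ℕ) : Prop where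
  ha : a ∈ Cross.vals G
  hb : b ∈ Cross.vals G
  cop : a.Coprime b
  card : Nat.card G = a * b
  hall : ∀ v ∈ Cross.vals G, v ∣ a ∨ v ∣ b

variable {G : Type u} [Group G] [Finite G]

theorem IsSplit.symm {a b : ℕ} (S : IsSplit G a b) : IsSplit G b a :=
  ⟨S.hb, S.ha, S.cop.symm, by rw [S.card, mul_comm], fun v hv => (S.hall v hv).symm⟩

/-- A coprime pair of maximal values splits the group. -/
theorem of_heads [IsSimpleGroup G] (hG : ¬ IsMulCommutative G) {a b : ℕ}
    (H : Common.Heads G a b) (hcop : a.Coprime b) : IsSplit G a b := by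
  have hind := Cross.index_coprime hG (x := H.x) (y := H.y) (by rw [H.hxa, H.hyb]; exact H.hall)
  set ia := (Subgroup.centralizer ({H.x} : Set G)).index
  set ib := (Subgroup.centralizer ({H.y} : Set G)).index
  have hga : a * ia = Nat.card G := by rw [← cn_mul_index H.x, H.hxa]
  have hgb : b * ib = Nat.card G := by rw [← cn_mul_index H.y, H.hyb]
  have e : ib = a := Nat.dvd_antisymm
    ((hind.symm).dvd_of_dvd_mul_right (m := a) ⟨b, by rw [hga, ← hgb, mul_comm b ib]⟩)
    (hcop.dvd_of_dvd_mul_right (m := ib) ⟨ia, by rw [hga, ← hgb, mul_comm b ib]⟩)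
  exact ⟨H.hxa ▸ Cross.mem_vals (ne_one_of_prime H.hp H.hxo),
    H.hyb ▸ Cross.mem_vals (ne_one_of_prime H.hq H.hyo), hcop,
    by rw [← hgb, e, mul_comm], H.hall⟩

variable {a b : ℕ} (S : IsSplit G a b)
include S

theorem pos : 0 < a ∧ 0 < b := by
  have h : 0 < Nat.card G := Nat.card_pos
  rw [S.card] at h
  exact CanonicallyOrderedAdd.mul_pos.1 h

theorem not_both {v : ℕ} (hv : v ∈ Cross.vals G) : ¬ (v ∣ a ∧ v ∣ b) := fun h => by
  have := Cross.two_le_of_mem hv
  have := Nat.eq_one_of_dvd_coprimes S.cop h.1 h.2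
  omega

theorem not_dvd : ¬ a ∣ b := fun h => not_both S S.ha ⟨dvd_rfl, h⟩

theorem index_eq {x : G} (h : cn x = a) : (Subgroup.centralizer ({x} : Set G)).index = b :=
  Nat.eq_of_mul_eq_mul_left (pos S).1 (by
    have := cn_mul_index x
    rw [h] at this
    rw [this, S.card])

/-- The side of an element is that of any prime dividing its centraliser order. -/
theorem cn_dvd_of_prime {z : G} (hz : z ≠ 1) {l : ℕ} (hl : l.Prime) (hlz : l ∣ cn z) (hla : l ∣ a) :
    cn z ∣ a :=
  (S.hall _ (Cross.mem_vals hz)).resolve_right fun h =>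
    hl.ne_one (Nat.eq_one_of_dvd_coprimes S.cop hla (hlz.trans h))

theorem cn_dvd_of_order {z : G} {l : ℕ} (hl : l.Prime) (hz : orderOf z = l) (hla : l ∣ a) :
    cn z ∣ a :=
  cn_dvd_of_prime S (ne_one_of_prime hl hz) hl (hz ▸ orderOf_dvd_cn z) hla

/-- Primes of the two sides do not commute. -/
theorem no_commute {z w : G} {l m : ℕ} (hl : l.Prime) (hm : m.Prime) (hz : orderOf z = l)
    (hw : orderOf w = m) (hla : l ∣ a) (hmb : m ∣ b) : ¬ Commute z w := by
  intro hc
  have hlm : l ≠ m := fun e => hl.ne_one (Nat.eq_one_of_dvd_coprimes S.cop hla (e ▸ hmb))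
  obtain ⟨-, hne, -, -, h1, h2⟩ := pair hc (coprime_orders hl hm hz hw hlm)
  rw [hz] at h1
  rw [hw] at h2
  exact hm.ne_one (Nat.eq_one_of_dvd_coprimes S.cop
    (h2.trans (cn_dvd_of_prime S (hne (ne_one_of_prime hl hz)) hl h1 hla)) hmb)

/-- An element of prime order with a given maximal value. -/
theorem exists_prime_rep [IsSimpleGroup G] : ∃ (x : G) (p : ℕ), p.Prime ∧ orderOf x = p ∧ cn x = a ∧ p ∣ a := by
  obtain ⟨x, p, hp, hxo, hxa⟩ := Cross.exists_prime_rep (not_dvd S) S.hall S.ha
  exact ⟨x, p, hp, hxo, hxa, hxo ▸ hxa ▸ orderOf_dvd_cn x⟩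

/-- An element of prime order commutes with a conjugate of any element of maximal value on its
side. -/
theorem exists_conj_max {x z : G} (hxa : cn x = a) {l : ℕ} (hl : l.Prime) (hz : orderOf z = l)
    (hla : l ∣ a) : ∃ g : G, Commute (g * x * g⁻¹) z := by
  have h : ¬ l ∣ (Subgroup.centralizer ({x} : Set G)).index := by
    rw [index_eq S hxa]
    exact fun hd => hl.ne_one (Nat.eq_one_of_dvd_coprimes S.cop hla hd)
  obtain ⟨g, hg⟩ := exists_conj_commute hl h hz
  exact ⟨g, mem_cen.1 hg⟩

theorem not_prime_pow [IsSimpleGroup G] (hG : ¬ IsMulCommutative G) {p k : ℕ} (hp : p.Prime) :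
    b ≠ p ^ k := by
  obtain ⟨x, q, hq, hxo, hxa, -⟩ := exists_prime_rep S
  rw [← index_eq S hxa]
  exact Inv59.RankThree.not_prime_pow hG (ne_one_of_prime hq hxo) hp

end Cfsg.Agent.Lib.RankFive54.Split
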