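import Mathlib
import Cfsg.Agent.Lib.RankFive54.Split
import Cfsg.Agent.Lib.GlaubermanGlobal.Main
import Cfsg.Agent.Lib.OddOrder.FeitThompson

/-!
# The odd side with two values

When the side of odd order carries two values, no involution normalises a non-identity subgroup of
that side; so those normalisers have odd order and `Z(J(L))` controls strong fusion.
-/

set_option autoImplicit false
set_option linter.style.haveILetI false
set_option linter.unusedSectionVars false

namespace Cfsg.Agent.Lib.RankFive54.Odd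

open Cfsg.Agent.Lib.ClassSizes.Basic
open Cfsg.Agent.Lib.Inv59.RankThree
open Cfsg.Agent.Lib.RankFour54
open Cfsg.Agent.Lib.RankFive54.Split

universe u

/-- An even value `a`, and exactly two values `b`, `e` on the other side. -/
structure Ctx (G : Type u) [Group G] (a b e : ℕ) : Prop where
  S : IsSplit G a b
  h2 : 2 ∣ a
  he : e ∈ Cross.vals G
  heb : e ∣ b
  hne : e ≠ b
  hV : ∀ v ∈ Cross.vals G, v ∣ b → v = b ∨ v = e

variable {G : Type u} [Group G] [Finite G] {a b e : ℕ} (X : Ctx G a b e)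
include X

theorem e_pos : 0 < e := lt_of_lt_of_le two_pos (Cross.two_le_of_mem X.he)

theorem not_both {l : ℕ} (hl : l.Prime) (hla : l ∣ a) (hlb : l ∣ b) : False :=
  hl.ne_one (Nat.eq_one_of_dvd_coprimes X.S.cop hla hlb)

theorem ne_two {l : ℕ} (hl : l.Prime) (hlb : l ∣ b) : l ≠ 2 := fun h =>
  not_both X hl (h ▸ X.h2) hlb

theorem side {l : ℕ} (hl : l.Prime) (hd : l ∣ Nat.card G) : l ∣ a ∨ l ∣ b :=
  hl.dvd_mul.1 (X.S.card ▸ hd)

theorem dvd_b_of_coprime {l : ℕ} (hl : l.Prime) (hd : l ∣ Nat.card G) {n : ℕ} (hn : n.Coprime a)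
    (hln : l ∣ n) : l ∣ b :=
  (side X hl hd).resolve_left fun h => hl.ne_one (Nat.eq_one_of_dvd_coprimes hn hln h)

theorem fac_eq {l : ℕ} (hl : l.Prime) (hlb : l ∣ b) :
    (Nat.card G).factorization l = b.factorization l := by
  rw [X.S.card, Nat.factorization_mul (Split.pos X.S).1.ne' (Split.pos X.S).2.ne', Finsupp.add_apply,
    Nat.factorization_eq_zero_of_not_dvd fun h => not_both X hl h hlb, zero_add]

theorem card_sylow {l : ℕ} [Fact l.Prime] (hlb : l ∣ b) (P : Sylow l G) :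
    Nat.card P = l ^ b.factorization l := by
  rw [P.card_eq_multiplicity, fac_eq X Fact.out hlb]

theorem not_dvd_index_of_eq {z : G} (hz : cn z = b) {l : ℕ} (hl : l.Prime) (hlb : l ∣ b) :
    ¬ l ∣ (Subgroup.centralizer ({z} : Set G)).index := by
  rw [fac_index hl, hz, fac_eq X hl hlb]
  exact lt_irrefl _

/-- An element with an element of the odd side in its centraliser has value `b` or `e`. -/
theorem value {z : G} (hz : z ≠ 1) {l : ℕ} (hl : l.Prime) (hlz : l ∣ cn z) (hlb : l ∣ b) :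
    cn z = b ∨ cn z = e :=
  X.hV _ (Cross.mem_vals hz) (Split.cn_dvd_of_prime X.S.symm hz hl hlz hlb)

theorem value_dvd {z : G} (hz : z ≠ 1) {l : ℕ} (hl : l.Prime) (hlz : l ∣ cn z) (hlb : l ∣ b) :
    cn z ∣ b :=
  Split.cn_dvd_of_prime X.S.symm hz hl hlz hlb

theorem value_order {z : G} {l : ℕ} (hl : l.Prime) (hz : orderOf z = l) (hlb : l ∣ b) :
    cn z = b ∨ cn z = e :=
  value X (ne_one_of_prime hl hz) hl (hz ▸ orderOf_dvd_cn z) hlb

/-- Product with an element of prime order of the odd side. -/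
theorem inter {z w : G} {l : ℕ} (hl : l.Prime) (hlb : l ∣ b) (hw : orderOf w = l)
    (hz : z ≠ 1) (hcop : (orderOf z).Coprime l) (hc : Commute z w) :
    Subgroup.centralizer ({z * w} : Set G) =
        Subgroup.centralizer ({z} : Set G) ⊓ Subgroup.centralizer ({w} : Set G) ∧
      z * w ≠ 1 ∧ (cn (z * w) = b ∨ cn (z * w) = e) := by
  obtain ⟨hC, hne, -, -, -, h2⟩ := pair hc (hw.symm ▸ hcop)
  exact ⟨hC, hne hz, value X (hne hz) hl (hw ▸ h2) hlb⟩

theorem coprime_of_le {z : G} (hz : cn z ∣ b) {H : Subgroup G}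
    (hH : H ≤ Subgroup.centralizer ({z} : Set G)) : (Nat.card H).Coprime a :=
  Nat.Coprime.coprime_dvd_left ((Subgroup.card_dvd_of_le hH).trans hz) X.S.cop.symm

theorem exists_prime_pow_b {x : G} (hx : x ≠ 1) {H : Subgroup G} (hH : x ∈ H)
    (hcop : (Nat.card H).Coprime a) :
    ∃ (q i : ℕ), q.Prime ∧ q ∣ b ∧ orderOf (x ^ i) = q ∧ x ^ i ≠ 1 := by
  obtain ⟨q, i, hq, hi, hi1⟩ := exists_prime_pow hx
  have hd : q ∣ Nat.card H := hi ▸ Subgroup.orderOf_dvd_natCard _ (H.pow_mem hH i)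
  exact ⟨q, i, hq, dvd_b_of_coprime X hq (hd.trans (Subgroup.card_subgroup_dvd_card _)) hcop hd,
    hi, hi1⟩

/-- An involution inverts each subgroup of the odd side it normalises, which is abelian. -/
theorem inverted {u : G} (hu : orderOf u = 2) {Y : Subgroup G}
    (hn : u ∈ Subgroup.normalizer (Y : Set G)) (hcop : (Nat.card Y).Coprime a) :
    (∀ y ∈ Y, u * y * u⁻¹ = y⁻¹) ∧ ∀ y ∈ Y, ∀ z ∈ Y, Commute y z := by
  set φ : Y →* Y := (conjAut Y hn).toMonoidHom
  have hfpf : MonoidHom.FixedPointFree φ := fun y hy => by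
    by_contra hy1
    have hc : Commute u (y : G) := mul_inv_eq_iff_eq_mul.1 (congrArg Subtype.val hy)
    obtain ⟨q, i, hq, hqb, hi, -⟩ := exists_prime_pow_b X (x := (y : G))
      (fun e => hy1 (Subtype.ext e)) y.2 hcop
    exact Split.no_commute X.S Nat.prime_two hq hu hi X.h2 hqb (hc.pow_right i)
  have hinv : Function.Involutive φ := fun y => Subtype.ext (by
    show u * (u * (y : G) * u⁻¹) * u⁻¹ = y
    have h2 : u * u = 1 := by rw [← sq, ← hu, pow_orderOf_eq_one]
    rw [show u * (u * (y : G) * u⁻¹) * u⁻¹ = u * u * y * (u * u)⁻¹ by group, h2]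
    group)
  refine ⟨fun y hy => ?_, fun y hy z hz => ?_⟩
  · exact congrArg Subtype.val (congrFun (hfpf.coe_eq_inv_of_involutive hinv) ⟨y, hy⟩)
  · exact congrArg Subtype.val (hfpf.commute_all_of_involutive hinv ⟨y, hy⟩ ⟨z, hz⟩).eq

variable [IsSimpleGroup G]

/-- No involution normalises a non-identity subgroup of the odd side. -/
theorem invol_not_normalizer {u : G} (hu : orderOf u = 2) {Y : Subgroup G}
    (hY : Y ≠ ⊥) (hcop : (Nat.card Y).Coprime a) (hn : u ∈ Subgroup.normalizer (Y : Set G)) :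
    False := by
  classical
  haveI := Fintype.ofFinite G
  set T : Set G := {y | y ≠ 1 ∧ u * y * u⁻¹ = y⁻¹ ∧ cn y ∣ b}
  have hT : T.Nonempty := by
    obtain ⟨y, hy, hy1⟩ := (Subgroup.ne_bot_iff_exists_ne_one.1 hY) |> fun ⟨y, hy⟩ =>
      (⟨y.1, y.2, fun e => hy (Subtype.ext e)⟩ : ∃ y ∈ Y, y ≠ 1)
    obtain ⟨q, i, hq, hqb, hi, hi1⟩ := exists_prime_pow_b X hy1 hy hcop
    exact ⟨y ^ i, hi1, (inverted X hu hn hcop).1 _ (Y.pow_mem hy i),
      value_dvd X hi1 hq (hi ▸ orderOf_dvd_cn _) hqb⟩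
  obtain ⟨y, ⟨hy1, hyu, hyb⟩, hmax⟩ := Set.exists_max_image T cn (Set.toFinite _) hT
  set A := Subgroup.centralizer ({y} : Set G) with hA
  have hnA : ∀ {w : G}, u * w * u⁻¹ = w⁻¹ →
      u ∈ Subgroup.normalizer ((Subgroup.centralizer ({w} : Set G)) : Set G) := fun {w} hw => by
    have e : (Subgroup.centralizer ({w} : Set G)).map (MulAut.conj u).toMonoidHom =
        Subgroup.centralizer ({w} : Set G) := by
      rw [← cen_conj, hw]
      ext c
      simp only [mem_cen]
      exact ⟨fun h => by simpa using (Commute.inv_left (show Commute w⁻¹ c from h)).eq,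
        fun h => (Commute.inv_left (show Commute w c from h)).eq⟩
    rw [Subgroup.mem_normalizer_iff]
    intro c
    conv_rhs => rw [← e]
    constructor
    · exact fun hc => ⟨c, hc, rfl⟩
    · rintro ⟨d, hd, hde⟩
      rwa [← (MulAut.conj u).injective hde]
  obtain ⟨hAinv, hAc⟩ := inverted X hu (hnA hyu) (coprime_of_le X hyb le_rfl)
  have hyA : y ∈ A := mem_self y
  have hCC : ∀ w ∈ A, w ≠ 1 → Subgroup.centralizer ({w} : Set G) = A := by
    intro w hw hw1
    have hle : A ≤ Subgroup.centralizer ({w} : Set G) := fun g hg => mem_cen.2 (hAc g hg w hw).eq.symm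
    obtain ⟨q, i, hq, hqb, hi, -⟩ := exists_prime_pow_b X hw1 hw (coprime_of_le X hyb le_rfl)
    have hd : cn w ∣ b := value_dvd X hw1 hq (hi ▸ orderOf_dvd_cn' (pow_mem (mem_self w) i)) hqb
    exact (Subgroup.eq_of_le_of_card_ge hle (hmax w ⟨hw1, hAinv w hw, hd⟩)).symm
  have hidx : ∀ {l : ℕ}, l.Prime → l ∣ cn y → ¬ l ∣ A.index := by
    intro l hl hly
    haveI := Fact.mk hl
    obtain ⟨ω, hω⟩ := exists_prime_orderOf_dvd_card' (G := A) l hly
    rw [← Subgroup.orderOf_coe] at hω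
    obtain ⟨P, hP⟩ := (RankFour54.isPGroup_zpowers (k := 1) (x := (ω : G)) (p := l)
      (by rw [hω, pow_one])).exists_le_sylow
    have hωP : (ω : G) ∈ (P : Subgroup G) := hP (Subgroup.mem_zpowers _)
    obtain ⟨z, hzP, hzo, hPz⟩ := exists_central_invariant P.2 (fun h => ne_one_of_prime hl hω (by
      rwa [h, Subgroup.mem_bot] at hωP))
    have hzA : z ∈ A := by
      rw [← hCC ω ω.2 (ne_one_of_prime hl hω)]
      exact mem_cen_comm.1 (hPz hωP)
    rw [← hCC z hzA (ne_one_of_prime hl hzo)]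
    exact fun hd => P.not_dvd_index (hd.trans (Subgroup.index_dvd_of_le hPz))
  have hconj : ∀ {k : G} {l : ℕ}, l.Prime → orderOf k = l → l ∣ cn y →
      ∃ g : G, Subgroup.centralizer ({k} : Set G) = A.map (MulAut.conj g).toMonoidHom := by
    intro k l hl hk hly
    obtain ⟨g, hg⟩ := exists_conj_mem hl (hidx hl hly) hk
    refine ⟨g⁻¹, ?_⟩
    rw [← hCC _ hg (conj_ne_one (ne_one_of_prime hl hk)), ← cen_conj]
    congr 2
    group
  rcases X.hV _ (Cross.mem_vals hy1) hyb with hyv | hyv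
  · obtain ⟨w, hw1, hwe⟩ := X.he
    obtain ⟨l, i, hl, hi, -⟩ := exists_prime_pow hw1
    have hlw : l ∣ cn w := hi ▸ orderOf_dvd_cn' (pow_mem (mem_self w) i)
    obtain ⟨g, hg⟩ := hconj hl hi (hyv ▸ (hwe ▸ hlw).trans X.heb)
    have hwm : w ∈ Subgroup.centralizer ({w ^ i} : Set G) :=
      mem_cen.2 ((Commute.refl w).pow_right i).symm.eq
    rw [hg] at hwm
    obtain ⟨w', hw', rfl⟩ := hwm
    change cn (g * w' * g⁻¹) = e at hwe
    rw [cn_conj] at hwe
    have hw'1 : w' ≠ 1 := fun h => hw1 (by simp [h])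
    exact X.hne (hwe.symm.trans ((show cn w' = cn y by rw [cn, hCC w' hw' hw'1]; rfl).trans hyv))
  · obtain ⟨x, q, hq, hxo, hxb, hqb⟩ := Split.exists_prime_rep X.S.symm
    have hqe : ¬ q ∣ cn y := fun h => by
      obtain ⟨g, hg⟩ := hconj hq hxo h
      have : cn x = cn y := by
        show Nat.card _ = Nat.card _
        rw [hg, Subgroup.card_map_of_injective (MulAut.conj g).injective]
      exact X.hne ((hxb ▸ this).trans hyv).symm
    obtain ⟨l, hl, hly⟩ := Nat.exists_prime_and_dvd (fun h : cn y = 1 => by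
      have := Cross.two_le_of_mem (Cross.mem_vals hy1)
      omega)
    haveI := Fact.mk hl
    obtain ⟨k, hk⟩ := exists_prime_orderOf_dvd_card' (G := Subgroup.centralizer ({x} : Set G)) l
      (show l ∣ cn x by rw [hxb]; exact (hyv ▸ hly).trans X.heb)
    rw [← Subgroup.orderOf_coe] at hk
    obtain ⟨g, hg⟩ := hconj hl hk hly
    have hxk : x ∈ Subgroup.centralizer ({(k : G)} : Set G) := mem_cen_comm.1 k.2
    have := Subgroup.orderOf_dvd_natCard _ hxk
    rw [hxo, hg, Subgroup.card_map_of_injective (MulAut.conj g).injective] at this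
    exact hqe this

/-- The normaliser of a non-identity subgroup of the odd side has odd order. -/
theorem odd_normalizer {Y : Subgroup G} (hY : Y ≠ ⊥) (hcop : (Nat.card Y).Coprime a) :
    Odd (Nat.card (Subgroup.normalizer (Y : Set G))) := by
  by_contra h
  obtain ⟨u, hu⟩ := exists_prime_orderOf_dvd_card' (G := Subgroup.normalizer (Y : Set G)) 2
    (even_iff_two_dvd.1 (Nat.not_odd_iff_even.1 h))
  exact invol_not_normalizer X (u := (u : G)) (by rw [Subgroup.orderOf_coe, hu]) hY hcop u.2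

theorem coprime_pgroup {l : ℕ} [Fact l.Prime] (hlb : l ∣ b) {P : Subgroup G} (hP : IsPGroup l P) :
    (Nat.card P).Coprime a := by
  obtain ⟨n, hn⟩ := IsPGroup.iff_card.1 hP
  rw [hn]
  exact Nat.Coprime.pow_left n ((Fact.out : l.Prime).coprime_iff_not_dvd.2
    fun h => not_both X Fact.out h hlb)

/-- Strong fusion is controlled by the normaliser of `Z(J(P))`. -/
theorem fusion {l : ℕ} [hl : Fact l.Prime] (hlb : l ∣ b) (P : Sylow l G) {A : Set G} {g : G}
    (hA : A ⊆ (P : Set G)) (hgA : ∀ v ∈ A, g * v * g⁻¹ ∈ (P : Subgroup G)) :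
    ∃ n ∈ Subgroup.normalizer (Cfsg.centerThompsonAOf (P : Subgroup G) : Set G),
      ∀ v ∈ A, n * v * n⁻¹ = g * v * g⁻¹ := by
  classical
  by_contra hno
  push Not at hno
  obtain ⟨⟨y, hyE, hy1, hyp, hall⟩, -⟩ := GlaubermanGlobal.hasEigen_of_bad (ne_two X hl.out hlb) P
    ⟨A, g, hA, Subgroup.mem_top g, by rintro _ ⟨v, hv, rfl⟩; exact hgA v hv,
      fun ⟨n, hn, he⟩ => by
        obtain ⟨v, hv, hne⟩ := hno n hn
        exact hne (he v hv)⟩
  obtain ⟨h, hh, e1⟩ := hall (-1)
  have hyo : orderOf y = l := orderOf_eq_prime hyp hy1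
  have he : h * y * h⁻¹ = y⁻¹ := by
    rw [e1, Units.val_neg, Units.val_one]
    refine eq_inv_of_mul_eq_one_left ?_
    rw [← pow_succ, ← orderOf_dvd_iff_pow_eq_one, hyo, ← ZMod.natCast_eq_zero_iff]
    simp
  have hsq : h ^ 2 * y * (h ^ 2)⁻¹ = y := by
    rw [sq, show h * h * y * (h * h)⁻¹ = h * (h * y * h⁻¹) * h⁻¹ by group, he,
      show h * y⁻¹ * h⁻¹ = (h * y * h⁻¹)⁻¹ by group, he, inv_inv]
  have hfix : ∀ n : ℕ, (h ^ 2) ^ n * y * ((h ^ 2) ^ n)⁻¹ = y := by
    intro n
    induction n with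
    | zero => simp
    | succ n ih =>
      rw [pow_succ, show (h ^ 2) ^ n * h ^ 2 * y * ((h ^ 2) ^ n * h ^ 2)⁻¹ =
        (h ^ 2) ^ n * (h ^ 2 * y * (h ^ 2)⁻¹) * ((h ^ 2) ^ n)⁻¹ by group, hsq, ih]
  rcases Nat.even_or_odd' (orderOf h) with ⟨m, hm | hm⟩
  · have hnorm : h ^ m ∈ Subgroup.normalizer (Subgroup.zpowers y : Set G) := by
      refine Subgroup.pow_mem _ ?_ m
      rw [Subgroup.mem_normalizer_iff]
      intro v
      constructor
      · rintro ⟨i, rfl⟩
        exact ⟨-i, by show y ^ (-i) = h * y ^ i * h⁻¹; rw [← conj_zpow, he, inv_zpow, zpow_neg]⟩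
      · rintro ⟨i, hi⟩
        refine ⟨-i, ?_⟩
        show y ^ (-i) = v
        have : h * y ^ (-i) * h⁻¹ = y ^ i := by rw [← conj_zpow, he, inv_zpow, zpow_neg, inv_inv]
        rw [show y ^ i = h * v * h⁻¹ from hi] at this
        simpa using this
    refine invol_not_normalizer X (u := h ^ m) ?_ (Y := Subgroup.zpowers y)
      (fun h0 => hy1 (Subgroup.zpowers_eq_bot.1 h0))
      (coprime_pgroup X hlb (RankFour54.isPGroup_zpowers (k := 1) (by rw [hyo, pow_one]))) hnorm
    have hm0 : m ≠ 0 := fun h0 => by have := orderOf_pos h; omega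
    rw [orderOf_pow_of_dvd hm0 (Dvd.intro_left 2 hm.symm), hm,
      Nat.mul_div_cancel _ (Nat.pos_of_ne_zero hm0)]
  · have h1 : (h ^ 2) ^ (m + 1) = h := by
      rw [← pow_mul, show 2 * (m + 1) = orderOf h + 1 by omega, pow_succ, pow_orderOf_eq_one,
        one_mul]
    have := hfix (m + 1)
    rw [h1, he] at this
    have h2 : y ^ 2 = 1 := by rw [sq]; nth_rw 1 [← this]; rw [inv_mul_cancel]
    exact ne_two X hl.out hlb ((Nat.prime_dvd_prime_iff_eq hl.out Nat.prime_two).1
      (hyo ▸ orderOf_dvd_of_pow_eq_one h2))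

/-- The centre of a Sylow subgroup of the odd side consists of elements of value `b`. -/
theorem central_value {l : ℕ} [hl : Fact l.Prime] (hlb : l ∣ b) (hel : e.factorization l < b.factorization l)
    {P : Sylow l G} {z : G} (hz : z ≠ 1) (hzP : z ∈ (P : Subgroup G))
    (hPz : (P : Subgroup G) ≤ Subgroup.centralizer ({z} : Set G)) : cn z = b := by
  obtain ⟨i, hi⟩ := exists_orderOf_eq P.2 hzP
  have hlz : l ∣ cn z := by
    refine (dvd_pow_self l (fun h0 => hz ?_)).trans (hi ▸ orderOf_dvd_cn z)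
    rw [h0, pow_zero, orderOf_eq_one_iff] at hi
    exact hi
  refine (value X hz hl.out hlz hlb).resolve_right fun h => ?_
  have := fac_le_of_pow_dvd hl.out (cn_pos z).ne' (pow_dvd_cn (card_sylow X hlb P) hPz)
  rw [h] at this
  omega

end Cfsg.Agent.Lib.RankFive54.Odd
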