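import Mathlib
import Cfsg.Agent.Lib.RankFive54.Odd
import Cfsg.Agent.Lib.RankFour54.Local
import Cfsg.Agent.Lib.BenderOne.LocalTools

/-!
# Two primes with small part in the lesser value: basic facts
-/

set_option autoImplicit false
set_option linter.style.haveILetI false
set_option linter.unusedSectionVars false

namespace Cfsg.Agent.Lib.RankFive54.Two

open Cfsg.Agent.Lib.ClassSizes.Basic
open Cfsg.Agent.Lib.Inv59.RankThree
open Cfsg.Agent.Lib.RankFour54
open Cfsg.Agent.Lib.RankFive54.Odd

universe u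

variable {G : Type u} [Group G] [Finite G] {a b e : ℕ}

/-- Elements of prime power order and value `b` lie in `Z(J(P))`. -/
theorem mem_zj [IsSimpleGroup G] (X : Ctx G a b e) {l : ℕ} [hl : Fact l.Prime] (hlb : l ∣ b) (P : Sylow l G) {v : G}
    (hvP : v ∈ (P : Subgroup G)) (hvb : cn v = b) :
    v ∈ Cfsg.centerThompsonAOf (P : Subgroup G) := by
  obtain ⟨P', hP'⟩ := exists_sylow_le (p := l) (not_dvd_index_of_eq X hvb hl.out hlb)
  obtain ⟨i, hi⟩ := exists_orderOf_eq P.2 hvP
  have hvP' : v ∈ (P' : Subgroup G) := mem_of_full P'.2 hP'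
    (by rw [card_sylow X hlb P', ← hvb]; rfl) (mem_self v) hi
    (Subgroup.centralizer_le_normalizer _ (Subgroup.mem_centralizer_iff.2 fun z hz =>
      (mem_cen.1 (hP' hz)).symm))
  obtain ⟨g, hg⟩ := MulAction.exists_smul_eq G P P'
  have hu : ∀ y ∈ (P : Subgroup G), g * y * g⁻¹ ∈ (P' : Subgroup G) := fun y hy => by
    rw [← hg]; exact ⟨y, hy, rfl⟩
  have huP : g⁻¹ * v * g ∈ (P : Subgroup G) := by
    rw [← hg] at hvP'
    obtain ⟨y, hy, hyv⟩ := hvP'
    change g * y * g⁻¹ = v at hyv
    rw [← hyv, show g⁻¹ * (g * y * g⁻¹) * g = y by group]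
    exact hy
  have huc : g⁻¹ * v * g ∈ Cfsg.centerThompsonAOf (P : Subgroup G) := by
    refine BenderOne.LocalTools.center_le_zj huP fun y hy => ?_
    have h := mem_cen.1 (hP' (hu y hy))
    calc y * (g⁻¹ * v * g) = g⁻¹ * ((g * y * g⁻¹) * v) * g := by group
      _ = g⁻¹ * (v * (g * y * g⁻¹)) * g := by rw [h]
      _ = g⁻¹ * v * g * y := by group
  obtain ⟨n, hn, he⟩ := fusion X hlb P (A := {g⁻¹ * v * g}) (g := g) (Set.singleton_subset_iff.2 huP)
    (by rintro _ rfl; simpa [mul_assoc] using hvP)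
  have := he _ rfl
  rw [show g * (g⁻¹ * v * g) * g⁻¹ = v by group] at this
  rw [← this]
  exact (Subgroup.mem_normalizer_iff.1 hn _).1 huc

/-- Two primes `l`, `m` of small part in `e`, with central elements in a common centraliser. -/
structure Base (G : Type u) [Group G] (a b e l m : ℕ) (z w : G) : Prop where
  X : Ctx G a b e
  hl : l.Prime
  hm : m.Prime
  hlm : l ≠ m
  hlb : l ∣ b
  hmb : m ∣ b
  hel : e.factorization l < b.factorization l
  hem : e.factorization m < b.factorization m
  hzo : orderOf z = l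
  hwo : orderOf w = m
  hzb : cn z = b
  hCw : Subgroup.centralizer ({w} : Set G) = Subgroup.centralizer ({z} : Set G)

theorem Base.symm {l m : ℕ} {z w : G} (B : Base G a b e l m z w) : Base G a b e m l w z :=
  ⟨B.X, B.hm, B.hl, B.hlm.symm, B.hmb, B.hlb, B.hem, B.hel, B.hwo, B.hzo,
    by rw [cn, B.hCw]; exact B.hzb, B.hCw.symm⟩

/-- Such elements exist. -/
theorem exists_base [IsSimpleGroup G] (X : Ctx G a b e) {l m : ℕ} (hl : l.Prime) (hm : m.Prime) (hlm : l ≠ m)
    (hel : e.factorization l < b.factorization l) (hem : e.factorization m < b.factorization m) :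
    ∃ z w : G, Base G a b e l m z w := by
  have hlb : l ∣ b := Nat.dvd_of_factorization_pos (by omega)
  have hmb : m ∣ b := Nat.dvd_of_factorization_pos (by omega)
  haveI := Fact.mk hl
  haveI := Fact.mk hm
  obtain ⟨L, z, hzL, hzo, hLz, -⟩ := exists_full_central hl (hlb.trans (Dvd.intro_left a X.S.card.symm))
  have hzb := central_value X hlb hel (ne_one_of_prime hl hzo) hzL hLz
  obtain ⟨Q, hQ⟩ := exists_sylow_le (p := m) (not_dvd_index_of_eq X hzb hm hmb)
  obtain ⟨w, hwQ, hwo, hQw⟩ := exists_central_invariant Q.2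
    (Q.ne_bot_of_dvd_card (hmb.trans (Dvd.intro_left a X.S.card.symm)))
  have hwb := central_value X hmb hem (ne_one_of_prime hm hwo) hwQ hQw
  have hc : Commute z w := mem_cen.1 (hQ hwQ)
  obtain ⟨hC, hne, hv⟩ := inter X hm hmb hwo (ne_one_of_prime hl hzo)
    (by rw [hzo]; exact (Nat.coprime_primes hl hm).2 hlm) hc
  have hv' : cn (z * w) = b := hv.resolve_right fun h => by
    have := fac_le_of_pow_dvd hm (cn_pos (z * w)).ne'
      (pow_dvd_cn (card_sylow X hmb Q) (hC ▸ le_inf hQ hQw))
    rw [h] at this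
    omega
  refine ⟨z, w, X, hl, hm, hlm, hlb, hmb, hel, hem, hzo, hwo, hzb, ?_⟩
  rw [← eq_of_le_cn (hC.le.trans inf_le_right) (hv'.trans hwb.symm),
    eq_of_le_cn (hC.le.trans inf_le_left) (hv'.trans hzb.symm)]

variable {l m : ℕ} {z w : G} (B : Base G a b e l m z w)
include B

theorem z_mem_center {v : G} (hv : v ∈ Subgroup.centralizer ({z} : Set G)) : Commute z v ∧ Commute w v :=
  ⟨mem_cen.1 hv, mem_cen.1 (B.hCw ▸ hv)⟩

/-- A noncentral element times a central one of coprime prime order. -/
theorem inter_central {u c : G} {r : ℕ} (hr : r.Prime) (hrb : r ∣ b) (hco : orderOf c = r)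
    (hCc : Subgroup.centralizer ({c} : Set G) = Subgroup.centralizer ({z} : Set G))
    (hu : u ∈ Subgroup.centralizer ({z} : Set G))
    (hun : ¬ Subgroup.centralizer ({z} : Set G) ≤ Subgroup.centralizer ({u} : Set G))
    (hcop : (orderOf u).Coprime r) :
    u * c ≠ 1 ∧ Subgroup.centralizer ({u * c} : Set G) =
        Subgroup.centralizer ({u} : Set G) ⊓ Subgroup.centralizer ({z} : Set G) ∧
      cn (u * c) = e := by
  have hu1 : u ≠ 1 := by
    rintro rfl
    exact hun fun g _ => mem_cen.2 (by simp)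
  obtain ⟨hC, hne, hv⟩ := inter B.X hr hrb hco hu1 hcop (mem_cen.1 (hCc ▸ hu : u ∈ _)).symm
  rw [hCc] at hC
  refine ⟨hne, hC, hv.resolve_left fun h => hun ?_⟩
  rw [← eq_of_le_cn (hC.le.trans inf_le_right) (h.trans B.hzb.symm), hC]
  exact inf_le_left

/-- The centraliser in `C(z)` of a noncentral element of prime power order has order `e`. -/
theorem card_inter {u : G} {p i : ℕ} (hp : p.Prime) (huo : orderOf u = p ^ i)
    (hu : u ∈ Subgroup.centralizer ({z} : Set G))
    (hun : ¬ Subgroup.centralizer ({z} : Set G) ≤ Subgroup.centralizer ({u} : Set G)) :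
    Nat.card (Subgroup.centralizer ({u} : Set G) ⊓ Subgroup.centralizer ({z} : Set G) :
      Subgroup G) = e := by
  have key : ∀ (r : ℕ) (c : G), r.Prime → r ∣ b → orderOf c = r → p ≠ r →
      Subgroup.centralizer ({c} : Set G) = Subgroup.centralizer ({z} : Set G) →
      Nat.card (Subgroup.centralizer ({u} : Set G) ⊓ Subgroup.centralizer ({z} : Set G) :
        Subgroup G) = e := fun r c hr hrb hco hne hCc => by
    obtain ⟨-, hC, hv⟩ := inter_central B hr hrb hco hCc hu hun
      (by rw [huo]; exact Nat.Coprime.pow_left i ((Nat.coprime_primes hp hr).2 hne))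
    rw [← hC]
    exact hv
  by_cases hpl : p = l
  · exact key m w B.hm B.hmb B.hwo (hpl ▸ B.hlm) B.hCw
  · exact key l z B.hl B.hlb B.hzo hpl rfl

/-- Commuting noncentral elements of coprime orders, with a third central element. -/
theorem cell3 {u v c : G} {r : ℕ} (hr : r.Prime) (hrb : r ∣ b) (hco : orderOf c = r)
    (hCc : Subgroup.centralizer ({c} : Set G) = Subgroup.centralizer ({z} : Set G))
    (hu : u ∈ Subgroup.centralizer ({z} : Set G)) (hv : v ∈ Subgroup.centralizer ({z} : Set G))
    (hun : ¬ Subgroup.centralizer ({z} : Set G) ≤ Subgroup.centralizer ({u} : Set G))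
    (hvn : ¬ Subgroup.centralizer ({z} : Set G) ≤ Subgroup.centralizer ({v} : Set G))
    (hur : (orderOf u).Coprime r) (hvr : (orderOf v).Coprime r)
    (huv : (orderOf u).Coprime (orderOf v)) (hc : Commute u v) :
    Subgroup.centralizer ({u} : Set G) ⊓ Subgroup.centralizer ({z} : Set G) =
      Subgroup.centralizer ({v} : Set G) ⊓ Subgroup.centralizer ({z} : Set G) := by
  have hC := cen_mul_eq hc huv
  have huvm : u * v ∈ Subgroup.centralizer ({z} : Set G) := mul_mem hu hv
  have huvn : ¬ Subgroup.centralizer ({z} : Set G) ≤ Subgroup.centralizer ({u * v} : Set G) :=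
    fun h => hun (h.trans (hC.le.trans inf_le_left))
  have huvr : (orderOf (u * v)).Coprime r := Nat.Coprime.coprime_dvd_left
    hc.orderOf_mul_dvd_mul_orderOf (Nat.Coprime.mul_left hur hvr)
  obtain ⟨-, h1, e1⟩ := inter_central B hr hrb hco hCc huvm huvn huvr
  obtain ⟨-, h2, e2⟩ := inter_central B hr hrb hco hCc hu hun hur
  obtain ⟨-, h3, e3⟩ := inter_central B hr hrb hco hCc hv hvn hvr
  have hle2 : Subgroup.centralizer ({u * v * c} : Set G) ≤ Subgroup.centralizer ({u * c} : Set G) := by
    rw [h1, h2, hC]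
    exact inf_le_inf_right _ inf_le_left
  have hle3 : Subgroup.centralizer ({u * v * c} : Set G) ≤ Subgroup.centralizer ({v * c} : Set G) := by
    rw [h1, h3, hC]
    exact inf_le_inf_right _ inf_le_right
  rw [← h2, ← h3, ← eq_of_le_cn hle2 (e1.trans e2.symm), eq_of_le_cn hle3 (e1.trans e3.symm)]

/-- Noncentral commuting elements of the two primes, one with the small value. -/
theorem cell_small {u v : G} (hu : ∃ i, orderOf u = l ^ i) (hv : ∃ i, orderOf v = m ^ i)
    (hum : u ∈ Subgroup.centralizer ({z} : Set G)) (hvm : v ∈ Subgroup.centralizer ({z} : Set G))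
    (hun : ¬ Subgroup.centralizer ({z} : Set G) ≤ Subgroup.centralizer ({u} : Set G))
    (hvn : ¬ Subgroup.centralizer ({z} : Set G) ≤ Subgroup.centralizer ({v} : Set G))
    (hc : Commute u v) (he : cn u = e) :
    Subgroup.centralizer ({u} : Set G) ⊓ Subgroup.centralizer ({z} : Set G) =
      Subgroup.centralizer ({v} : Set G) ⊓ Subgroup.centralizer ({z} : Set G) := by
  obtain ⟨i, hi⟩ := hu
  obtain ⟨j, hj⟩ := hv
  have hu1 : u ≠ 1 := by
    rintro rfl
    exact hun fun g _ => mem_cen.2 (by simp)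
  have hcu := card_inter B B.hl hi hum hun
  have hcv := card_inter B B.hm hj hvm hvn
  have e1 := Subgroup.eq_of_le_of_card_ge (inf_le_left :
    Subgroup.centralizer ({u} : Set G) ⊓ Subgroup.centralizer ({z} : Set G) ≤
      Subgroup.centralizer ({u} : Set G)) (by rw [hcu]; exact le_of_eq he)
  have hcop : (orderOf u).Coprime (orderOf v) := by
    rw [hi, hj]; exact Nat.Coprime.pow i j ((Nat.coprime_primes B.hl B.hm).2 B.hlm)
  obtain ⟨hC, hne, hd, -, hou, -⟩ := pair hc hcop
  have hi0 : i ≠ 0 := fun h => hu1 (orderOf_eq_one_iff.1 (by rw [hi, h, pow_zero]))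
  have huv : cn (u * v) = e := by
    refine (value B.X (hne hu1) B.hl ((dvd_pow_self l hi0).trans (hi ▸ hou)) B.hlb).resolve_left
      fun h => B.X.hne (Nat.dvd_antisymm B.X.heb ?_)
    rw [h, he] at hd
    exact hd
  have hle : Subgroup.centralizer ({u} : Set G) ≤ Subgroup.centralizer ({v} : Set G) := by
    rw [← eq_of_le_cn (hC.le.trans inf_le_left) (huv.trans he.symm), hC]
    exact inf_le_right
  refine Subgroup.eq_of_le_of_card_ge (inf_le_inf_right _ hle) ?_
  rw [hcu, hcv]

/-- An element centralised by a Sylow subgroup of its prime in `C(z)` is central there. -/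
theorem central_of_full {v : G} {p i : ℕ} (hp : p.Prime) (hep : e.factorization p < b.factorization p)
    (hvo : orderOf v = p ^ i) (hv : v ∈ Subgroup.centralizer ({z} : Set G)) {P : Subgroup G}
    (hP : Nat.card P = p ^ b.factorization p) (hPz : P ≤ Subgroup.centralizer ({z} : Set G))
    (hPv : P ≤ Subgroup.centralizer ({v} : Set G)) :
    Subgroup.centralizer ({z} : Set G) ≤ Subgroup.centralizer ({v} : Set G) := by
  by_contra hne
  have h := card_inter B hp hvo hv hne
  have hd := Subgroup.card_dvd_of_le (le_inf hPv hPz)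
  rw [h, hP] at hd
  have := fac_le_of_pow_dvd hp (Odd.e_pos B.X).ne' hd
  omega

end Cfsg.Agent.Lib.RankFive54.Two
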