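import Mathlib
import Cfsg.Agent.Lib.RankFive54.Two
import Cfsg.Agent.Lib.RankFive54.Pure
import Cfsg.Agent.Lib.Walter.JRCore.Tools
import Cfsg.Agent.Lib.CNGroup.Solvable

/-!
# A central core

If the `m`-core of `C(z)` is central then all noncentral `l`-elements of `C(z)` have the smaller
value.
-/

set_option autoImplicit false
set_option linter.style.haveILetI false
set_option linter.unusedSectionVars false

namespace Cfsg.Agent.Lib.RankFive54.ZJCase

open Cfsg.Agent.Lib.ClassSizes.Basic
open Cfsg.Agent.Lib.Inv59.RankThree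
open Cfsg.Agent.Lib.RankFour54
open Cfsg.Agent.Lib.RankFive54.Odd
open Cfsg.Agent.Lib.RankFive54.Two
open scoped commutatorElement

universe u

/-- A group normalises a subgroup containing its commutators. -/
theorem normal_of_commutator_le {H : Type u} [Group H] {K : Subgroup H}
    (h : ∀ x y : H, ⁅x, y⁆ ∈ K) : K.Normal :=
  ⟨fun k hk g => by
    have := mul_mem (h g k) hk
    rwa [commutatorElement_def, inv_mul_cancel_right] at this⟩

/-- The derived subgroup centralises a normal cyclic subgroup. -/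
theorem commutator_le_centralizer {X : Type u} [Group X] (Z : Subgroup X) [Z.Normal] [IsCyclic Z] :
    commutator X ≤ Subgroup.centralizer (Z : Set X) := by
  haveI : IsMulCommutative (MulAut Z) := ⟨⟨fun f g => by
    obtain ⟨c, hc⟩ := IsCyclic.exists_generator (α := Z)
    refine MulEquiv.ext fun x => ?_
    obtain ⟨i, rfl⟩ := hc x
    obtain ⟨s, hs⟩ := hc (f c)
    obtain ⟨t, ht⟩ := hc (g c)
    change c ^ s = f c at hs
    change c ^ t = g c at ht
    have hf : ∀ n : ℤ, f (c ^ n) = c ^ (s * n) := fun n => by rw [map_zpow, ← hs, ← zpow_mul]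
    have hg : ∀ n : ℤ, g (c ^ n) = c ^ (t * n) := fun n => by rw [map_zpow, ← ht, ← zpow_mul]
    show f (g (c ^ i)) = g (f (c ^ i))
    rw [hg, hf, hf, hg, mul_left_comm]⟩⟩
  letI : CommGroup (MulAut Z) :=
    { (inferInstance : Group (MulAut Z)) with mul_comm := IsMulCommutative.is_comm.comm }
  refine (Abelianization.commutator_subset_ker (MulAut.conjNormal : X →* MulAut Z)).trans ?_
  intro x hx
  rw [MonoidHom.mem_ker] at hx
  refine Subgroup.mem_centralizer_iff.2 fun y hy => ?_
  have h := congrArg Subtype.val (MulEquiv.congr_fun hx ⟨y, hy⟩)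
  change x * y * x⁻¹ = y at h
  exact (mul_inv_eq_iff_eq_mul.1 h).symm

variable {G : Type u} [Group G] [Finite G] [IsSimpleGroup G] {a b e l m : ℕ} {z w : G}

/-- With a central `m`-core all noncentral `l`-elements have value `e`. -/
theorem small (B : Base G a b e l m z w)
    (hone : ∀ r : ℕ, r.Prime → r ∣ b → r = l ∨ r = m)
    (hM : Cfsg.pCore m (Subgroup.centralizer ({z} : Set G)) ≤
      Subgroup.center (Subgroup.centralizer ({z} : Set G)))
    {v : G} (hv : v ∈ Subgroup.centralizer ({z} : Set G)) {i : ℕ} (hvo : orderOf v = l ^ i)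
    (hvn : ¬ Subgroup.centralizer ({z} : Set G) ≤ Subgroup.centralizer ({v} : Set G)) :
    cn v = e := by
  classical
  have X := B.X
  have hl := B.hl
  have hm := B.hm
  have hlb := B.hlb
  have hmb := B.hmb
  haveI := Fact.mk hl
  haveI := Fact.mk hm
  have hv1 : v ≠ 1 := by
    rintro rfl
    exact hvn fun g _ => mem_cen.2 (by simp)
  have hlv : l ∣ cn v := by
    refine (dvd_pow_self l fun h => hv1 (orderOf_eq_one_iff.1 ?_)).trans (hvo ▸ orderOf_dvd_cn v)
    rw [hvo, h, pow_zero]
  refine (value X hv1 hl hlv hlb).resolve_left fun hvb => ?_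
  set Bs := Subgroup.centralizer ({z} : Set G) with hBs
  have hBcard : Nat.card Bs = b := B.hzb
  have hodd : Odd (Nat.card Bs) := Nat.not_even_iff_odd.1 fun h =>
    not_both X Nat.prime_two X.h2 (hBcard ▸ even_iff_two_dvd.1 h)
  -- a Sylow subgroup containing `v`
  obtain ⟨T, hT⟩ := (RankFour54.isPGroup_zpowers (p := l) (x := (⟨v, hv⟩ : Bs)) (k := i)
    (by rw [Subgroup.orderOf_mk, hvo])).exists_le_sylow
  have hTmap : Nat.card ((T : Subgroup Bs).map Bs.subtype) = l ^ (Nat.card G).factorization l := by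
    rw [Subgroup.card_map_of_injective Bs.subtype_injective, T.card_eq_multiplicity, hBcard,
      fac_eq X hl hlb]
  set P : Sylow l G := Sylow.ofCard ((T : Subgroup Bs).map Bs.subtype) hTmap
  have hPB : (P : Subgroup G) ≤ Bs := Subgroup.map_subtype_le _
  have hvP : v ∈ (P : Subgroup G) := ⟨⟨v, hv⟩, hT (Subgroup.mem_zpowers _), rfl⟩
  have hzP : z ∈ (P : Subgroup G) := mem_of_full P.2 hPB
    (by rw [P.card_eq_multiplicity, hBcard, fac_eq X hl hlb]) (mem_self z) (k := 1)
    (by rw [B.hzo, pow_one])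
    (Subgroup.centralizer_le_normalizer _ (Subgroup.mem_centralizer_iff.2 fun y hy =>
      (mem_cen.1 (hPB hy)).symm))
  -- the subgroup generated by the elements of value `b` in a Sylow subgroup
  let gens : Sylow l G → Set G := fun R => {x | x ∈ (R : Subgroup G) ∧ cn x = b}
  set A := Subgroup.closure (gens P) with hA
  have hgenZ : ∀ R : Sylow l G, gens R ⊆ Cfsg.centerThompsonAOf (R : Subgroup G) :=
    fun R x hx => mem_zj X hlb R hx.1 hx.2
  have hnorm : ∀ R : Sylow l G,
      Subgroup.normalizer (Cfsg.centerThompsonAOf (R : Subgroup G) : Set G) ≤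
        Subgroup.normalizer (Subgroup.closure (gens R) : Set G) := by
    intro R g hg
    have key : ∀ h ∈ Subgroup.normalizer (Cfsg.centerThompsonAOf (R : Subgroup G) : Set G),
        ∀ x ∈ Subgroup.closure (gens R), h * x * h⁻¹ ∈ Subgroup.closure (gens R) := by
      intro h hh x hx
      induction hx using Subgroup.closure_induction with
      | mem y hy =>
        refine Subgroup.subset_closure ⟨?_, (cn_conj h y).trans hy.2⟩
        exact ZJ.centerThompsonAOf_le _ ((Subgroup.mem_normalizer_iff.1 hh y).1 (hgenZ R hy))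
      | one => simp
      | mul y y' _ _ h1 h2 =>
        rw [show h * (y * y') * h⁻¹ = (h * y * h⁻¹) * (h * y' * h⁻¹) by group]
        exact mul_mem h1 h2
      | inv y _ h1 =>
        rw [show h * y⁻¹ * h⁻¹ = (h * y * h⁻¹)⁻¹ by group]
        exact inv_mem h1
    rw [Subgroup.mem_normalizer_iff]
    exact fun x => ⟨key g hg x, fun hx => by
      simpa [mul_assoc] using key g⁻¹ (inv_mem hg) _ hx⟩
  have hAZ : A ≤ Cfsg.centerThompsonAOf (P : Subgroup G) := (Subgroup.closure_le _).2 (hgenZ P)
  have hAP : A ≤ (P : Subgroup G) := hAZ.trans (ZJ.centerThompsonAOf_le _)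
  have hAc : ∀ x ∈ A, ∀ y ∈ A, Commute x y := fun x hx y hy => ZJ.centerA_comm (hAZ hy) (hAZ hx).1
  have hzA : z ∈ A := Subgroup.subset_closure ⟨hzP, B.hzb⟩
  have hvA : v ∈ A := Subgroup.subset_closure ⟨hvP, hvb⟩
  have hAB : A ≤ Bs := hAP.trans hPB
  have hCB : Subgroup.centralizer (A : Set G) ≤ Bs := Subgroup.centralizer_le (by simpa using hzA)
  set N := Subgroup.normalizer (A : Set G) with hN
  have hNodd : Odd (Nat.card N) := odd_normalizer X
    (fun h => ne_one_of_prime hl B.hzo (Subgroup.mem_bot.1 (h ▸ hzA)))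
    (coprime_pgroup X hlb (P.2.to_le hAP))
  -- `C(z)` normalises `A`
  have hBN : Bs ≤ N := by
    refine fun g hg => hnorm P ?_
    have hcores : ∀ q : ℕ, q.Prime → q ≠ l → Cfsg.pCore q Bs ≤ Subgroup.center Bs := by
      intro q hq hql
      haveI := Fact.mk hq
      by_cases hqb : q ∣ b
      · obtain rfl := (hone q hq hqb).resolve_left hql
        exact hM
      · intro x hx
        obtain ⟨j, hj⟩ := Pure.order_of_mem (Cores.pCore_isPGroup (G := Bs) q) hx
        rcases j with _ | j
        · rw [pow_zero, orderOf_eq_one_iff] at hj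
          rw [hj]; exact one_mem _
        · exact absurd ((dvd_pow_self q j.succ_ne_zero).trans
            (hj ▸ hBcard ▸ orderOf_dvd_natCard x)) hqb
    have hn := Walter.JRCore.zj_normal_of_cores (ne_two X hl hlb) hodd hcores T
    show g ∈ Subgroup.normalizer
      (Cfsg.centerThompsonAOf ((T : Subgroup Bs).map Bs.subtype) : Set G)
    rw [← ZJ.map_centerThompsonAOf _ Bs.subtype_injective]
    exact Subgroup.le_normalizer_map Bs.subtype
      ⟨⟨g, hg⟩, (Subgroup.normalizer_eq_top_iff.2 hn) ▸ Subgroup.mem_top _, rfl⟩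
  -- each generator is centralised by a Sylow subgroup of `N`
  have hsyl : ∀ x ∈ gens P, ∃ R : Sylow l G, (R : Subgroup G) ≤ N ∧
      (R : Subgroup G) ≤ Subgroup.centralizer ({x} : Set G) := by
    intro x hx
    have hAx : A ≤ Subgroup.centralizer ({x} : Set G) := fun y hy =>
      mem_cen.2 (hAc x (Subgroup.subset_closure hx) y hy).eq
    obtain ⟨R0, hAR, hRx, -, hR0card⟩ := exists_full (p := l) (P.2.to_le hAP) hAx
    have hR0 : Nat.card R0 = l ^ (Nat.card G).factorization l := by
      rw [hR0card, fac_eq X hl hlb, show Nat.card (Subgroup.centralizer ({x} : Set G)) = b from hx.2]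
    set R : Sylow l G := Sylow.ofCard R0 hR0
    refine ⟨R, ?_, hRx⟩
    obtain ⟨g, hg⟩ := MulAction.exists_smul_eq G P R
    have hmem : ∀ y, g * y * g⁻¹ ∈ (R : Subgroup G) ↔ y ∈ (P : Subgroup G) := fun y => by
      rw [← hg]
      constructor
      · rintro ⟨y', hy', he⟩
        rwa [← (MulAut.conj g).injective he]
      · exact fun hy => ⟨y, hy, rfl⟩
    have hcard : (gens R).ncard ≤ (gens P).ncard := by
      refine Set.ncard_le_ncard_of_injOn (fun y => g⁻¹ * y * g) ?_ ?_ (Set.toFinite _)
      · rintro y ⟨hy, hyb⟩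
        refine ⟨(hmem _).1 (by simpa [mul_assoc] using hy), ?_⟩
        have := cn_conj g⁻¹ y
        rw [inv_inv] at this
        exact this.trans hyb
      · intro y _ y' _ he
        simpa using he
    have heq : gens P = gens R := Set.eq_of_subset_of_ncard_le
      (fun y hy => ⟨hAR (Subgroup.subset_closure hy), hy.2⟩) hcard (Set.toFinite _)
    rw [hN, hA, heq]
    refine le_trans (Subgroup.le_normalizer.trans ?_) (hnorm R)
    exact ZJ.normalizer_le_normalizer_centerThompsonA _
  -- inside the normaliser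
  haveI hA'n : (A.subgroupOf N).Normal := Subgroup.normal_subgroupOf_iff_le_normalizer
    Subgroup.le_normalizer |>.2 le_rfl
  set A' := A.subgroupOf N with hA'
  set C' := Subgroup.centralizer (A' : Set N) with hC'
  have hAN : A ≤ N := Subgroup.le_normalizer
  have hC'mem : ∀ x : N, x ∈ C' ↔ (x : G) ∈ Subgroup.centralizer (A : Set G) := fun x => by
    simp only [hC', Subgroup.mem_centralizer_iff, SetLike.mem_coe, hA', Subgroup.mem_subgroupOf]
    exact ⟨fun h y hy => congrArg Subtype.val (h ⟨y, hAN hy⟩ hy),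
      fun h y hy => Subtype.ext (h y hy)⟩
  -- the conditions in `C(z)`
  have hzl : ∀ (u : Bs) (R : Sylow l Bs), (R : Subgroup Bs) ≤ Subgroup.centralizer ({u} : Set Bs) →
      (∃ j, orderOf u = l ^ j) → u ∈ Subgroup.center Bs := by
    rintro u R hR ⟨j, hj⟩
    rw [Local.mem_center_subtype]
    refine central_of_full B hl B.hel (v := (u : G)) (P := (R : Subgroup Bs).map Bs.subtype)
      (by rw [Subgroup.orderOf_coe, hj]) u.2 ?_ (Subgroup.map_subtype_le _) ?_
    · rw [Subgroup.card_map_of_injective Bs.subtype_injective, R.card_eq_multiplicity, hBcard]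
    · rintro _ ⟨y, hy, rfl⟩
      exact mem_cen.2 (congrArg Subtype.val (mem_cen.1 (hR hy)))
  haveI hAB'n : (A.subgroupOf Bs).Normal :=
    (Subgroup.normal_subgroupOf_iff_le_normalizer hAB).2 hBN
  have hcentral : ∀ K : Subgroup Bs, K.Normal →
      (∀ k ∈ K, ∃ j, k ^ m ^ j ∈ Subgroup.centralizer (A.subgroupOf Bs : Set Bs)) →
      ∀ k ∈ K, (k : G) ∈ Subgroup.centralizer (A : Set G) := by
    intro K hK hKm k hk
    haveI := hK
    have h := Pure.centralises B.hlm hzl (A.subgroupOf Bs)
      ((P.2.to_le hAP).comap_of_injective Bs.subtype Bs.subtype_injective)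
      (fun x hx y hy => Subtype.ext (hAc x hx y hy).eq) K hKm hk
    refine Subgroup.mem_centralizer_iff.2 fun y hy => ?_
    exact congrArg Subtype.val (Subgroup.mem_centralizer_iff.1 h ⟨y, hAB hy⟩ hy)
  -- no `l`- or `m`-core in the quotient
  have hcore : ∀ q : ℕ, (q = l ∨ q = m) → Cfsg.pCore q (N ⧸ C') = ⊥ := by
    intro q hq
    haveI : Fact q.Prime := by rcases hq with rfl | rfl <;> infer_instance
    set f := QuotientGroup.mk' C'
    set K := (Cfsg.pCore q (N ⧸ C')).comap f with hK
    rw [← Subgroup.map_comap_eq_self_of_surjective (QuotientGroup.mk'_surjective C')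
      (Cfsg.pCore q (N ⧸ C')), eq_bot_iff]
    rintro _ ⟨k, hk, rfl⟩
    refine Subgroup.mem_bot.2 ((QuotientGroup.eq_one_iff k).2 ?_)
    change k ∈ K at hk
    rcases hq with hq | hq <;> subst q
    · -- an `l`-core centralises each generator
      rw [hC'mem]
      have hle : A ≤ Subgroup.centralizer ({(k : G)} : Set G) := by
        rw [hA, Subgroup.closure_le]
        intro x hx
        obtain ⟨R, hRN, hRx⟩ := hsyl x hx
        have h1 : f k ∈ ((R.subtype hRN).mapSurjective (QuotientGroup.mk'_surjective C') :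
            Subgroup (N ⧸ C')) := Cores.pCore_le_sylow _ hk
        rw [Sylow.coe_mapSurjective] at h1
        obtain ⟨r, hr, he⟩ := h1
        have hc : r⁻¹ * k ∈ C' := (QuotientGroup.eq).1 he
        rw [hC'mem] at hc
        have h2 : (r : G) * ((r⁻¹ * k : N) : G) ∈ Subgroup.centralizer ({x} : Set G) := by
          refine mul_mem (hRx ?_) ?_
          · rw [Sylow.coe_subtype] at hr
            exact hr
          · exact mem_cen.2 (Subgroup.mem_centralizer_iff.1 hc x (Subgroup.subset_closure hx))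
        rw [Subgroup.coe_mul, Subgroup.coe_inv, mul_inv_cancel_left] at h2
        exact mem_cen_comm.1 h2
      exact Subgroup.mem_centralizer_iff.2 fun y hy => (mem_cen.1 (hle hy)).symm
    · -- an `m`-core centralises `A`
      have hKm : ∀ x ∈ K, ∃ j, x ^ m ^ j ∈ C' := fun x hx => by
        obtain ⟨j, hj⟩ := Cores.pCore_isPGroup (G := N ⧸ C') m ⟨f x, hx⟩
        refine ⟨j, (QuotientGroup.eq_one_iff _).1 ?_⟩
        rw [QuotientGroup.mk_pow]
        exact congrArg Subtype.val hj
      haveI hKn : K.Normal := Subgroup.Normal.comap inferInstance _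
      -- its `m`-elements centralise `A`
      obtain ⟨Q, hQ⟩ := exists_sylow_le (G := N) (p := m) (H := Bs.subgroupOf N) (fun hd => by
        have h1 : Bs.relIndex N ∣ Bs.index := Subgroup.relIndex_dvd_index_of_le hBN
        exact not_dvd_index_of_eq X B.hzb hm hmb (hd.trans h1))
      have hmel : ∀ y ∈ K, (∃ j, orderOf y = m ^ j) → y ∈ C' := by
        rintro y hy ⟨j, hj⟩
        obtain ⟨R, hR⟩ := (RankFour54.isPGroup_zpowers hj).exists_le_sylow
        obtain ⟨n, hn⟩ := MulAction.exists_smul_eq N R Q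
        have hyB : n * y * n⁻¹ ∈ Bs.subgroupOf N := hQ (by
          rw [← hn]; exact ⟨y, hR (Subgroup.mem_zpowers y), rfl⟩)
        have hyK : n * y * n⁻¹ ∈ K := hKn.conj_mem y hy n
        have h := hcentral ((K.map N.subtype).subgroupOf Bs) ⟨fun s hs g => by
          obtain ⟨s', hs', hse⟩ := hs
          refine ⟨⟨g, hBN g.2⟩ * s' * ⟨g, hBN g.2⟩⁻¹, hKn.conj_mem s' hs' _, ?_⟩
          show (g : G) * s' * (g : G)⁻¹ = _
          rw [show (s' : G) = s from hse]; rfl⟩ (fun s hs => by
            obtain ⟨s', hs', hse⟩ := hs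
            obtain ⟨j, hj⟩ := hKm s' hs'
            refine ⟨j, Subgroup.mem_centralizer_iff.2 fun t ht => Subtype.ext ?_⟩
            rw [hC'mem, SubmonoidClass.coe_pow] at hj
            have := Subgroup.mem_centralizer_iff.1 hj t ht
            rw [show (s' : G) = s from hse] at this
            simpa using this)
          ⟨_, hyB⟩ ⟨_, hyK, rfl⟩
        have h' : n * y * n⁻¹ ∈ C' := (hC'mem _).2 h
        have hC'n : C'.Normal := inferInstance
        simpa [mul_assoc] using hC'n.conj_mem _ h' n⁻¹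
      refine RankFour54.mem_of_parts C' fun t q j hq hj => ?_
      by_cases hqm : q = m
      · exact hmel _ (K.pow_mem hk t) ⟨j, hqm ▸ hj⟩
      · obtain ⟨j', hj'⟩ := hKm _ (K.pow_mem hk t)
        have hc : (orderOf (k ^ t)).Coprime (m ^ j') := by
          rw [hj]; exact Nat.Coprime.pow _ _ ((Nat.coprime_primes hq hm).2 hqm)
        have hmem : k ^ t ∈ Subgroup.zpowers ((k ^ t) ^ m ^ j') := by
          obtain ⟨s, hs⟩ := exists_pow_eq_self_of_coprime hc.symm
          exact ⟨s, by simpa using hs⟩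
        exact Subgroup.zpowers_le.2 hj' hmem
  -- the other Sylow subgroups of `N` are cyclic
  set F := Cfsg.fittingSubgroup (N ⧸ C')
  haveI : Fact (Nat.Prime 2) := ⟨Nat.prime_two⟩
  haveI hsolN : Group.IsSolvable N := OddOrder.FeitThompson.isSolvable_of_odd_card hNodd
  haveI : Group.IsSolvable (N ⧸ C') :=
    Group.isSolvable_of_surjective (QuotientGroup.mk'_surjective C')
  have hA'ne : A' ≠ ⊥ := fun h => ne_one_of_prime hl B.hzo (by
    have hm : (⟨z, hAN hzA⟩ : N) ∈ A' := hzA
    rw [h, Subgroup.mem_bot] at hm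
    exact congrArg Subtype.val hm)
  have hder : commutator (N ⧸ C') ≤ F := by
    refine le_trans ?_ Cores.centralizer_fittingSubgroup_le
    rw [Cores.fittingSubgroup_eq_iSup_pCore, Subgroup.le_centralizer_iff]
    refine iSup_le fun q => ?_
    haveI : Fact (q : ℕ).Prime := ⟨q.2⟩
    by_cases hql : (q : ℕ) = l ∨ (q : ℕ) = m
    · rw [hcore q hql]; exact bot_le
    obtain ⟨R⟩ : Nonempty (Sylow (q : ℕ) N) := inferInstance
    by_cases hqd : (q : ℕ) ∣ Nat.card N
    swap
    · have : (R : Subgroup N) = ⊥ := Subgroup.eq_bot_of_card_eq _ (by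
        rw [R.card_eq_multiplicity, Nat.factorization_eq_zero_of_not_dvd hqd, pow_zero])
      have h1 : Cfsg.pCore (q : ℕ) (N ⧸ C') ≤
          ((R.mapSurjective (QuotientGroup.mk'_surjective C')) : Subgroup (N ⧸ C')) :=
        Cores.pCore_le_sylow _
      rw [Sylow.coe_mapSurjective, this, Subgroup.map_bot, le_bot_iff] at h1
      rw [h1]; exact bot_le
    have hqb : ¬ (q : ℕ) ∣ b := fun h => hql (hone q q.2 h)
    have hqa : (q : ℕ) ∣ a := (side X q.2 (hqd.trans (Subgroup.card_subgroup_dvd_card N))).resolve_right hqb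
    have hfix : ∀ r ∈ (R : Subgroup N), r ≠ 1 → A' ⊓ Subgroup.centralizer ({r} : Set N) = ⊥ := by
      intro r hr hr1
      rw [Subgroup.eq_bot_iff_forall]
      rintro x ⟨hx, hxr⟩
      by_contra hx1
      obtain ⟨j, hj⟩ := exists_orderOf_eq (R.2.map N.subtype) ⟨r, hr, rfl⟩
      change orderOf (r : G) = _ at hj
      have hr1' : (r : G) ≠ 1 := fun h => hr1 (Subtype.ext h)
      obtain ⟨q', j', hq', hj', -⟩ := exists_prime_pow hr1'
      have e1 : q' = q := (Nat.prime_dvd_prime_iff_eq hq' q.2).1
        (hq'.dvd_of_dvd_pow (hj ▸ hj' ▸ orderOf_pow_dvd j'))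
      obtain ⟨l', k', hl', hk', -⟩ := exists_prime_pow (x := (x : G)) (fun h => hx1 (Subtype.ext h))
      have hxA : (x : G) ∈ A := hx
      have e2 : l' = l := by
        obtain ⟨s, hs⟩ := exists_orderOf_eq P.2 (hAP hxA)
        exact (Nat.prime_dvd_prime_iff_eq hl' hl).1
          (hl'.dvd_of_dvd_pow (hs ▸ hk' ▸ orderOf_pow_dvd k'))
      subst e1 e2
      exact Split.no_commute X.S hq' hl' hj' hk' hqa hlb
        ((show Commute (r : G) x from congrArg Subtype.val (mem_cen.1 hxr)).pow_pow j' k')
    have hdis : A' ⊓ (R : Subgroup N) = ⊥ := by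
      rw [Subgroup.eq_bot_iff_forall]
      rintro x ⟨hx, hxR⟩
      by_contra hx1
      have := hfix x hxR hx1
      exact hx1 (Subgroup.mem_bot.1 (this ▸ ⟨hx, mem_self x⟩))
    have hcyc : IsCyclic (R : Subgroup N) :=
      (CNGroup.Solvable.isCyclic_of_fpf_action hA'ne hdis hfix).2 R.2.isNilpotent
        (hNodd.of_dvd_nat (Subgroup.card_subgroup_dvd_card _))
    haveI : IsCyclic (Cfsg.pCore (q : ℕ) (N ⧸ C')) := by
      haveI : IsCyclic ((R : Subgroup N).map (QuotientGroup.mk' C')) :=
        isCyclic_of_surjective ((QuotientGroup.mk' C').subgroupMap (R : Subgroup N))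
          (MonoidHom.subgroupMap_surjective _ _)
      have hle : Cfsg.pCore (q : ℕ) (N ⧸ C') ≤ (R : Subgroup N).map (QuotientGroup.mk' C') := by
        rw [← Sylow.coe_mapSurjective (QuotientGroup.mk'_surjective C')]
        exact Cores.pCore_le_sylow _
      exact isCyclic_of_injective (Subgroup.inclusion hle) (Subgroup.inclusion_injective hle)
    exact Subgroup.le_centralizer_iff.1 (commutator_le_centralizer _)
  -- so `C(z)` is commutative modulo `C(A)`
  have hcomm : ∀ x y : Bs, (⁅x, y⁆ : Bs).1 ∈ Subgroup.centralizer (A : Set G) := by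
    intro x y
    set t : N := ⟨((⁅x, y⁆ : Bs) : G), hBN (⁅x, y⁆ : Bs).2⟩ with ht
    suffices h : t ∈ C' from (hC'mem t).1 h
    have htF : (t : N ⧸ C') ∈ F := by
      refine hder ?_
      have : t = ⁅(⟨x, hBN x.2⟩ : N), (⟨y, hBN y.2⟩ : N)⁆ := Subtype.ext (by
        simp [ht, commutatorElement_def])
      rw [this]
      show QuotientGroup.mk' C' _ ∈ _
      rw [map_commutatorElement]
      exact Subgroup.commutator_mem_commutator (Subgroup.mem_top _) (Subgroup.mem_top _)
    rw [← QuotientGroup.eq_one_iff]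
    by_contra ht1
    obtain ⟨q, j, hq, hj, -⟩ := exists_prime_pow ht1
    haveI := Fact.mk hq
    have hqB : q ∣ Nat.card Bs := by
      have h1 : orderOf (t : N ⧸ C') ∣ Nat.card Bs :=
        (orderOf_map_dvd (QuotientGroup.mk' C') t).trans (by
          rw [← Subgroup.orderOf_coe]
          exact Subgroup.orderOf_dvd_natCard _ (⁅x, y⁆ : Bs).2)
      exact (hj ▸ orderOf_pow_dvd j).trans h1
    have hbot := hcore q (hone q hq (hBcard ▸ hqB))
    haveI : Group.IsNilpotent F := Cores.fittingSubgroup_isNilpotent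
    obtain ⟨R, hR⟩ := (RankFour54.isPGroup_zpowers (p := q) (k := 1)
      (x := (⟨_, F.pow_mem htF j⟩ : F)) (by rw [Subgroup.orderOf_mk, hj, pow_one])).exists_le_sylow
    haveI : (R : Subgroup F).Characteristic := Sylow.characteristic_of_normal R inferInstance
    haveI := Cores.normal_map_subtype F (R : Subgroup F)
    have := Cores.le_pCore (R.2.map F.subtype) ⟨_, hR (Subgroup.mem_zpowers _), rfl⟩
    rw [hbot, Subgroup.mem_bot] at this
    exact ne_one_of_prime hq hj this
  -- so the Sylow `m`-subgroup centralises `A`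
  obtain ⟨Q⟩ : Nonempty (Sylow m Bs) := inferInstance
  set CA := (Subgroup.centralizer (A : Set G)).subgroupOf Bs
  haveI hCAn : CA.Normal := normal_of_commutator_le fun x y => hcomm x y
  have hQ := hcentral (CA ⊔ (Q : Subgroup Bs))
    (normal_of_commutator_le fun x y => Subgroup.mem_sup_left (hcomm x y)) (fun k hk => by
      obtain ⟨c, hc, q, hq, rfl⟩ := Subgroup.mem_sup_of_normal_left.1 hk
      obtain ⟨j, hj⟩ := exists_orderOf_eq Q.2 hq
      refine ⟨j, ?_⟩
      have hCA : CA ≤ Subgroup.centralizer (A.subgroupOf Bs : Set Bs) := fun s hs =>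
        Subgroup.mem_centralizer_iff.2 fun t ht =>
          Subtype.ext (Subgroup.mem_centralizer_iff.1 hs t ht)
      refine hCA ((QuotientGroup.eq_one_iff _).1 ?_)
      rw [QuotientGroup.mk_pow, QuotientGroup.mk_mul, (QuotientGroup.eq_one_iff c).2 hc, one_mul,
        ← QuotientGroup.mk_pow, ← hj, pow_orderOf_eq_one, QuotientGroup.mk_one])
  have hd := card_inter B hl hvo hv hvn
  have hQv : (Q : Subgroup Bs).map Bs.subtype ≤ Subgroup.centralizer ({v} : Set G) ⊓ Bs := by
    rintro _ ⟨q, hq, rfl⟩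
    exact ⟨mem_cen.2 (Subgroup.mem_centralizer_iff.1 (hQ q (Subgroup.mem_sup_right hq)) v hvA), q.2⟩
  have hdd := Subgroup.card_dvd_of_le hQv
  rw [hd, Subgroup.card_map_of_injective Bs.subtype_injective, Q.card_eq_multiplicity, hBcard] at hdd
  have := fac_le_of_pow_dvd hm (Odd.e_pos X).ne' hdd
  have := B.hem
  omega

end Cfsg.Agent.Lib.RankFive54.ZJCase
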