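import Mathlib
import Cfsg.Agent.Lib.RankFive54.ZJCase
import Cfsg.Agent.Lib.TwoClassSizes.Basic

/-!
# The larger value is the smaller times a prime power
-/

set_option autoImplicit false
set_option linter.style.haveILetI false
set_option linter.unusedSectionVars false

namespace Cfsg.Agent.Lib.RankFive54.Primes

open Cfsg.Agent.Lib.ClassSizes.Basic
open Cfsg.Agent.Lib.Inv59.RankThree
open Cfsg.Agent.Lib.RankFour54
open Cfsg.Agent.Lib.RankFive54.Odd
open Cfsg.Agent.Lib.RankFive54.Two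

universe u

variable {G : Type u} [Group G] [Finite G]

/-- In a cyclic group an element whose order divides that of another is a power of it. -/
theorem pow_mem_zpowers {x : G} {j k : ℕ} (h : orderOf (x ^ k) ∣ orderOf (x ^ j)) :
    x ^ k ∈ Subgroup.zpowers (x ^ j) := by
  have h1 : x ^ (k * orderOf (x ^ j)) = 1 := by
    rw [pow_mul]; exact orderOf_dvd_iff_pow_eq_one.1 h
  have h2 : orderOf x ∣ k * orderOf (x ^ j) := orderOf_dvd_of_pow_eq_one h1
  set g := Nat.gcd (orderOf x) j with hg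
  have hg0 : 0 < g := Nat.gcd_pos_of_pos_left _ (orderOf_pos x)
  rw [orderOf_pow, ← hg] at h2
  obtain ⟨d, hd⟩ : g ∣ orderOf x := Nat.gcd_dvd_left _ _
  rw [hd, Nat.mul_div_cancel_left _ hg0] at h2
  have hd0 : 0 < d := Nat.pos_of_ne_zero fun h0 => by
    have := orderOf_pos x
    rw [hd, h0, mul_zero] at this
    omega
  obtain ⟨c, rfl⟩ := Nat.dvd_of_mul_dvd_mul_right hd0 h2
  refine ⟨Nat.gcdB (orderOf x) j * c, ?_⟩
  have hb := Nat.gcd_eq_gcd_ab (orderOf x) j
  rw [← hg] at hb
  show (x ^ j) ^ (Nat.gcdB (orderOf x) j * c : ℤ) = x ^ (g * c)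
  rw [← zpow_natCast x j, ← zpow_mul, ← zpow_natCast x (g * c)]
  refine zpow_eq_zpow_iff_modEq.2 (Int.modEq_iff_dvd.2 ⟨Nat.gcdA (orderOf x) j * c, ?_⟩)
  push_cast
  rw [hb]
  ring

theorem card_centralizer_subtype {C : Subgroup G} (v : C) :
    Nat.card (Subgroup.centralizer ({v} : Set C)) =
      Nat.card (Subgroup.centralizer ({(v : G)} : Set G) ⊓ C : Subgroup G) := by
  rw [← Subgroup.card_map_of_injective C.subtype_injective]
  congr 1
  refine congrArg (fun S : Subgroup G => (S : Type _)) ?_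
  ext g
  constructor
  · rintro ⟨y, hy, rfl⟩
    exact ⟨mem_cen.2 (congrArg Subtype.val (mem_cen.1 hy)), y.2⟩
  · rintro ⟨h1, h2⟩
    exact ⟨⟨g, h2⟩, mem_cen.2 (Subtype.ext (mem_cen.1 h1)), rfl⟩

theorem centralizer_subtype_eq {C : Subgroup G} {u v : C}
    (h : Subgroup.centralizer ({(u : G)} : Set G) ⊓ C = Subgroup.centralizer ({(v : G)} : Set G) ⊓ C) :
    Subgroup.centralizer ({u} : Set C) = Subgroup.centralizer ({v} : Set C) := by
  ext g
  constructor <;> intro hg
  · have : (g : G) ∈ Subgroup.centralizer ({(v : G)} : Set G) ⊓ C :=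
      h ▸ (⟨mem_cen.2 (congrArg Subtype.val (mem_cen.1 hg)), g.2⟩ :
        (g : G) ∈ Subgroup.centralizer ({(u : G)} : Set G) ⊓ C)
    exact mem_cen.2 (Subtype.ext (mem_cen.1 this.1))
  · have : (g : G) ∈ Subgroup.centralizer ({(u : G)} : Set G) ⊓ C :=
      h.symm ▸ (⟨mem_cen.2 (congrArg Subtype.val (mem_cen.1 hg)), g.2⟩ :
        (g : G) ∈ Subgroup.centralizer ({(v : G)} : Set G) ⊓ C)
    exact mem_cen.2 (Subtype.ext (mem_cen.1 this.1))

variable [IsSimpleGroup G] {a b e l m : ℕ} {z w : G}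

/-- Commuting noncentral elements of the two primes have the same centraliser in `C(z)`. -/
theorem cell (B : Base G a b e l m z w) {u v : G} (hu : ∃ i, orderOf u = l ^ i)
    (hv : ∃ i, orderOf v = m ^ i) (hum : u ∈ Subgroup.centralizer ({z} : Set G))
    (hvm : v ∈ Subgroup.centralizer ({z} : Set G))
    (hun : ¬ Subgroup.centralizer ({z} : Set G) ≤ Subgroup.centralizer ({u} : Set G))
    (hvn : ¬ Subgroup.centralizer ({z} : Set G) ≤ Subgroup.centralizer ({v} : Set G))
    (hc : Commute u v) :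
    Subgroup.centralizer ({u} : Set G) ⊓ Subgroup.centralizer ({z} : Set G) =
      Subgroup.centralizer ({v} : Set G) ⊓ Subgroup.centralizer ({z} : Set G) := by
  classical
  have X := B.X
  obtain ⟨i, hi⟩ := hu
  obtain ⟨j, hj⟩ := hv
  set Bs := Subgroup.centralizer ({z} : Set G) with hBs
  have hBcard : Nat.card Bs = b := B.hzb
  haveI := Fact.mk B.hl
  haveI := Fact.mk B.hm
  by_cases hthird : ∃ r : ℕ, r.Prime ∧ r ∣ b ∧ r ≠ l ∧ r ≠ m
  · obtain ⟨r, hr, hrb, hrl, hrm⟩ := hthird
    haveI := Fact.mk hr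
    have cp : ∀ {p q i i' : ℕ}, p.Prime → q.Prime → p ≠ q → (p ^ i).Coprime (q ^ i') :=
      fun hp hq hne => Nat.Coprime.pow _ _ ((Nat.coprime_primes hp hq).2 hne)
    by_cases hex : ∃ s : G, (∃ k, orderOf s = r ^ k) ∧
        s ∈ Subgroup.centralizer ({u} : Set G) ⊓ Bs ∧ ¬ Bs ≤ Subgroup.centralizer ({s} : Set G)
    · obtain ⟨s, ⟨k, hk⟩, ⟨hsu, hsB⟩, hsn⟩ := hex
      have e1 := cell3 B B.hm B.hmb B.hwo B.hCw hum hsB hun hsn
        (by rw [hi]; simpa using cp (i := i) (i' := 1) B.hl B.hm B.hlm)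
        (by rw [hk]; simpa using cp (i := k) (i' := 1) hr B.hm hrm)
        (by rw [hi, hk]; exact cp B.hl hr hrl.symm) (mem_cen.1 hsu)
      have hvs : Commute s v := by
        have : v ∈ Subgroup.centralizer ({u} : Set G) ⊓ Bs := ⟨mem_cen.2 hc.eq, hvm⟩
        rw [e1] at this
        exact mem_cen.1 this.1
      rw [e1]
      exact cell3 B B.hl B.hlb B.hzo rfl hsB hvm hsn hvn
        (by rw [hk]; simpa using cp (i := k) (i' := 1) hr B.hl hrl)
        (by rw [hj]; simpa using cp (i := j) (i' := 1) B.hm B.hl B.hlm.symm)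
        (by rw [hk, hj]; exact cp hr B.hm hrm) hvs
    push Not at hex
    obtain ⟨c, hco, hCc⟩ : ∃ c : G, orderOf c = r ∧
        Subgroup.centralizer ({c} : Set G) = Bs := by
      have hfin : ∀ c : G, orderOf c = r → c ∈ Bs → Bs ≤ Subgroup.centralizer ({c} : Set G) →
          Subgroup.centralizer ({c} : Set G) = Bs := fun c hco _ hle => by
        refine (Subgroup.eq_of_le_of_card_ge hle ?_).symm
        rw [hBcard]
        exact Nat.le_of_dvd (Split.pos X.S).2
          (value_dvd X (ne_one_of_prime hr hco) hr (hco ▸ orderOf_dvd_cn c) hrb)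
      have hcu := card_inter B B.hl hi hum hun
      by_cases hre : r ∣ e
      · obtain ⟨c, hc'⟩ := exists_prime_orderOf_dvd_card'
          (G := (Subgroup.centralizer ({u} : Set G) ⊓ Bs : Subgroup G)) r
          (hcu.symm ▸ hre)
        rw [← Subgroup.orderOf_coe] at hc'
        exact ⟨c, hc', hfin c hc' c.2.2 (hex c ⟨1, by rw [hc', pow_one]⟩ c.2)⟩
      · obtain ⟨R, hR⟩ := exists_sylow_le (p := r) (not_dvd_index_of_eq X B.hzb hr hrb)
        obtain ⟨c, hcR, hco, hRc⟩ := exists_central_invariant R.2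
          (R.ne_bot_of_dvd_card (hrb.trans (Dvd.intro_left a X.S.card.symm)))
        refine ⟨c, hco, hfin c hco (hR hcR) (central_of_full B hr ?_ (i := 1) (by rw [hco, pow_one])
          (hR hcR) (card_sylow X hrb R) hR hRc)⟩
        rw [Nat.factorization_eq_zero_of_not_dvd hre]
        exact hr.factorization_pos_of_dvd (Split.pos X.S).2.ne' hrb
    exact cell3 B hr hrb hco hCc hum hvm hun hvn
      (by rw [hi]; simpa using cp (i := i) (i' := 1) B.hl hr hrl.symm)
      (by rw [hj]; simpa using cp (i := j) (i' := 1) B.hm hr hrm.symm)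
      (by rw [hi, hj]; exact cp B.hl B.hm B.hlm) hc
  push Not at hthird
  have hone : ∀ r : ℕ, r.Prime → r ∣ b → r = l ∨ r = m := fun r hr hrb => by
    by_cases h : r = l
    · exact Or.inl h
    · exact Or.inr (hthird r hr hrb h)
  have hodd : Odd (Nat.card Bs) := Nat.not_even_iff_odd.1 fun h =>
    not_both X Nat.prime_two X.h2 (hBcard ▸ even_iff_two_dvd.1 h)
  haveI : Fact (Nat.Prime 2) := ⟨Nat.prime_two⟩
  have hz' : ∀ {p q : ℕ} {c d : G}, Base G a b e p q c d →
      Subgroup.centralizer ({c} : Set G) = Bs → ∀ (s : Bs) (R : Sylow p Bs),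
      (R : Subgroup Bs) ≤ Subgroup.centralizer ({s} : Set Bs) →
      (∃ k, orderOf s = p ^ k) → s ∈ Subgroup.center Bs := by
    rintro p q c d B' hCc s R hR ⟨k, hk⟩
    haveI := Fact.mk B'.hl
    rw [Local.mem_center_subtype]
    refine central_of_full B B'.hl B'.hel (v := (s : G))
      (P := (R : Subgroup Bs).map Bs.subtype) (by rw [Subgroup.orderOf_coe, hk]) s.2 ?_
      (Subgroup.map_subtype_le _) ?_
    · rw [Subgroup.card_map_of_injective Bs.subtype_injective, R.card_eq_multiplicity, hBcard]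
    · rintro _ ⟨y, hy, rfl⟩
      exact mem_cen.2 (congrArg Subtype.val (mem_cen.1 (hR hy)))
  have hcomm : ∀ {p : ℕ}, p.Prime → p ∣ b → ∀ (R : Sylow p Bs),
      ∀ s ∈ (R : Subgroup Bs), ∀ s' ∈ (R : Subgroup Bs), s ∉ Subgroup.center Bs →
      s' ∉ Subgroup.center Bs → ¬ cn (s : G) = e → ¬ cn (s' : G) = e → Commute s s' := by
    intro p hp hpb R s hs s' hs' hsn hsn' hse hse'
    haveI := Fact.mk hp
    obtain ⟨P, hP⟩ := (R.2.map Bs.subtype).exists_le_sylow
    have hval : ∀ s : Bs, s ∈ (R : Subgroup Bs) → s ∉ Subgroup.center Bs → ¬ cn (s : G) = e →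
        cn (s : G) = b := fun s hs hsn hse => by
      obtain ⟨k, hk⟩ := exists_orderOf_eq R.2 hs
      rw [← Subgroup.orderOf_coe] at hk
      have h1 : (s : G) ≠ 1 := fun h => hsn (by
        rw [show s = 1 from Subtype.ext h]; exact one_mem _)
      refine (value X h1 hp ((dvd_pow_self p fun h0 => h1 (orderOf_eq_one_iff.1 ?_)).trans
        (hk ▸ orderOf_dvd_cn _)) hpb).resolve_right hse
      rw [hk, h0, pow_zero]
    exact Subtype.ext (ZJ.centerA_comm (mem_zj X hpb P (hP ⟨s', hs', rfl⟩) (hval s' hs' hsn' hse'))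
      (mem_zj X hpb P (hP ⟨s, hs, rfl⟩) (hval s hs hsn hse)).1)
  have hH : Pure.Hyp Bs l m (fun s : Bs => cn (s : G) = e) := by
    refine ⟨B.hl, B.hm, B.hlm, fun r hr hd => hone r hr (hBcard ▸ hd),
      OddOrder.FeitThompson.isSolvable_of_odd_card hodd, hz' B rfl, hz' B.symm B.hCw,
      ?_, hcomm B.hl B.hlb, hcomm B.hm B.hmb⟩
    rintro s t ⟨k, hk⟩ ⟨k', hk'⟩ hsn htn hst hE
    rw [Local.mem_center_subtype] at hsn htn
    rw [← Subgroup.orderOf_coe] at hk hk'
    refine centralizer_subtype_eq ?_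
    have hst' : Commute (s : G) (t : G) := congrArg Subtype.val hst.eq
    rcases hE with hE | hE
    · exact cell_small B ⟨k, hk⟩ ⟨k', hk'⟩ s.2 t.2 hsn htn hst' hE
    · have := cell_small B.symm ⟨k', hk'⟩ ⟨k, hk⟩ (B.hCw ▸ t.2) (B.hCw ▸ s.2) (B.hCw ▸ htn)
        (B.hCw ▸ hsn) hst'.symm hE
      rw [B.hCw] at this
      exact this.symm
  rcases Pure.core_central hH with hL | hM
  · have h := ZJCase.small B.symm (fun r hr hd => (hone r hr hd).symm)
      (by rw [B.hCw]; exact hL) (B.hCw ▸ hvm) hj (B.hCw ▸ hvn)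
    have := cell_small B.symm ⟨j, hj⟩ ⟨i, hi⟩ (B.hCw ▸ hvm) (B.hCw ▸ hum) (B.hCw ▸ hvn)
      (B.hCw ▸ hun) hc.symm h
    rw [B.hCw] at this
    exact this.symm
  · exact cell_small B ⟨i, hi⟩ ⟨j, hj⟩ hum hvm hun hvn hc (ZJCase.small B hone hM hum hi hun)

/-- Commuting noncentral elements of two different primes have the same centraliser in `C(z)`. -/
theorem cell_all (B : Base G a b e l m z w) {u v : G} {p q i j : ℕ} (hp : p.Prime) (hq : q.Prime)
    (hpq : p ≠ q) (hu : orderOf u = p ^ i) (hv : orderOf v = q ^ j)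
    (hum : u ∈ Subgroup.centralizer ({z} : Set G)) (hvm : v ∈ Subgroup.centralizer ({z} : Set G))
    (hun : ¬ Subgroup.centralizer ({z} : Set G) ≤ Subgroup.centralizer ({u} : Set G))
    (hvn : ¬ Subgroup.centralizer ({z} : Set G) ≤ Subgroup.centralizer ({v} : Set G))
    (hc : Commute u v) :
    Subgroup.centralizer ({u} : Set G) ⊓ Subgroup.centralizer ({z} : Set G) =
      Subgroup.centralizer ({v} : Set G) ⊓ Subgroup.centralizer ({z} : Set G) := by
  have key : ∀ (r : ℕ) (c : G), r.Prime → r ∣ b → orderOf c = r → p ≠ r → q ≠ r →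
      Subgroup.centralizer ({c} : Set G) = Subgroup.centralizer ({z} : Set G) →
      Subgroup.centralizer ({u} : Set G) ⊓ Subgroup.centralizer ({z} : Set G) =
        Subgroup.centralizer ({v} : Set G) ⊓ Subgroup.centralizer ({z} : Set G) :=
    fun r c hr hrb hco h1 h2 hCc => cell3 B hr hrb hco hCc hum hvm hun hvn
      (by rw [hu]; exact Nat.Coprime.pow_left i ((Nat.coprime_primes hp hr).2 h1))
      (by rw [hv]; exact Nat.Coprime.pow_left j ((Nat.coprime_primes hq hr).2 h2))
      (by rw [hu, hv]; exact Nat.Coprime.pow i j ((Nat.coprime_primes hp hq).2 hpq)) hc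
  by_cases h1 : p ≠ l ∧ q ≠ l
  · exact key l z B.hl B.hlb B.hzo h1.1 h1.2 rfl
  by_cases h2 : p ≠ m ∧ q ≠ m
  · exact key m w B.hm B.hmb B.hwo h2.1 h2.2 B.hCw
  by_cases hpl : p = l
  · have hqm : q = m := by
      by_contra hne
      exact h2 ⟨hpl ▸ B.hlm, hne⟩
    exact cell B ⟨i, hpl ▸ hu⟩ ⟨j, hqm ▸ hv⟩ hum hvm hun hvn hc
  · have hql : q = l := by
      by_contra hne
      exact h1 ⟨hpl, hne⟩
    have hpm : p = m := by
      by_contra hne
      exact h2 ⟨hne, hql ▸ B.hlm⟩
    exact (cell B ⟨j, hql ▸ hv⟩ ⟨i, hpm ▸ hu⟩ hvm hum hvn hun hc.symm).symm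

/-- Only one prime has a smaller part in `e` than in `b`. -/
theorem eq_of_lt (X : Ctx G a b e) {l m : ℕ} (hl : l.Prime) (hm : m.Prime)
    (hel : e.factorization l < b.factorization l) (hem : e.factorization m < b.factorization m) :
    l = m := by
  classical
  by_contra hlm
  obtain ⟨z, w, B⟩ := exists_base X hl hm hlm hel hem
  haveI := Fact.mk hl
  haveI := Fact.mk hm
  set Bs := Subgroup.centralizer ({z} : Set G)
  have hBcard : Nat.card Bs = b := B.hzb
  have he0 := Odd.e_pos X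
  -- centralisers of noncentral elements have order `e`
  have hcard : ∀ s : Bs, s ∉ Subgroup.center Bs →
      Nat.card (Subgroup.centralizer ({s} : Set Bs)) = e := by
    intro s hs
    rw [card_centralizer_subtype]
    rw [Local.mem_center_subtype] at hs
    obtain ⟨k, p, i, hp, hk, hn⟩ : ∃ (k p i : ℕ), p.Prime ∧ orderOf ((s : G) ^ k) = p ^ i ∧
        ¬ Bs ≤ Subgroup.centralizer ({(s : G) ^ k} : Set G) := by
      by_contra! hall
      exact hs fun g hg => mem_cen_comm.1 (RankFour54.mem_of_parts _ fun k p i hp hk =>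
        mem_cen_comm.1 (hall k p i hp hk hg))
    have hkB : (s : G) ^ k ∈ Bs := Bs.pow_mem s.2 k
    have heq : Subgroup.centralizer ({(s : G)} : Set G) ⊓ Bs =
        Subgroup.centralizer ({(s : G) ^ k} : Set G) ⊓ Bs := by
      refine le_antisymm (inf_le_inf_right _ (cen_le_pow _ _)) fun g hg => ⟨?_, hg.2⟩
      refine mem_cen_comm.1 (RankFour54.mem_of_parts _ fun j q i' hq hj => mem_cen_comm.1 ?_)
      by_cases hjc : Bs ≤ Subgroup.centralizer ({(s : G) ^ j} : Set G)
      · exact hjc hg.2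
      have hjB : (s : G) ^ j ∈ Bs := Bs.pow_mem s.2 j
      suffices h : g ∈ Subgroup.centralizer ({(s : G) ^ j} : Set G) ⊓ Bs from h.1
      by_cases hpq : p = q
      · subst hpq
        have h1 := card_inter B hp hj hjB hjc
        have h2 := card_inter B hp hk hkB hn
        rcases le_total i i' with hle | hle
        · have hm' := pow_mem_zpowers (x := (s : G)) (j := j) (k := k)
            (by rw [hk, hj]; exact pow_dvd_pow p hle)
          rwa [Subgroup.eq_of_le_of_card_ge (inf_le_inf_right Bs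
            (TwoClassSizes.cen_le_cen_of_mem_zpowers hm' :
              Subgroup.centralizer ({(s : G) ^ j} : Set G) ≤ _)) (by rw [h2]; exact le_of_eq h1.symm)]
        · have hm' := pow_mem_zpowers (x := (s : G)) (j := k) (k := j)
            (by rw [hk, hj]; exact pow_dvd_pow p hle)
          exact ⟨(TwoClassSizes.cen_le_cen_of_mem_zpowers hm' :
              Subgroup.centralizer ({(s : G) ^ k} : Set G) ≤ _) hg.1, hg.2⟩
      · rwa [← cell_all B hp hq hpq hk hj hkB hjB hn hjc ((Commute.refl (s : G)).pow_pow k j)]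
    rw [heq]
    exact card_inter B hp hk hkB hn
  -- so the centraliser is nilpotent
  have hidx : TwoClassSizes.HasIndex (⊤ : Subgroup Bs) (b / e) := fun s _ hs => by
    have h1 := (Subgroup.centralizer ({s} : Set Bs)).card_mul_index
    rw [hcard s hs, hBcard] at h1
    show (Subgroup.centralizer ({s} : Set Bs)).index = b / e
    rw [← h1, Nat.mul_div_cancel_left _ he0]
  have hnc : ∀ {p : ℕ} [Fact p.Prime], e.factorization p < b.factorization p →
      ∀ R : Sylow p Bs, ¬ (R : Subgroup Bs) ≤ Subgroup.center Bs := by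
    intro p _ hep R hR
    obtain ⟨s, hs⟩ : ∃ s : Bs, s ∉ Subgroup.center Bs := by
      by_contra! hall
      have hBval : ∀ y ∈ Bs, y ≠ 1 → ∀ q : ℕ, q.Prime → q ∣ cn y → q ∣ b → cn y = b :=
        fun y hy hy1 q hq hqy hqb => Nat.dvd_antisymm (value_dvd X hy1 hq hqy hqb)
          (hBcard ▸ Subgroup.card_dvd_of_le (Local.mem_center_subtype.1 (hall ⟨y, hy⟩)))
      obtain ⟨v, hv1, hve⟩ := X.he
      obtain ⟨q, i, hq, hi, hi1⟩ := exists_prime_pow hv1
      have hqv : q ∣ cn v := hi ▸ orderOf_dvd_cn' (pow_mem (mem_self v) i)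
      have hqb : q ∣ b := hqv.trans (hve ▸ X.heb)
      haveI := Fact.mk hq
      obtain ⟨g, hg⟩ := exists_conj_mem hq (not_dvd_index_of_eq X B.hzb hq hqb) hi
      have hval := hBval _ hg (conj_ne_one hi1) q hq
        (hi ▸ RankFour54.orderOf_conj g (v ^ i) ▸ orderOf_dvd_cn _) hqb
      have heq := eq_of_le_cn (Local.mem_center_subtype.1 (hall ⟨_, hg⟩) :
        Bs ≤ Subgroup.centralizer ({g * v ^ i * g⁻¹} : Set G)) (B.hzb.trans hval.symm)
      have hgv : g * v * g⁻¹ ∈ Bs := by
        show g * v * g⁻¹ ∈ Subgroup.centralizer ({z} : Set G)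
        rw [heq]
        show g * v * g⁻¹ ∈ Subgroup.centralizer ({g * v ^ i * g⁻¹} : Set G)
        rw [← conj_pow]
        exact mem_cen.2 ((Commute.refl _).pow_left i).eq
      refine X.hne ?_
      rw [← hve, ← cn_conj g v]
      exact hBval _ hgv (conj_ne_one hv1) q hq ((cn_conj g v).symm ▸ hqv) hqb
    have h := Subgroup.card_dvd_of_le (show (R : Subgroup Bs) ≤ Subgroup.centralizer ({s} : Set Bs) from
      fun y hy => mem_cen.2 (Subgroup.mem_center_iff.1 (hR hy) s))
    rw [hcard s hs, R.card_eq_multiplicity, hBcard] at h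
    have := fac_le_of_pow_dvd Fact.out he0.ne' h
    omega
  haveI hnil : Group.IsNilpotent (⊤ : Subgroup Bs) :=
    TwoClassSizes.isNilpotent hidx (r := l) (fun R => le_top) (hnc hel)
  haveI : Group.IsNilpotent Bs := Group.nilpotent_of_mulEquiv Subgroup.topEquiv
  obtain ⟨P⟩ : Nonempty (Sylow l Bs) := inferInstance
  obtain ⟨Q⟩ : Nonempty (Sylow m Bs) := inferInstance
  obtain ⟨s, hs, hsn⟩ := SetLike.not_le_iff_exists.1 (hnc hem Q)
  have hPn : (P : Subgroup Bs).Normal := inferInstance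
  have hQn : (Q : Subgroup Bs).Normal := inferInstance
  have h := Subgroup.card_dvd_of_le (show (P : Subgroup Bs) ≤ Subgroup.centralizer ({s} : Set Bs) from
    fun y hy => mem_cen.2 (Subgroup.commute_of_normal_of_disjoint _ _ hPn hQn
      (IsPGroup.disjoint_of_ne l m hlm _ _ P.2 Q.2) y s hy hs).eq.symm)
  rw [hcard s hsn, P.card_eq_multiplicity, hBcard] at h
  have := fac_le_of_pow_dvd hl he0.ne' h
  omega

end Cfsg.Agent.Lib.RankFive54.Primes
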