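import Mathlib
import Cfsg.Agent.Lib.RankFive54.Primes
import Cfsg.Agent.Lib.Induced.Integral
import Cfsg.Agent.S4034
import Cfsg.Agent.S4035

/-!
# The odd side: setup, and the case of a second prime of full value

`b` is `e` times a power of the prime `l`; the Sylow subgroups of the other primes are abelian.
If one of those primes has an element of value `b`, its centraliser is a nilpotent subgroup of
order `b` containing the centralisers of its non-identity elements.
-/

set_option autoImplicit false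
set_option linter.style.haveILetI false
set_option linter.unusedSectionVars false

namespace Cfsg.Agent.Lib.RankFive54.Side

open Cfsg.Agent.Lib.ClassSizes.Basic
open Cfsg.Agent.Lib.Inv59.RankThree
open Cfsg.Agent.Lib.RankFour54
open Cfsg.Agent.Lib.RankFive54.Odd

universe u

variable {G : Type u} [Group G] [Finite G]

/-- Elements of coprime prime power orders in a nilpotent subgroup commute. -/
theorem commute_of_nilpotent {Y : Subgroup G} [Group.IsNilpotent Y] {u v : G} {p q i j : ℕ}
    (hp : p.Prime) (hq : q.Prime) (hne : p ≠ q) (hu : orderOf u = p ^ i) (hv : orderOf v = q ^ j)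
    (huY : u ∈ Y) (hvY : v ∈ Y) : Commute u v := by
  haveI := Fact.mk hp
  haveI := Fact.mk hq
  obtain ⟨P, hP⟩ := (RankFour54.isPGroup_zpowers (p := p) (k := i) (x := (⟨u, huY⟩ : Y))
    (by rw [Subgroup.orderOf_mk, hu])).exists_le_sylow
  obtain ⟨Q, hQ⟩ := (RankFour54.isPGroup_zpowers (p := q) (k := j) (x := (⟨v, hvY⟩ : Y))
    (by rw [Subgroup.orderOf_mk, hv])).exists_le_sylow
  exact congrArg Subtype.val (Subgroup.commute_of_normal_of_disjoint (P : Subgroup Y)
    (Q : Subgroup Y) inferInstance inferInstance (IsPGroup.disjoint_of_ne p q hne _ _ P.2 Q.2)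
    _ _ (hP (Subgroup.mem_zpowers _)) (hQ (Subgroup.mem_zpowers _))).eq

/-- A normal subgroup of index prime to `p` contains the `p`-elements of its normaliser. -/
theorem mem_of_relIndex {Y N : Subgroup G} {g : G} {p i : ℕ} (hp : p.Prime)
    (hNY : N ≤ Subgroup.normalizer (Y : Set G)) (hd : ¬ p ∣ Y.relIndex N)
    (hg : g ∈ N) (hgo : orderOf g = p ^ i) : g ∈ Y := by
  haveI : (Y.subgroupOf N).Normal := Subgroup.normal_subgroupOf_of_le_normalizer hNY
  have h1 : orderOf ((⟨g, hg⟩ : N) : N ⧸ Y.subgroupOf N) ∣ p ^ i := by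
    rw [← hgo, ← Subgroup.orderOf_mk g hg]
    exact orderOf_map_dvd (QuotientGroup.mk' _) _
  have h2 : orderOf ((⟨g, hg⟩ : N) : N ⧸ Y.subgroupOf N) ∣ Y.relIndex N := by
    rw [Subgroup.relIndex, Subgroup.index_eq_card]
    exact orderOf_dvd_natCard _
  have h3 := orderOf_eq_one_iff.1 (Nat.eq_one_of_dvd_coprimes
    (((Nat.Prime.coprime_iff_not_dvd hp).2 hd).pow_left i) h1 h2)
  exact Subgroup.mem_subgroupOf.1 ((QuotientGroup.eq_one_iff (⟨g, hg⟩ : N)).1 h3)

/-- Burnside: a Sylow subgroup of a simple group is not centralised by its normaliser. -/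
theorem exists_normalizer_not_centralizer [IsSimpleGroup G] (hG : ¬ IsMulCommutative G) {p : ℕ}
    [Fact p.Prime] (hp : p ∣ Nat.card G) (P : Sylow p G) :
    ∃ g ∈ Subgroup.normalizer ((P : Subgroup G) : Set G),
      g ∉ Subgroup.centralizer ((P : Subgroup G) : Set G) := by
  by_contra! h
  have hc := MonoidHom.ker_transferSylow_isComplement' P h
  rcases (MonoidHom.normal_ker (MonoidHom.transferSylow P h)).eq_bot_or_eq_top with hk | hk
  · rw [hk] at hc
    have htop : (P : Subgroup G) = ⊤ := Subgroup.isComplement'_bot_left.1 hc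
    refine hG ⟨⟨fun x y => ?_⟩⟩
    exact (Subgroup.mem_centralizer_iff.1 (h x (Subgroup.normalizer (G := G)
      ((P : Subgroup G) : Set G) |> fun _ => Subgroup.le_normalizer (htop ▸ Subgroup.mem_top x))) y
      (htop ▸ Subgroup.mem_top y)).symm
  · rw [hk] at hc
    exact P.ne_bot_of_dvd_card hp (Subgroup.isComplement'_top_left.1 hc)

/-- `b` is `e` times a non-trivial power of `l`. -/
structure Data (G : Type u) [Group G] (a b e l k : ℕ) : Prop where
  X : Ctx G a b e
  hl : l.Prime
  hk : b = e * l ^ k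
  hk0 : k ≠ 0

theorem exists_data [IsSimpleGroup G] {a b e : ℕ} (X : Ctx G a b e) :
    ∃ l k : ℕ, Data G a b e l k := by
  obtain ⟨d, hd⟩ := X.heb
  have he0 := e_pos X
  have hd0 : d ≠ 0 := by
    rintro rfl
    exact (Split.pos X.S).2.ne' (by rw [hd, mul_zero])
  obtain ⟨l, hl, hlt⟩ := exists_prime_lt (Split.pos X.S).2.ne' X.heb X.hne
  have hfac : ∀ r : ℕ, b.factorization r = e.factorization r + d.factorization r := fun r => by
    rw [hd, Nat.factorization_mul he0.ne' hd0, Finsupp.add_apply]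
  have hu : ∀ {r : ℕ}, r.Prime → r ∣ d → r = l := fun {r} hr hrd =>
    Primes.eq_of_lt X hr hl (by
      have := hfac r
      have := (hr.dvd_iff_one_le_factorization hd0).1 hrd
      omega) hlt
  refine ⟨l, _, X, hl, by rw [hd, Nat.eq_prime_pow_of_unique_prime_dvd hd0 hu], fun h0 => ?_⟩
  have h1 := Nat.eq_prime_pow_of_unique_prime_dvd hd0 hu
  rw [h0, pow_zero] at h1
  rw [h1, mul_one] at hd
  exact X.hne hd.symm

variable {a b e l k : ℕ} (D : Data G a b e l k)
include D

theorem hlb : l ∣ b := by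
  rw [D.hk]; exact Dvd.dvd.mul_left (dvd_pow_self l D.hk0) e

theorem hel : e.factorization l < b.factorization l := by
  rw [D.hk, Nat.factorization_mul (e_pos D.X).ne' (pow_ne_zero _ D.hl.ne_zero), Finsupp.add_apply,
    D.hl.factorization_pow, Finsupp.single_eq_same]
  have := D.hk0
  omega

theorem fac_ne {r : ℕ} (hrl : r ≠ l) : e.factorization r = b.factorization r := by
  rw [D.hk, Nat.factorization_mul (e_pos D.X).ne' (pow_ne_zero _ D.hl.ne_zero), Finsupp.add_apply,
    D.hl.factorization_pow, Finsupp.single_eq_of_ne hrl, add_zero]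

/-- Class sizes in the centraliser of an element of value `b` of elements coprime to its order. -/
theorem class_size {c : G} {r : ℕ} (hr : r.Prime) (hrb : r ∣ b) (hco : orderOf c = r) (hcb : cn c = b)
    {x : Subgroup.centralizer ({c} : Set G)} (hx : (orderOf x).Coprime r) :
    ∃ i : ℕ, (ConjClasses.mk x).carrier.ncard = l ^ i := by
  rw [← Nat.card_coe_set_eq, Induced.Integral.nat_card_carrier]
  by_cases hx1 : (x : G) = 1
  · refine ⟨0, ?_⟩
    rw [pow_zero, Subgroup.index_eq_one, eq_top_iff]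
    exact fun g _ => mem_cen.2 (Subtype.ext (show (x : G) * g = g * x by rw [hx1, one_mul, mul_one]))
  rw [← Subgroup.orderOf_coe] at hx
  obtain ⟨hI, -, hv⟩ := inter D.X hr hrb hco hx1 hx (mem_cen.1 x.2).symm
  have hcard : Nat.card (Subgroup.centralizer ({x} : Set (Subgroup.centralizer ({c} : Set G)))) = cn ((x : G) * c) := by
    rw [Primes.card_centralizer_subtype, cn, hI]
  have h1 := (Subgroup.centralizer ({x} : Set (Subgroup.centralizer ({c} : Set G)))).card_mul_index
  rw [hcard, show Nat.card (Subgroup.centralizer ({c} : Set G)) = b from hcb] at h1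
  rcases hv with h | h <;> rw [h] at h1
  · refine ⟨0, ?_⟩
    rw [pow_zero]
    exact Nat.eq_of_mul_eq_mul_left (Split.pos D.X.S).2 (h1.trans (mul_one b).symm)
  · exact ⟨k, Nat.eq_of_mul_eq_mul_left (e_pos D.X) (h1.trans D.hk)⟩

/-- An abelian subgroup whose order is the part of `b` prime to `l`. -/
theorem exists_abelian [IsSimpleGroup G] :
    ∃ H : Subgroup G, IsMulCommutative H ∧ ¬ l ∣ Nat.card H ∧
      ∀ r : ℕ, r.Prime → r ≠ l → (Nat.card H).factorization r = b.factorization r := by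
  haveI := Fact.mk D.hl
  obtain ⟨L, z, hzL, hzo, hLz, -⟩ :=
    exists_full_central D.hl ((hlb D).trans (Dvd.intro_left a D.X.S.card.symm))
  have hzb := central_value D.X (hlb D) (hel D) (ne_one_of_prime D.hl hzo) hzL hLz
  set C := Subgroup.centralizer ({z} : Set G)
  obtain ⟨H, hH, hlH, i, hi⟩ := (Cfsg.Agent.S4034.result (G := C) D.hl).1
    fun x hx => class_size D D.hl (hlb D) hzo hzb hx
  haveI := hH
  refine ⟨H.map C.subtype, inferInstance, by rwa [Subgroup.card_map_of_injective C.subtype_injective],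
    fun r hr hrl => ?_⟩
  rw [Subgroup.card_map_of_injective C.subtype_injective]
  have h := H.card_mul_index
  rw [hi, show Nat.card C = b from hzb] at h
  rw [← h, Nat.factorization_mul Nat.card_pos.ne' (pow_ne_zero _ D.hl.ne_zero), Finsupp.add_apply,
    D.hl.factorization_pow, Finsupp.single_eq_of_ne hrl, add_zero]

/-- The Sylow subgroups of the other primes are abelian. -/
theorem sylow_comm [IsSimpleGroup G] {r : ℕ} [hr : Fact r.Prime] (hrb : r ∣ b) (hrl : r ≠ l) (R : Sylow r G) :
    IsMulCommutative (R : Subgroup G) := by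
  obtain ⟨H, hH, -, hfac⟩ := exists_abelian D
  haveI := hH
  obtain ⟨R0, -, hR0, -, hc⟩ := exists_full (p := r) (H := H) IsPGroup.of_bot bot_le
  rw [hfac r hr.out hrl, ← fac_eq D.X hr.out hrb] at hc
  obtain ⟨g, hg⟩ := MulAction.exists_smul_eq G (Sylow.ofCard R0 hc) R
  refine ⟨⟨fun x y => Subtype.ext ?_⟩⟩
  have hx := x.2
  have hy := y.2
  simp only [← hg] at hx hy
  obtain ⟨x', hx', hxe⟩ := hx
  obtain ⟨y', hy', hye⟩ := hy
  show (x : G) * y = y * x
  change g * x' * g⁻¹ = x at hxe
  change g * y' * g⁻¹ = y at hye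
  have e : x' * y' = y' * x' := congrArg Subtype.val (hH.is_comm.comm ⟨x', hR0 hx'⟩ ⟨y', hR0 hy'⟩)
  rw [← hxe, ← hye]
  calc g * x' * g⁻¹ * (g * y' * g⁻¹) = g * (x' * y') * g⁻¹ := by group
    _ = g * (y' * x') * g⁻¹ := by rw [e]
    _ = _ := by group

/-- Two elements of a subgroup with abelian Sylow `r`-subgroups that are normal commute. -/
theorem commute_in_nilpotent [IsSimpleGroup G] {Y : Subgroup G} [Group.IsNilpotent Y] {r i j : ℕ} (hr : r.Prime)
    (hrb : r ∣ b) (hrl : r ≠ l) {u v : G} (hu : orderOf u = r ^ i) (hv : orderOf v = r ^ j)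
    (huY : u ∈ Y) (hvY : v ∈ Y) : Commute u v := by
  haveI := Fact.mk hr
  obtain ⟨P, hP⟩ := (RankFour54.isPGroup_zpowers (p := r) (k := i) (x := (⟨u, huY⟩ : Y))
    (by rw [Subgroup.orderOf_mk, hu])).exists_le_sylow
  obtain ⟨Q, hQ⟩ := (RankFour54.isPGroup_zpowers (p := r) (k := j) (x := (⟨v, hvY⟩ : Y))
    (by rw [Subgroup.orderOf_mk, hv])).exists_le_sylow
  haveI : (P : Subgroup Y).Normal := inferInstance
  haveI := Sylow.unique_of_normal P inferInstance
  rw [Subsingleton.elim Q P] at hQ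
  obtain ⟨R, hR⟩ := (P.2.map Y.subtype).exists_le_sylow
  exact congrArg Subtype.val ((sylow_comm D hrb hrl R).is_comm.comm
    ⟨u, hR ⟨_, hP (Subgroup.mem_zpowers _), rfl⟩⟩ ⟨v, hR ⟨_, hQ (Subgroup.mem_zpowers _), rfl⟩⟩)

set_option maxHeartbeats 400000 in
/-- A second prime of full value gives a nilpotent subgroup of order `b`. -/
theorem of_big [IsSimpleGroup G] (hG : ¬ IsMulCommutative G) {r : ℕ} (hr : r.Prime) (hrb : r ∣ b)
    (hrl : r ≠ l) {s : G} (hso : orderOf s = r) (hsb : cn s = b) :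
    ∃ K : Subgroup G, Group.IsNilpotent K ∧ Nat.card K = b ∧
      (∀ x ∈ K, x ≠ 1 → Subgroup.centralizer ({x} : Set G) ≤ K) ∧
      K < Subgroup.normalizer (K : Set G) := by
  classical
  haveI := Fact.mk hr
  haveI := Fact.mk D.hl
  have X := D.X
  set K := Subgroup.centralizer ({s} : Set G) with hK
  have hKcard : Nat.card K = b := hsb
  have hidx : K.index = a := Split.index_eq X.S.symm hsb
  obtain ⟨P⟩ : Nonempty (Sylow r K) := inferInstance
  obtain ⟨hPn, H0, hH0n, hH0r, hdis, hsup⟩ := Cfsg.Agent.S4035.result (G := K) (p := r)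
    (fun x hx h => by
      obtain ⟨i, hi⟩ := class_size D hr hrb hso hsb hx
      exact hrl ((Nat.prime_dvd_prime_iff_eq hr D.hl).1 (hr.dvd_of_dvd_pow (hi ▸ h)))) P
  haveI := hPn
  haveI := hH0n
  have hPcard : Nat.card ((P : Subgroup K).map K.subtype) = r ^ (Nat.card G).factorization r := by
    rw [Subgroup.card_map_of_injective K.subtype_injective, P.card_eq_multiplicity, hKcard,
      fac_eq X hr hrb]
  set R : Sylow r G := Sylow.ofCard ((P : Subgroup K).map K.subtype) hPcard
  have hRc := sylow_comm D hrb hrl R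
  have hsP : (⟨s, mem_self s⟩ : K) ∈ (P : Subgroup K) := mem_of_full P.2 (H := (⊤ : Subgroup K))
    le_top (by rw [Subgroup.card_top]; exact P.card_eq_multiplicity) (Subgroup.mem_top _) (k := 1)
    (by rw [Subgroup.orderOf_mk, hso, pow_one]) (by
      rw [Subgroup.normalizer_eq_top_iff.2 hPn]; exact Subgroup.mem_top _)
  have hCR : Subgroup.centralizer ((R : Subgroup G) : Set G) = K := by
    refine le_antisymm (fun g hg => mem_cen.2 (Subgroup.mem_centralizer_iff.1 hg s (show s ∈ (R : Subgroup G) from ⟨⟨s, mem_self s⟩, hsP, rfl⟩)))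
      fun g hg => Subgroup.mem_centralizer_iff.2 ?_
    rintro _ ⟨y, hy, rfl⟩
    have hgmem : (⟨g, hg⟩ : K) ∈ (P : Subgroup K) ⊔ H0 := hsup ▸ Subgroup.mem_top _
    obtain ⟨p', hp', h', hh', he⟩ := Subgroup.mem_sup_of_normal_left.1 hgmem
    rw [show g = ((p' * h' : K) : G) by rw [he]]
    have hyR : (y : G) ∈ (R : Subgroup G) := ⟨y, hy, rfl⟩
    have hpR : (p' : G) ∈ (R : Subgroup G) := ⟨p', hp', rfl⟩
    have c1 : Commute y p' := Subtype.ext
      (congrArg Subtype.val (hRc.is_comm.comm ⟨(y : G), hyR⟩ ⟨(p' : G), hpR⟩) :)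
    exact congrArg Subtype.val (c1.mul_right
      (Subgroup.commute_of_normal_of_disjoint _ _ hPn hH0n (disjoint_iff.2 hdis) y h' hy hh')).eq
  have hNK : Subgroup.normalizer ((R : Subgroup G) : Set G) ≤ Subgroup.normalizer (K : Set G) := by
    intro g hg
    have key : ∀ g ∈ Subgroup.normalizer ((R : Subgroup G) : Set G), ∀ y ∈ K, g * y * g⁻¹ ∈ K := by
      intro g hg y hy
      rw [← hCR] at hy ⊢
      refine Subgroup.mem_centralizer_iff.2 fun w hw => ?_
      have := Subgroup.mem_centralizer_iff.1 hy _ ((Subgroup.mem_normalizer_iff''.1 hg w).1 hw)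
      calc w * (g * y * g⁻¹) = g * (g⁻¹ * w * g * y) * g⁻¹ := by group
        _ = g * (y * (g⁻¹ * w * g)) * g⁻¹ := by rw [this]
        _ = g * y * g⁻¹ * w := by group
    rw [Subgroup.mem_normalizer_iff]
    exact fun y => ⟨key g hg y, fun hy => by simpa [mul_assoc] using key g⁻¹ (inv_mem hg) _ hy⟩
  have hout : ∀ {g : G} {q i : ℕ}, q.Prime → q ∣ b → orderOf g = q ^ i →
      g ∈ Subgroup.normalizer (K : Set G) → g ∈ K := fun {g q i} hq hqb hgo hgN =>
    mem_of_relIndex hq le_rfl (fun hd => not_both X hq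
      (hd.trans (hidx ▸ Subgroup.relIndex_dvd_index_of_le Subgroup.le_normalizer)) hqb) hgN hgo
  -- an element of the other side normalising `K`
  obtain ⟨g, hg, hgn⟩ := exists_normalizer_not_centralizer hG
    (hrb.trans (Dvd.intro_left a X.S.card.symm)) R
  rw [hCR] at hgn
  obtain ⟨w, q, hq, hqa, hwo, hwN, hwK⟩ : ∃ (w : G) (q : ℕ), q.Prime ∧ q ∣ a ∧ orderOf w = q ∧
      w ∈ Subgroup.normalizer (K : Set G) ∧ w ∉ K := by
    obtain ⟨t, q, i, hq, hi, hn⟩ : ∃ t q i : ℕ, q.Prime ∧ orderOf (g ^ t) = q ^ i ∧ g ^ t ∉ K := by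
      by_contra! hall
      exact hgn (RankFour54.mem_of_parts K hall)
    have hqa : q ∣ a := by
      refine (side X hq ?_).resolve_right fun hqb =>
        hn (hout hq hqb hi (Subgroup.pow_mem _ (hNK hg) t))
      rcases i with _ | i
      · rw [pow_zero, orderOf_eq_one_iff] at hi
        exact absurd (hi ▸ K.one_mem) hn
      · exact (dvd_pow_self q i.succ_ne_zero).trans (hi ▸ orderOf_dvd_natCard _)
    have hne : g ^ t ≠ 1 := fun h => hn (h ▸ K.one_mem)
    obtain ⟨q', j, hq', hj, -⟩ := exists_prime_pow hne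
    have e1 : q' = q := (Nat.prime_dvd_prime_iff_eq hq' hq).1
      (hq'.dvd_of_dvd_pow (hi ▸ hj ▸ orderOf_pow_dvd j))
    subst e1
    refine ⟨(g ^ t) ^ j, q', hq, hqa, hj,
      Subgroup.pow_mem _ (Subgroup.pow_mem _ (hNK hg) t) j, fun hw => ?_⟩
    exact not_both X hq hqa (hKcard ▸ hj ▸ Subgroup.orderOf_dvd_natCard _ hw |>.trans dvd_rfl)
  haveI hnil : Group.IsNilpotent K := isNilpotent_of_fpf hq hwo hwN fun y hy hwy => by
    by_contra hy1
    obtain ⟨q', i, hq', hq'b, hi, -⟩ := exists_prime_pow_b X hy1 hy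
      (hKcard ▸ X.S.cop.symm)
    exact Split.no_commute X.S hq hq' hwo hi hqa hq'b ((show Commute w y from hwy).pow_right i)
  refine ⟨K, hnil, hKcard, ?_, lt_of_le_of_ne Subgroup.le_normalizer fun h => hwK (h ▸ hwN)⟩
  -- primary elements of other primes are central
  have hcentral : ∀ {u : G} {q i : ℕ}, q.Prime → q ≠ l → orderOf u = q ^ i → u ∈ K →
      K ≤ Subgroup.centralizer ({u} : Set G) := by
    intro u q i hq hql hu huK y hy
    refine RankFour54.mem_of_parts _ fun t q' j hq' hj => ?_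
    by_cases hqq : q = q'
    · subst hqq
      by_cases hqb : q ∣ b
      · exact mem_cen.2 (commute_in_nilpotent D hq hqb hql hu hj huK (K.pow_mem hy t)).eq
      · have hu1 : u = 1 := by
          refine orderOf_eq_one_iff.1 ?_
          rcases i with _ | i
          · rwa [pow_zero] at hu
          · exact absurd ((dvd_pow_self q i.succ_ne_zero).trans
              (hu ▸ hKcard ▸ Subgroup.orderOf_dvd_natCard _ huK)) hqb
        exact mem_cen.2 (by simp [hu1])
    · exact mem_cen.2 (commute_of_nilpotent hq hq' hqq hu hj huK (K.pow_mem hy t)).eq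
  have hfull : ∀ {u : G} {q : ℕ}, q.Prime → q ≠ l → orderOf u = q → u ∈ K →
      Subgroup.centralizer ({u} : Set G) = K := by
    intro u q hq hql hu huK
    refine (Subgroup.eq_of_le_of_card_ge
      (hcentral hq hql (i := 1) (by rw [hu, pow_one]) huK) ?_).symm
    rw [hKcard]
    exact Nat.le_of_dvd (Split.pos X.S).2 (value_dvd X (ne_one_of_prime hq hu) hq
      (hu ▸ orderOf_dvd_cn u) (hKcard ▸ hu ▸ Subgroup.orderOf_dvd_natCard _ huK))
  intro x hx hx1
  obtain ⟨q, i, hq, hi, hi1⟩ := exists_prime_pow hx1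
  refine (cen_le_pow x i).trans ?_
  set x1 := x ^ i with hx1'
  have hx1K : x1 ∈ K := K.pow_mem hx i
  by_cases hql : q ≠ l
  · exact (hfull hq hql hi hx1K).le
  push Not at hql
  subst hql
  have hqb : q ∣ b := hlb D
  obtain ⟨hI, -, hv⟩ := inter X hr hrb hso hi1
    (by rw [hi]; exact (Nat.coprime_primes D.hl hr).2 hrl.symm) (mem_cen.1 hx1K).symm
  rw [← hK] at hI
  rcases hv with hv | hv
  · rw [← Subgroup.eq_of_le_of_card_ge
      (inf_le_left : Subgroup.centralizer ({x1} : Set G) ⊓ K ≤ Subgroup.centralizer ({x1} : Set G))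
      (by
        rw [← hI, show Nat.card (Subgroup.centralizer ({x1 * s} : Set G)) = b from hv]
        exact Nat.le_of_dvd (Split.pos X.S).2 (value_dvd X hi1 hq (hi ▸ orderOf_dvd_cn x1) hqb))]
    exact inf_le_right
  rcases value_order X hq hi hqb with hxb | hxe
  swap
  · rw [← eq_of_le_cn (hI.le.trans inf_le_left) (hv.trans hxe.symm), hI]
    exact inf_le_right
  exfalso
  obtain ⟨L0, hL0⟩ := (RankFour54.isPGroup_zpowers (p := q) (k := 1) (x := (⟨x1, hx1K⟩ : K))
    (by rw [Subgroup.orderOf_mk, hi, pow_one])).exists_le_sylow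
  set L := (L0 : Subgroup K).map K.subtype with hL
  have hLcard : Nat.card L = q ^ b.factorization q := by
    rw [hL, Subgroup.card_map_of_injective K.subtype_injective, L0.card_eq_multiplicity, hKcard]
  have hLp : IsPGroup q L := L0.2.map _
  set P1 := L ⊓ Subgroup.centralizer ({x1} : Set G)
  obtain ⟨L2, hP1L2, hL2x, hL2p, hL2card⟩ :=
    exists_full (p := q) (hLp.to_le (inf_le_left : P1 ≤ L)) inf_le_right
  rw [show Nat.card (Subgroup.centralizer ({x1} : Set G)) = b from hxb] at hL2card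
  obtain ⟨u, huL, huo, hLu⟩ := exists_central_invariant hLp fun h => by
    have hb := one_lt_pow₀ D.hl.one_lt (n := b.factorization q) (by have := hel D; omega)
    rw [h, Subgroup.card_bot] at hLcard
    omega
  have huK : u ∈ K := Subgroup.map_subtype_le _ huL
  have hCu : Subgroup.centralizer ({u} : Set G) = K := by
    have hle : K ≤ Subgroup.centralizer ({u} : Set G) := fun y hy =>
      (RankFour54.mem_of_parts _ fun t q' j hq' hj => (by
        by_cases hqq : q' = q
        · subst hqq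
          refine hLu ⟨⟨y ^ t, K.pow_mem hy t⟩, ?_, rfl⟩
          obtain ⟨L', hL'⟩ := (RankFour54.isPGroup_zpowers (p := q') (k := j)
            (x := (⟨y ^ t, K.pow_mem hy t⟩ : K)) (by rw [Subgroup.orderOf_mk, hj])).exists_le_sylow
          haveI : Subsingleton (Sylow q' K) := Subsingleton.intro fun A B => by haveI := Sylow.unique_of_normal L0 inferInstance; exact Subsingleton.elim A B
          rw [Subsingleton.elim L' L0] at hL'
          exact hL' (Subgroup.mem_zpowers _)
        · exact mem_cen.2 (commute_of_nilpotent hq hq' (Ne.symm hqq) (i := 1)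
            (by rw [huo, pow_one]) hj huK (K.pow_mem hy t)).eq))
    refine (Subgroup.eq_of_le_of_card_ge hle ?_).symm
    rw [hKcard]
    exact Nat.le_of_dvd (Split.pos X.S).2
      (value_dvd X (ne_one_of_prime hq huo) hq (huo ▸ orderOf_dvd_cn u) hqb)
  have huP1 : u ∈ P1 := ⟨huL, mem_cen_comm.1 (hLu ⟨_, hL0 (Subgroup.mem_zpowers _), rfl⟩)⟩
  have hlt : P1 < L2 := lt_of_le_of_ne hP1L2 fun heq => by
    have hle : L2 ≤ Subgroup.centralizer ({x1} : Set G) ⊓ K := fun y hy =>
      ⟨hL2x hy, Subgroup.map_subtype_le _ (heq.symm ▸ hy : y ∈ P1).1⟩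
    have h := Subgroup.card_dvd_of_le hle
    rw [← hI, hL2card, show Nat.card (Subgroup.centralizer ({x1 * s} : Set G)) = e from hv] at h
    have := fac_le_of_pow_dvd hq (e_pos X).ne' h
    have := hel D
    omega
  haveI : Group.IsNilpotent L2 := hL2p.isNilpotent
  have hnorm := Group.normalizerCondition_of_isNilpotent (G := L2) (P1.subgroupOf L2)
    (lt_top_iff_ne_top.2 fun h => hlt.not_ge (Subgroup.subgroupOf_eq_top.1 h))
  obtain ⟨n, hn, hnP⟩ := SetLike.exists_of_lt hnorm
  have hsc : s ∈ Subgroup.centralizer (P1 : Set G) := Subgroup.mem_centralizer_iff.2 fun y hy =>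
    (mem_cen.1 (Subgroup.map_subtype_le _ hy.1)).symm
  have hns : (n : G) * s * (n : G)⁻¹ ∈ K := by
    rw [← hCu]
    refine mem_cen.2 ?_
    have h1 : (n : G)⁻¹ * u * (n : G) ∈ P1 := by
      have := (Subgroup.mem_normalizer_iff''.1 hn ⟨u, hP1L2 huP1⟩).1
        (Subgroup.mem_subgroupOf.2 huP1)
      exact Subgroup.mem_subgroupOf.1 this
    have h2 := Subgroup.mem_centralizer_iff.1 hsc _ h1
    calc u * ((n : G) * s * (n : G)⁻¹) = n * ((n : G)⁻¹ * u * n * s) * (n : G)⁻¹ := by group
      _ = n * (s * ((n : G)⁻¹ * u * n)) * (n : G)⁻¹ := by rw [h2]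
      _ = _ := by group
  have hCn := hfull hr hrl (by rw [RankFour54.orderOf_conj, hso]) hns
  have hnN : (n : G) ∈ Subgroup.normalizer (K : Set G) := by
    rw [Subgroup.mem_normalizer_iff]
    intro y
    conv_rhs => rw [← hCn, mem_cen_conj]
    simp [mul_assoc, hK]
  obtain ⟨j, hj⟩ := exists_orderOf_eq hL2p n.2
  have hnK := hout hq hqb hj hnN
  have hnL : (n : G) ∈ L := by
    haveI : (L0 : Subgroup K).Normal := inferInstance
    refine mem_of_full hLp (Subgroup.map_subtype_le _) (by rw [hLcard, hKcard]) hnK hj ?_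
    exact Subgroup.le_normalizer_map K.subtype
      ⟨⟨n, hnK⟩, (Subgroup.normalizer_eq_top_iff.2 (inferInstance : (L0 : Subgroup K).Normal)) ▸ Subgroup.mem_top _, rfl⟩
  exact hnP (Subgroup.mem_subgroupOf.2 ⟨hnL, hL2x n.2⟩)

end Cfsg.Agent.Lib.RankFive54.Side
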