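import Mathlib
import Cfsg.Agent.Lib.RankFive54.Side

/-!
# All other primes of small value

When all elements of prime order different from `l` on the odd side have value `e`, their
centralisers are abelian, and the normaliser of such a centraliser is an `l`-group modulo it.
-/

set_option autoImplicit false
set_option linter.style.haveILetI false
set_option linter.unusedSectionVars false

namespace Cfsg.Agent.Lib.RankFive54.Small

open Cfsg.Agent.Lib.ClassSizes.Basic
open Cfsg.Agent.Lib.Inv59.RankThree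
open Cfsg.Agent.Lib.RankFour54
open Cfsg.Agent.Lib.RankFive54.Odd
open Cfsg.Agent.Lib.RankFive54.Side

universe u

/-- A group of automorphisms without fixed points normalised by another has order annihilating
the abelian group. -/
theorem pow_card_eq_one {A : Type u} [CommGroup A] (K : Subgroup (MulAut A)) [Fintype K]
    (y : MulAut A) {q : ℕ} (hq : q.Prime) (hyq : y ^ q = 1)
    (hn : y ∈ Subgroup.normalizer (K : Set (MulAut A)))
    (hc : ∀ s ∈ K, y * s = s * y → s = 1)
    (hK : ∀ v : A, (∀ s ∈ K, s v = v) → v = 1) (hy : ∀ v : A, y v = v → v = 1) (v : A) :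
    v ^ Fintype.card K = 1 := by
  classical
  have hy0 : y ^ 0 = 1 := pow_zero y
  have h1 : ∀ u : A, ∏ t ∈ Finset.range q, (y ^ t) u = 1 := by
    intro u
    refine hy _ ?_
    rw [map_prod]
    have e : ∀ t, y ((y ^ t) u) = (y ^ (t + 1)) u := fun t => by rw [pow_succ', MulAut.mul_apply]
    simp only [e]
    obtain ⟨q', rfl⟩ := Nat.exists_eq_add_one.2 hq.pos
    rw [Finset.prod_range_succ' (fun t => (y ^ t) u), Finset.prod_range_succ (fun t => (y ^ (t + 1)) u),
      hyq, hy0]
  have hpow : ∀ t : ℕ, y ^ t ∈ Subgroup.normalizer (K : Set (MulAut A)) := fun t =>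
    Subgroup.pow_mem _ hn t
  have h2 : ∀ t, t ∈ Finset.range q → t ≠ 0 →
      ∏ s : K, ((s : MulAut A) * y ^ t * (s : MulAut A)⁻¹) v = 1 := by
    intro t ht ht0
    rw [Finset.mem_range] at ht
    let φ : K → K := fun s => ⟨(s : MulAut A) * (y ^ t * (s : MulAut A)⁻¹ * (y ^ t)⁻¹),
      K.mul_mem s.2 ((Subgroup.mem_normalizer_iff.1 (hpow t) _).1 (K.inv_mem s.2))⟩
    have hφ : Function.Bijective φ := by
      refine Finite.injective_iff_bijective.1 fun s s' he => ?_
      have he' : (s : MulAut A) * (y ^ t * (s : MulAut A)⁻¹ * (y ^ t)⁻¹) =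
          (s' : MulAut A) * (y ^ t * (s' : MulAut A)⁻¹ * (y ^ t)⁻¹) := congrArg Subtype.val he
      have hcomm : Commute (y ^ t) ((s' : MulAut A)⁻¹ * s) := by
        have h : (s : MulAut A) * y ^ t * (s : MulAut A)⁻¹ = (s' : MulAut A) * y ^ t * (s' : MulAut A)⁻¹ := by
          simpa [mul_assoc] using congrArg (fun g => g * y ^ t) he'
        show y ^ t * ((s' : MulAut A)⁻¹ * s) = (s' : MulAut A)⁻¹ * s * y ^ t
        calc y ^ t * ((s' : MulAut A)⁻¹ * s)
            = (s' : MulAut A)⁻¹ * ((s' : MulAut A) * y ^ t * (s' : MulAut A)⁻¹) * s := by group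
          _ = (s' : MulAut A)⁻¹ * ((s : MulAut A) * y ^ t * (s : MulAut A)⁻¹) * s := by rw [h]
          _ = _ := by group
      have hcop : q.Coprime t := hq.coprime_iff_not_dvd.2 fun hd =>
        absurd (Nat.le_of_dvd (Nat.pos_of_ne_zero ht0) hd) (not_le.2 ht)
      obtain ⟨i, hi⟩ := exists_pow_eq_self_of_coprime (x := y) (n := t)
        ((Nat.Coprime.coprime_dvd_left (orderOf_dvd_of_pow_eq_one hyq) hcop).symm)
      have h3 := hc ((s' : MulAut A)⁻¹ * s) (K.mul_mem (K.inv_mem s'.2) s.2)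
        (by rw [← hi]; exact (hcomm.pow_left i).eq)
      exact Subtype.ext (inv_mul_eq_one.1 h3).symm
    have e : ∀ s : K, ((s : MulAut A) * y ^ t * (s : MulAut A)⁻¹) v =
        (φ s : MulAut A) ((y ^ t) v) := fun s => by
      simp [φ, MulAut.mul_apply]
    simp only [e]
    rw [hφ.prod_comp (fun s : K => (s : MulAut A) ((y ^ t) v))]
    refine hK _ fun s hs => ?_
    rw [map_prod]
    exact Fintype.prod_equiv (Equiv.mulLeft ⟨s, hs⟩) _ _ fun x => by simp [MulAut.mul_apply]
  have htot : ∏ t ∈ Finset.range q, ∏ s : K, ((s : MulAut A) * y ^ t * (s : MulAut A)⁻¹) v = 1 := by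
    rw [Finset.prod_comm]
    refine Finset.prod_eq_one fun s _ => ?_
    simp only [MulAut.mul_apply, ← map_prod, h1, map_one]
  rw [← Finset.mul_prod_erase _ _ (Finset.mem_range.2 hq.pos),
    Finset.prod_eq_one (fun t ht => h2 t (Finset.mem_of_mem_erase ht) (Finset.ne_of_mem_erase ht)),
    mul_one] at htot
  simpa [hy0, Finset.prod_const] using htot

variable {G : Type u} [Group G] [Finite G] {a b e l k : ℕ}

/-- Data with all other primes of small value. -/
structure All (G : Type u) [Group G] (a b e l k : ℕ) : Prop where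
  D : Data G a b e l k
  small : ∀ r : ℕ, r.Prime → r ≠ l → r ∣ b → ∀ s : G, orderOf s = r → cn s = e

variable (Q : All G a b e l k) {h : G} {r : ℕ}
include Q

theorem r_full (hr : r.Prime) (hrl : r ≠ l) (hrb : r ∣ b) {C : Subgroup G}
    (hC : Nat.card C = e) : ¬ r ∣ C.index := by
  intro hd
  have h1 := C.card_mul_index
  rw [hC, Q.D.X.S.card, Q.D.hk] at h1
  have he := e_pos Q.D.X
  have h2 : C.index = a * l ^ k := by
    refine Nat.eq_of_mul_eq_mul_left he ?_
    rw [h1]; ring
  rw [h2] at hd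
  rcases hr.dvd_mul.1 hd with h3 | h3
  · exact not_both Q.D.X hr h3 hrb
  · exact hrl ((Nat.prime_dvd_prime_iff_eq hr Q.D.hl).1 (hr.dvd_of_dvd_pow h3))

theorem dvd_e_side {q : ℕ} (hq : q.Prime) (hqe : q ∣ e) : q ∣ b := hqe.trans Q.D.X.heb

/-- The centraliser of an element of small value is abelian, contains an element of order `l` of
value `b`, and is the centraliser of each of its elements of prime order different from `l`. -/
theorem structureM [IsSimpleGroup G] (hr : r.Prime) (hrl : r ≠ l) (hrb : r ∣ b) (hho : orderOf h = r) :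
    Nat.card (Subgroup.centralizer ({h} : Set G)) = e ∧
    IsMulCommutative (Subgroup.centralizer ({h} : Set G)) ∧
    (∀ (y : G) (q : ℕ), q.Prime → q ≠ l → orderOf y = q → y ∈ Subgroup.centralizer ({h} : Set G) →
      Subgroup.centralizer ({y} : Set G) = Subgroup.centralizer ({h} : Set G)) ∧
    ∃ z : G, orderOf z = l ∧ cn z = b ∧ z ∈ Subgroup.centralizer ({h} : Set G) := by
  classical
  have X := Q.D.X
  haveI := Fact.mk Q.D.hl
  haveI := Fact.mk hr
  have hcard : ∀ {y : G} {q : ℕ}, q.Prime → q ≠ l → q ∣ b → orderOf y = q →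
      Nat.card (Subgroup.centralizer ({y} : Set G)) = e := fun hq hql hqb hy => Q.small _ hq hql hqb _ hy
  obtain ⟨L, z, hzL, hzo, hLz, -⟩ :=
    exists_full_central Q.D.hl ((hlb Q.D).trans (Dvd.intro_left a X.S.card.symm))
  have hzb := central_value X (hlb Q.D) (hel Q.D) (ne_one_of_prime Q.D.hl hzo) hzL hLz
  -- an abelian subgroup in the centraliser of `z`
  set C := Subgroup.centralizer ({z} : Set G)
  obtain ⟨H', hH', hlH', i, hi⟩ := (Cfsg.Agent.S4034.result (G := C) Q.D.hl).1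
    fun x hx => class_size Q.D Q.D.hl (hlb Q.D) hzo hzb hx
  haveI := hH'
  set H := H'.map C.subtype with hHdef
  have hfac : ∀ q : ℕ, q.Prime → q ≠ l → (Nat.card H).factorization q = b.factorization q := by
    intro q hq hql
    rw [hHdef, Subgroup.card_map_of_injective C.subtype_injective]
    have h' := H'.card_mul_index
    rw [hi, show Nat.card C = b from hzb] at h'
    rw [← h', Nat.factorization_mul Nat.card_pos.ne' (pow_ne_zero _ Q.D.hl.ne_zero), Finsupp.add_apply,
      Q.D.hl.factorization_pow, Finsupp.single_eq_of_ne hql, add_zero]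
  have hHC : H ≤ C := Subgroup.map_subtype_le _
  have hHc : ∀ x ∈ H, ∀ y ∈ H, Commute x y := by
    rintro _ ⟨x, hx, rfl⟩ _ ⟨y, hy, rfl⟩
    exact congrArg (fun t : H' => ((t : C) : G)) (hH'.is_comm.comm ⟨x, hx⟩ ⟨y, hy⟩)
  have hidx : ¬ r ∣ H.index := by
    intro hd
    have h1 := congrArg (fun n => n.factorization r) H.card_mul_index
    simp only [Nat.factorization_mul Nat.card_pos.ne' Subgroup.index_ne_zero_of_finite,
      Finsupp.add_apply, hfac r hr hrl, fac_eq X hr hrb] at h1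
    have := (hr.dvd_iff_one_le_factorization Subgroup.index_ne_zero_of_finite).1 hd
    omega
  obtain ⟨g, hg⟩ := exists_conj_mem hr hidx hho
  set h' := g * h * g⁻¹
  have hh'o : orderOf h' = r := by rw [RankFour54.orderOf_conj, hho]
  set M := Subgroup.centralizer ({h'} : Set G)
  have hMcard : Nat.card M = e := hcard hr hrl hrb hh'o
  have hHM : H ≤ M := fun y hy => mem_cen.2 (hHc h' hg y hy).eq
  have hzM : z ∈ M := mem_cen_comm.1 (hHC hg)
  -- its elements of `l`-power order are central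
  have hlcent : ∀ v ∈ M, (∃ j, orderOf v = l ^ j) → M ≤ Subgroup.centralizer ({v} : Set G) := by
    rintro v hv ⟨j, hj⟩
    by_cases hv1 : v = 1
    · subst hv1
      exact fun y _ => mem_cen.2 (by simp)
    obtain ⟨hI, -, hval⟩ := inter X hr hrb hh'o hv1
      (by rw [hj]; exact Nat.Coprime.pow_left j ((Nat.coprime_primes Q.D.hl hr).2 hrl.symm))
      (mem_cen.1 hv).symm
    have hle : Subgroup.centralizer ({v * h'} : Set G) ≤ M := hI.le.trans inf_le_right
    have hd := Subgroup.card_dvd_of_le hle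
    rw [hMcard] at hd
    have hve : cn (v * h') = e := hval.resolve_left fun hb => X.hne (Nat.dvd_antisymm X.heb (by
      rw [← hb]; exact hd))
    rw [← Subgroup.eq_of_le_of_card_ge hle (by rw [hMcard]; exact le_of_eq hve.symm), hI]
    exact inf_le_left
  -- hence it is abelian
  haveI hMc : IsMulCommutative M := by
    set S : Subgroup M := Subgroup.center M ⊔ H.subgroupOf M with hS
    have hStop : S = ⊤ := by
      refine Subgroup.eq_top_of_card_eq _ (Nat.dvd_antisymm (Subgroup.card_subgroup_dvd_card _) ?_)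
      rw [← Nat.factorization_prime_le_iff_dvd Nat.card_pos.ne' Nat.card_pos.ne']
      intro q hq
      haveI := Fact.mk hq
      by_cases hql : q = l
      · subst hql
        obtain ⟨P⟩ : Nonempty (Sylow q M) := inferInstance
        have hP : (P : Subgroup M) ≤ S := by
          refine le_trans ?_ le_sup_left
          intro p hp
          rw [Local.mem_center_subtype]
          obtain ⟨j, hj⟩ := exists_orderOf_eq P.2 hp
          exact hlcent _ p.2 ⟨j, by rw [Subgroup.orderOf_coe, hj]⟩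
        exact fac_le_of_pow_dvd hq Nat.card_pos.ne' (P.card_eq_multiplicity ▸ Subgroup.card_dvd_of_le hP)
      · have h1 := Subgroup.card_dvd_of_le (le_sup_right : H.subgroupOf M ≤ S)
        rw [Nat.card_congr (Subgroup.subgroupOfEquivOfLe hHM).toEquiv] at h1
        rw [hMcard, fac_ne Q.D hql, ← hfac q hq hql]
        exact fac_mono Nat.card_pos.ne' h1
    refine ⟨⟨fun x y => ?_⟩⟩
    have hx : x ∈ S := hStop ▸ Subgroup.mem_top x
    have hy : y ∈ S := hStop ▸ Subgroup.mem_top y
    obtain ⟨x1, hx1, x2, hx2, rfl⟩ := Subgroup.mem_sup_of_normal_left.1 hx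
    obtain ⟨y1, hy1, y2, hy2, rfl⟩ := Subgroup.mem_sup_of_normal_left.1 hy
    have c1 : ∀ t : M, Commute x1 t := fun t => (Subgroup.mem_center_iff.1 hx1 t).symm
    have c2 : ∀ t : M, Commute y1 t := fun t => (Subgroup.mem_center_iff.1 hy1 t).symm
    have c3 : Commute x2 y2 := Subtype.ext (hHc _ hx2 _ hy2).eq
    exact (((c1 y1).mul_right (c1 y2)).mul_left (((c2 x2).symm).mul_right c3)).eq
  -- transport back
  have hconj : ∀ y : G, y ∈ Subgroup.centralizer ({h} : Set G) ↔ g * y * g⁻¹ ∈ M := fun y => by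
    rw [mem_cen_conj]; simp [mul_assoc]
  refine ⟨hcard hr hrl hrb hho, ⟨⟨fun x y => Subtype.ext ?_⟩⟩, fun y q hq hql hyo hy => ?_,
    g⁻¹ * z * g, ?_, ?_, (hconj _).2 (by simpa [mul_assoc] using hzM)⟩
  · have e1 : (g * (x : G) * g⁻¹) * (g * (y : G) * g⁻¹) = (g * (y : G) * g⁻¹) * (g * (x : G) * g⁻¹) :=
      congrArg Subtype.val (hMc.is_comm.comm ⟨_, (hconj x).1 x.2⟩ ⟨_, (hconj y).1 y.2⟩)
    have e2 := congrArg (fun s => g⁻¹ * s * g) e1
    simpa [mul_assoc] using e2
  · have hqe : q ∣ e := by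
      rw [← hcard hr hrl hrb hho, ← hyo]
      exact Subgroup.orderOf_dvd_natCard _ hy
    refine (Subgroup.eq_of_le_of_card_ge (fun t ht => mem_cen.2 ?_) ?_).symm
    · have e1 : (g * y * g⁻¹) * (g * t * g⁻¹) = (g * t * g⁻¹) * (g * y * g⁻¹) :=
        congrArg Subtype.val (hMc.is_comm.comm ⟨_, (hconj y).1 hy⟩ ⟨_, (hconj t).1 ht⟩)
      have e2 := congrArg (fun s => g⁻¹ * s * g) e1
      simpa [mul_assoc] using e2
    · rw [hcard hq hql (dvd_e_side Q hq hqe) hyo, hcard hr hrl hrb hho]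
  · have := RankFour54.orderOf_conj g⁻¹ z
    rw [inv_inv] at this
    rw [this, hzo]
  · have := cn_conj g⁻¹ z
    rw [inv_inv] at this
    rw [this, hzb]

section

variable [IsSimpleGroup G] (hr : r.Prime) (hrl : r ≠ l) (hrb : r ∣ b) (hho : orderOf h = r)
include hr hrl hrb hho

theorem cardM : Nat.card (Subgroup.centralizer ({h} : Set G)) = e :=
  (structureM Q hr hrl hrb hho).1

theorem commM {x y : G} (hx : x ∈ Subgroup.centralizer ({h} : Set G))
    (hy : y ∈ Subgroup.centralizer ({h} : Set G)) : Commute x y :=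
  congrArg Subtype.val ((structureM Q hr hrl hrb hho).2.1.is_comm.comm ⟨x, hx⟩ ⟨y, hy⟩)

theorem cen_eq {y : G} {q : ℕ} (hq : q.Prime) (hql : q ≠ l) (hyo : orderOf y = q)
    (hy : y ∈ Subgroup.centralizer ({h} : Set G)) :
    Subgroup.centralizer ({y} : Set G) = Subgroup.centralizer ({h} : Set G) :=
  (structureM Q hr hrl hrb hho).2.2.1 y q hq hql hyo hy

theorem dvd_e : l ∣ e := by
  obtain ⟨z, hzo, -, hz⟩ := (structureM Q hr hrl hrb hho).2.2.2
  rw [← hzo, ← cardM Q hr hrl hrb hho]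
  exact Subgroup.orderOf_dvd_natCard _ hz

/-- An element moving `h` into its centraliser normalises the centraliser. -/
theorem mem_normalizer {n : G} (hn : n * h * n⁻¹ ∈ Subgroup.centralizer ({h} : Set G)) :
    n ∈ Subgroup.normalizer ((Subgroup.centralizer ({h} : Set G)) : Set G) := by
  have e1 := cen_eq Q hr hrl hrb hho hr hrl (by rw [RankFour54.orderOf_conj, hho]) hn
  rw [Subgroup.mem_normalizer_iff]
  intro y
  conv_rhs => rw [← e1, mem_cen_conj]
  simp [mul_assoc]

/-- The normaliser has no new elements of the other primes of the odd side. -/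
theorem mem_of_side {g : G} {q i : ℕ} (hq : q.Prime) (hql : q ≠ l) (hqb : q ∣ b)
    (hg : g ∈ Subgroup.normalizer ((Subgroup.centralizer ({h} : Set G)) : Set G))
    (hgo : orderOf g = q ^ i) : g ∈ Subgroup.centralizer ({h} : Set G) :=
  mem_of_relIndex hq le_rfl (fun hd => r_full Q hq hql hqb (cardM Q hr hrl hrb hho)
    (hd.trans (Subgroup.relIndex_dvd_index_of_le Subgroup.le_normalizer))) hg hgo

/-- The `l`-elements of the centraliser form its Sylow subgroup. -/
theorem l_part [Fact l.Prime] : ∃ L0 : Subgroup G, L0 ≤ Subgroup.centralizer ({h} : Set G) ∧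
    IsPGroup l L0 ∧ Nat.card L0 = l ^ e.factorization l ∧
    ∀ v ∈ Subgroup.centralizer ({h} : Set G), (∃ j, orderOf v = l ^ j) → v ∈ L0 := by
  obtain ⟨L0, -, hL0, hL0p, hc⟩ := exists_full (p := l)
    (H := Subgroup.centralizer ({h} : Set G)) IsPGroup.of_bot bot_le
  rw [cardM Q hr hrl hrb hho] at hc
  exact ⟨L0, hL0, hL0p, hc, fun v hv ⟨j, hj⟩ => mem_of_full hL0p hL0
    (by rw [hc, cardM Q hr hrl hrb hho]) hv hj (Subgroup.centralizer_le_normalizer _
      (Subgroup.mem_centralizer_iff.2 fun y hy => (commM Q hr hrl hrb hho (hL0 hy) hv).eq))⟩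

/-- An `l`-element of the normaliser outside the centraliser, if an element of the other side
normalises it. -/
theorem exists_l_elt {w : G} {p : ℕ} (hp : p.Prime) (hpa : p ∣ a) (hwo : orderOf w = p)
    (hw : w ∈ Subgroup.normalizer ((Subgroup.centralizer ({h} : Set G)) : Set G)) :
    ∃ n ∈ Subgroup.normalizer ((Subgroup.centralizer ({h} : Set G)) : Set G),
      n ∉ Subgroup.centralizer ({h} : Set G) ∧ ∃ j, orderOf n = l ^ j := by
  have X := Q.D.X
  haveI := Fact.mk Q.D.hl
  set M := Subgroup.centralizer ({h} : Set G) with hM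
  obtain ⟨L0, hL0M, hL0p, hL0c, hL0all⟩ := l_part Q hr hrl hrb hho
  obtain ⟨z, hzo, hzb, hzM⟩ := (structureM Q hr hrl hrb hho).2.2.2
  set Y := Subgroup.centralizer (L0 : Set G) with hY
  have hzL0 : z ∈ L0 := hL0all z hzM ⟨1, by rw [hzo, pow_one]⟩
  have hYz : Y ≤ Subgroup.centralizer ({z} : Set G) := Subgroup.centralizer_le (by simpa using hzL0)
  have hmap : ∀ g ∈ Subgroup.normalizer (M : Set G), g ∈ Subgroup.normalizer (L0 : Set G) := by
    have key : ∀ g ∈ Subgroup.normalizer (M : Set G), ∀ y ∈ L0, g * y * g⁻¹ ∈ L0 := fun g hg y hy => by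
      obtain ⟨j, hj⟩ := exists_orderOf_eq hL0p hy
      exact hL0all _ ((Subgroup.mem_normalizer_iff.1 hg y).1 (hL0M hy))
        ⟨j, by rw [RankFour54.orderOf_conj, hj]⟩
    intro g hg
    rw [Subgroup.mem_normalizer_iff]
    exact fun y => ⟨key g hg y, fun hy => by simpa [mul_assoc] using key g⁻¹ (inv_mem hg) _ hy⟩
  have hnormY : ∀ g ∈ Subgroup.normalizer (L0 : Set G), ∀ y ∈ Y, g * y * g⁻¹ ∈ Y := by
    intro g hg y hy
    refine Subgroup.mem_centralizer_iff.2 fun v hv => ?_
    have := Subgroup.mem_centralizer_iff.1 hy _ ((Subgroup.mem_normalizer_iff''.1 hg v).1 hv)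
    calc v * (g * y * g⁻¹) = g * (g⁻¹ * v * g * y) * g⁻¹ := by group
      _ = g * (y * (g⁻¹ * v * g)) * g⁻¹ := by rw [this]
      _ = g * y * g⁻¹ * v := by group
  have hwY : w ∈ Subgroup.normalizer (Y : Set G) := by
    rw [Subgroup.mem_normalizer_iff]
    exact fun y => ⟨hnormY w (hmap w hw) y, fun hy => by
      simpa [mul_assoc] using hnormY w⁻¹ (inv_mem (hmap w hw)) _ hy⟩
  have hYcop : (Nat.card Y).Coprime a := coprime_of_le X (dvd_of_eq hzb) hYz
  haveI : Group.IsNilpotent Y := isNilpotent_of_fpf hp hwo hwY fun y hy hwy => by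
    by_contra hy1
    obtain ⟨q', i, hq', hq'b, hi, -⟩ := exists_prime_pow_b X hy1 hy hYcop
    exact Split.no_commute X.S hp hq' hwo hi hpa hq'b ((show Commute w y from hwy).pow_right i)
  obtain ⟨P, hP⟩ := hL0p.exists_le_sylow
  have hlt : L0 < (P : Subgroup G) := lt_of_le_of_ne hP fun heq => by
    have h1 := card_sylow X (hlb Q.D) P
    rw [← heq, hL0c] at h1
    have := Nat.pow_right_injective Q.D.hl.two_le h1
    have := hel Q.D
    omega
  haveI : Group.IsNilpotent (P : Subgroup G) := P.2.isNilpotent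
  obtain ⟨n, hn, hnL⟩ := SetLike.exists_of_lt (Group.normalizerCondition_of_isNilpotent
    (G := (P : Subgroup G)) (L0.subgroupOf P)
    (lt_top_iff_ne_top.2 fun h' => hlt.not_ge (Subgroup.subgroupOf_eq_top.1 h')))
  obtain ⟨j, hj⟩ := exists_orderOf_eq P.2 n.2
  have hnN : (n : G) ∈ Subgroup.normalizer (L0 : Set G) := by
    rw [Subgroup.mem_normalizer_iff]
    intro y
    constructor
    · intro hy
      exact Subgroup.mem_subgroupOf.1
        ((Subgroup.mem_normalizer_iff.1 hn ⟨y, hP hy⟩).1 (Subgroup.mem_subgroupOf.2 hy))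
    · intro hy
      have hyP : y ∈ (P : Subgroup G) := by
        have := mul_mem (mul_mem (inv_mem n.2) (hP hy)) n.2
        simpa [mul_assoc] using this
      exact Subgroup.mem_subgroupOf.1
        ((Subgroup.mem_normalizer_iff.1 hn ⟨y, hyP⟩).2 (Subgroup.mem_subgroupOf.2 hy))
  have hhY : h ∈ Y := Subgroup.mem_centralizer_iff.2 fun v hv =>
    (commM Q hr hrl hrb hho (hL0M hv) (mem_self h)).eq
  have hnh : (n : G) * h * (n : G)⁻¹ ∈ M := mem_cen.2 (commute_in_nilpotent Q.D hr hrb hrl (i := 1) (j := 1)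
    (by rw [hho, pow_one]) (by rw [RankFour54.orderOf_conj, hho, pow_one]) hhY (hnormY _ hnN h hhY)).eq
  exact ⟨n, mem_normalizer Q hr hrl hrb hho hnh,
    fun hnM => hnL (Subgroup.mem_subgroupOf.2 (hL0all _ hnM ⟨j, hj⟩)), j, hj⟩

set_option maxHeartbeats 400000 in
/-- No element of the other side normalises the centraliser. -/
theorem no_other {w : G} {p : ℕ} (hp : p.Prime) (hpa : p ∣ a) (hwo : orderOf w = p)
    (hw : w ∈ Subgroup.normalizer ((Subgroup.centralizer ({h} : Set G)) : Set G)) : False := by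
  classical
  have X := Q.D.X
  haveI := Fact.mk Q.D.hl
  haveI := Fact.mk hr
  haveI : Fact (Nat.Prime 2) := ⟨Nat.prime_two⟩
  obtain ⟨n, hnN, hnM, hnl⟩ := exists_l_elt Q hr hrl hrb hho hp hpa hwo hw
  set M := Subgroup.centralizer ({h} : Set G) with hM
  set N := Subgroup.normalizer (M : Set G) with hN
  have hMcard := cardM Q hr hrl hrb hho
  have hMcop : (Nat.card M).Coprime a :=
    hMcard ▸ Nat.Coprime.coprime_dvd_left X.heb X.S.cop.symm
  -- the Sylow `r`-subgroup of the centraliser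
  obtain ⟨R, -, hRM, hRp, hRc⟩ := exists_full (p := r) (H := M) IsPGroup.of_bot bot_le
  have hRall : ∀ v ∈ M, (∃ j, orderOf v = r ^ j) → v ∈ R := fun v hv ⟨j, hj⟩ =>
    mem_of_full hRp hRM hRc hv hj (Subgroup.centralizer_le_normalizer _
      (Subgroup.mem_centralizer_iff.2 fun y hy => (commM Q hr hrl hrb hho (hRM hy) hv).eq))
  have hhR : h ∈ R := hRall h (mem_self h) ⟨1, by rw [hho, pow_one]⟩
  set A := R.subgroupOf N with hA
  haveI hAn : A.Normal := ⟨fun x hx g => by
    obtain ⟨j, hj⟩ := exists_orderOf_eq hRp (Subgroup.mem_subgroupOf.1 hx)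
    exact Subgroup.mem_subgroupOf.2 (hRall _
      ((Subgroup.mem_normalizer_iff.1 g.2 _).1 (hRM (Subgroup.mem_subgroupOf.1 hx)))
      ⟨j, by rw [Subgroup.coe_mul, Subgroup.coe_mul, Subgroup.coe_inv, RankFour54.orderOf_conj, hj]⟩)⟩
  letI : CommGroup A :=
    { (inferInstance : Group A) with
      mul_comm := fun x y => Subtype.ext (Subtype.ext
        (commM Q hr hrl hrb hho (hRM x.2) (hRM y.2)).eq) }
  set ρ : N →* MulAut A := MulAut.conjNormal with hρ
  have hfix : ∀ (g : N) (v : A), v ≠ 1 → ρ g v = v → (g : G) ∈ M := by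
    intro g v hv hgv
    have hv' : ((v : N) : G) ≠ 1 := fun h' => hv (Subtype.ext (Subtype.ext h'))
    have hc : Commute (g : G) ((v : N) : G) :=
      mul_inv_eq_iff_eq_mul.1 (congrArg (fun t : A => ((t : N) : G)) hgv)
    obtain ⟨q, i, hq, hi, -⟩ := exists_prime_pow hv'
    have hql : q ≠ l := by
      obtain ⟨j, hj⟩ := exists_orderOf_eq hRp v.2
      have := (Nat.prime_dvd_prime_iff_eq hq hr).1
        (hq.dvd_of_dvd_pow (hj ▸ hi ▸ orderOf_pow_dvd i))
      rwa [this]
    rw [hM, ← cen_eq Q hr hrl hrb hho hq hql hi (M.pow_mem (hRM v.2) i)]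
    exact mem_cen.2 (hc.pow_right i).symm.eq
  have hker : ∀ g : N, ρ g = 1 ↔ (g : G) ∈ M := fun g => by
    refine ⟨fun hg => hfix g ⟨⟨h, Subgroup.le_normalizer (mem_self h)⟩, hhR⟩
      (fun h' => ne_one_of_prime hr hho (congrArg (fun t : A => ((t : N) : G)) h')) (by rw [hg]; rfl),
      fun hg => MulEquiv.ext fun v => Subtype.ext (Subtype.ext ?_)⟩
    show (g : G) * ((v : N) : G) * (g : G)⁻¹ = ((v : N) : G)
    exact mul_inv_eq_iff_eq_mul.2 (commM Q hr hrl hrb hho hg (hRM v.2)).eq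
  -- lifting elements of prime order of the other side
  have hlift : ∀ {g : N} {π : ℕ}, π.Prime → π ∣ a → ρ g ≠ 1 → ρ g ^ π = 1 →
      ∃ x : N, orderOf (x : G) = π ∧ ∃ i : ℕ, ρ x = ρ g ^ i := by
    intro g π hπ hπa hg1 hgπ
    have hgM : ((g : G)) ^ π ∈ M := by
      rw [← map_pow] at hgπ
      simpa using (hker _).1 hgπ
    haveI := Fact.mk hπ
    refine ⟨g ^ Nat.card M, orderOf_eq_prime_iff.2 ⟨?_, fun h' => hg1 ?_⟩, _, map_pow ρ g _⟩
    · rw [SubmonoidClass.coe_pow, ← pow_mul, mul_comm, pow_mul]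
      exact congrArg Subtype.val (pow_card_eq_one' (x := (⟨_, hgM⟩ : M)))
    · have h1 : ρ g ^ Nat.card M = 1 := by
        rw [← map_pow, show g ^ Nat.card M = 1 from Subtype.ext h', map_one]
      exact orderOf_eq_one_iff.1 (Nat.eq_one_of_dvd_coprimes
        (Nat.Coprime.coprime_dvd_left hπa (hMcop.symm)) (orderOf_dvd_of_pow_eq_one hgπ)
        (orderOf_dvd_of_pow_eq_one h1))
  -- commuting elements of the two kinds do not exist
  have hpair : ∀ {x y : MulAut A} {π : ℕ}, x ∈ ρ.range → y ∈ ρ.range → π.Prime → π ∣ a →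
      orderOf x = π → orderOf y = l → x * y = y * x → False := by
    intro x y π hx hy hπ hπa hxo hyo hxy
    obtain ⟨g, rfl⟩ := hx
    obtain ⟨g', rfl⟩ := hy
    obtain ⟨x', hx'o, i, hx'i⟩ := hlift hπ hπa (ne_one_of_prime hπ hxo) (hxo ▸ pow_orderOf_eq_one _)
    have hcomm : ρ x' * ρ g' = ρ g' * ρ x' := by
      rw [hx'i]; exact ((show Commute (ρ g) (ρ g') from hxy).pow_left i).eq
    have hg'l : (g' : G) ^ l ∈ M := by
      have := hyo ▸ pow_orderOf_eq_one (ρ g')
      rw [← map_pow] at this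
      simpa using (hker _).1 this
    set Y := M ⊔ Subgroup.zpowers (g' : G) with hYdef
    have hYN : Y ≤ N := sup_le Subgroup.le_normalizer (Subgroup.zpowers_le.2 g'.2)
    haveI hMN : (M.subgroupOf Y).Normal := Subgroup.normal_subgroupOf_of_le_normalizer hYN
    have hYl : ∀ t ∈ Y, t ^ l ∈ M := by
      intro t ht
      have h2 : (⟨t, ht⟩ : Y) ∈ M.subgroupOf Y ⊔ (Subgroup.zpowers (g' : G)).subgroupOf Y := by
        rw [← Subgroup.subgroupOf_sup le_sup_left le_sup_right, Subgroup.subgroupOf_self]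
        exact Subgroup.mem_top _
      obtain ⟨m1, hm1, t2, ht2, he⟩ := Subgroup.mem_sup_of_normal_left.1 h2
      have hq : ((⟨t, ht⟩ : Y) : Y ⧸ M.subgroupOf Y) ^ l = 1 := by
        rw [← he, QuotientGroup.mk_mul, (QuotientGroup.eq_one_iff m1).2 hm1, one_mul,
          ← QuotientGroup.mk_pow, QuotientGroup.eq_one_iff, Subgroup.mem_subgroupOf]
        obtain ⟨j, hj⟩ := Subgroup.mem_subgroupOf.1 ht2
        change (g' : G) ^ j = _ at hj
        rw [SubmonoidClass.coe_pow, ← hj, ← zpow_natCast, ← zpow_mul, mul_comm, zpow_mul, zpow_natCast]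
        exact Subgroup.zpow_mem _ hg'l j
      rw [← QuotientGroup.mk_pow, QuotientGroup.eq_one_iff, Subgroup.mem_subgroupOf] at hq
      exact hq
    have hYcop : (Nat.card Y).Coprime a := Nat.coprime_of_dvd fun q hq hqY hqa => by
      haveI := Fact.mk hq
      obtain ⟨t, ht⟩ := exists_prime_orderOf_dvd_card' (G := Y) q hqY
      rw [← Subgroup.orderOf_coe] at ht
      have hql : q ≠ l := fun h' => not_both X Q.D.hl (h' ▸ hqa) (hlb Q.D)
      have h1 : q ∣ Nat.card M := by
        have h2 : orderOf ((t : G) ^ l) = q := by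
          rw [Nat.Coprime.orderOf_pow (ht ▸ (Nat.coprime_primes hq Q.D.hl).2 hql), ht]
        exact h2 ▸ Subgroup.orderOf_dvd_natCard _ (hYl _ t.2)
      exact hq.ne_one (Nat.eq_one_of_dvd_coprimes hMcop h1 hqa)
    have hwY : (x' : G) ∈ Subgroup.normalizer (Y : Set G) := by
      have hg'Y : (x' : G) * (g' : G) * (x' : G)⁻¹ ∈ Y := by
        have h1 : ρ (x' * g' * x'⁻¹ * g'⁻¹) = 1 := by
          rw [map_mul, map_mul, map_mul, hcomm, map_inv, map_inv]; group
        have h2 := Subgroup.mem_sup_left (T := Subgroup.zpowers (g' : G)) ((hker _).1 h1)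
        have := mul_mem h2 (Subgroup.mem_sup_right (S := M) (Subgroup.mem_zpowers (g' : G)))
        simpa using this
      have hle : Y.map (MulAut.conj (x' : G)).toMonoidHom ≤ Y := by
        rw [hYdef, Subgroup.map_sup, sup_le_iff]
        refine ⟨?_, ?_⟩
        · rintro _ ⟨t, ht, rfl⟩
          exact Subgroup.mem_sup_left ((Subgroup.mem_normalizer_iff.1 x'.2 t).1 ht)
        · rw [MonoidHom.map_zpowers, Subgroup.zpowers_le]
          exact hg'Y
      have heq := Subgroup.eq_of_le_of_card_ge hle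
        (Subgroup.card_map_of_injective (MulAut.conj (x' : G)).injective).ge
      rw [Subgroup.mem_normalizer_iff]
      intro t
      constructor
      · intro ht
        exact heq ▸ ⟨t, ht, rfl⟩
      · intro ht
        rw [← heq] at ht
        obtain ⟨t', ht', he⟩ := ht
        rwa [← (MulAut.conj (x' : G)).injective he]
    haveI : Group.IsNilpotent Y := isNilpotent_of_fpf hπ hx'o hwY fun t ht hwt => by
      by_contra ht1
      obtain ⟨q', i', hq', hq'b, hi', -⟩ := exists_prime_pow_b X ht1 ht hYcop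
      exact Split.no_commute X.S hπ hq' hx'o hi' hπa hq'b
        ((show Commute (x' : G) t from hwt).pow_right i')
    -- an `l`-element of `Y` outside `M`
    obtain ⟨c, hlc, hc⟩ : ∃ c : ℕ, ¬ l ∣ c ∧ Nat.card M = l ^ e.factorization l * c :=
      ⟨e / l ^ e.factorization l, Nat.not_dvd_ordCompl Q.D.hl (e_pos X).ne', by
        rw [hMcard, Nat.ordProj_mul_ordCompl_eq_self]⟩
    have hg'Y' : (g' : G) ∈ Y := Subgroup.mem_sup_right (Subgroup.mem_zpowers _)
    have hord : (((g' : G)) ^ c) ^ (l ^ (e.factorization l + 1)) = 1 := by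
      rw [← pow_mul, show c * l ^ (e.factorization l + 1) = l * Nat.card M by rw [hc]; ring, pow_mul]
      exact congrArg Subtype.val (pow_card_eq_one' (x := (⟨_, hg'l⟩ : M)))
    obtain ⟨j, -, hj⟩ := (Nat.dvd_prime_pow Q.D.hl).1 (orderOf_dvd_of_pow_eq_one hord)
    have hcomh := commute_of_nilpotent (Y := Y) Q.D.hl hr hrl.symm hj (j := 1) (by rw [hho, pow_one])
      (Y.pow_mem hg'Y' c) (Subgroup.mem_sup_left (mem_self h))
    have hmem : (g' : G) ^ c ∈ M := mem_cen.2 hcomh.symm.eq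
    refine ne_one_of_prime Q.D.hl hyo ((hker g').2 ?_)
    have hcop : Nat.gcd c l = 1 := (Q.D.hl.coprime_iff_not_dvd.2 hlc).symm
    have hb := Nat.gcd_eq_gcd_ab c l
    rw [hcop, Nat.cast_one] at hb
    have e1 : (g' : G) = ((g' : G) ^ c) ^ Nat.gcdA c l * ((g' : G) ^ l) ^ Nat.gcdB c l := by
      rw [← zpow_natCast (g' : G) c, ← zpow_natCast (g' : G) l, ← zpow_mul, ← zpow_mul, ← zpow_add,
        ← hb, zpow_one]
    rw [e1]
    exact mul_mem (zpow_mem hmem _) (zpow_mem hg'l _)
  -- the image in the automorphism group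
  set Z := ρ.range with hZ
  have hNodd : Odd (Nat.card N) := odd_normalizer X
    (fun h' => ne_one_of_prime hr hho (Subgroup.mem_bot.1 (h' ▸ mem_self h))) hMcop
  haveI : Group.IsSolvable N := OddOrder.FeitThompson.isSolvable_of_odd_card hNodd
  haveI hZsol : Group.IsSolvable Z := Group.isSolvable_of_surjective ρ.rangeRestrict_surjective
  have hwM : w ∉ M := fun h' => hp.ne_one (Nat.eq_one_of_dvd_coprimes hMcop
    (hwo ▸ Subgroup.orderOf_dvd_natCard _ h') hpa)
  have hρw : orderOf (ρ ⟨w, hw⟩) = p := by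
    refine @orderOf_eq_prime _ _ _ p ⟨hp⟩ ?_ fun h' => hwM ((hker _).1 h')
    rw [← map_pow]
    refine (hker _).2 ?_
    rw [SubmonoidClass.coe_pow, show w ^ p = 1 by rw [← hwo]; exact pow_orderOf_eq_one w]
    exact M.one_mem
  haveI hZnt : Nontrivial Z := ⟨⟨⟨_, ⟨w, hw⟩, rfl⟩, 1, fun h' => hwM
    ((hker _).1 (congrArg Subtype.val h'))⟩⟩
  obtain ⟨q, hq, hne⟩ : ∃ q : ℕ, q.Prime ∧ Cfsg.pCore q Z ≠ ⊥ := by
    by_contra! hall
    refine Cores.fittingSubgroup_ne_bot (G := Z) ?_
    rw [Cores.fittingSubgroup_eq_iSup_pCore]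
    exact iSup_eq_bot.2 fun t => hall t t.2
  haveI := Fact.mk hq
  set K := (Cfsg.pCore q Z).map Z.subtype with hK
  haveI := Fintype.ofFinite K
  have hKp : IsPGroup q K := (Cores.pCore_isPGroup q).map _
  haveI : Nontrivial K := (Subgroup.nontrivial_iff_ne_bot _).2 fun h' =>
    hne ((Subgroup.map_eq_bot_iff_of_injective _ Z.subtype_injective).1 h')
  obtain ⟨κ, hκ0, hκ⟩ := hKp.nontrivial_iff_card.1 inferInstance
  have hqZ : q ∣ Nat.card Z := (dvd_pow_self q hκ0.ne').trans
    (hκ ▸ Subgroup.card_dvd_of_le (Subgroup.map_subtype_le _))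
  have hqside : q = l ∨ q ∣ a := by
    by_cases hql : q = l
    · exact Or.inl hql
    refine Or.inr ((side X hq ?_).resolve_right fun hqb => ?_)
    · exact (hqZ.trans (Subgroup.card_range_dvd ρ)).trans (Subgroup.card_subgroup_dvd_card N)
    obtain ⟨P⟩ : Nonempty (Sylow q N) := inferInstance
    have h1 : q ∣ Nat.card ((P.mapSurjective ρ.rangeRestrict_surjective : Sylow q Z) : Subgroup Z) :=
      (P.mapSurjective ρ.rangeRestrict_surjective).dvd_card_of_dvd_card hqZ
    have h2 : ((P.mapSurjective ρ.rangeRestrict_surjective : Sylow q Z) : Subgroup Z) = ⊥ := by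
      rw [Sylow.coe_mapSurjective, eq_bot_iff]
      rintro _ ⟨t, ht, rfl⟩
      obtain ⟨j, hj⟩ := exists_orderOf_eq P.2 ht
      exact Subgroup.mem_bot.2 (Subtype.ext ((hker t).2
        (mem_of_side Q hr hrl hrb hho hq hql hqb t.2 (by rw [Subgroup.orderOf_coe, hj]))))
    rw [h2, Subgroup.card_bot, Nat.dvd_one] at h1
    exact hq.ne_one h1
  have hKn : ∀ y ∈ Z, y ∈ Subgroup.normalizer (K : Set (MulAut A)) := fun y hy =>
    Subgroup.le_normalizer_map Z.subtype ⟨⟨y, hy⟩,
      (Subgroup.normalizer_eq_top_iff.2 (inferInstance : (Cfsg.pCore q Z).Normal)) ▸ Subgroup.mem_top _,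
      rfl⟩
  have hfpf : ∀ s ∈ Z, s ≠ 1 → ∀ v : A, s v = v → v = 1 := by
    rintro _ ⟨g, rfl⟩ hg v hv
    by_contra hv1
    exact hg ((hker g).2 (hfix g v hv1 hv))
  have hKZ : K ≤ Z := Subgroup.map_subtype_le _
  -- an element of the other kind
  obtain ⟨y, q', hy, hq', hyo, hside⟩ : ∃ (y : MulAut A) (q' : ℕ), y ∈ Z ∧ q'.Prime ∧ orderOf y = q' ∧
      ((q = l ∧ q' ∣ a) ∨ (q ∣ a ∧ q' = l)) := by
    rcases hqside with hq1 | hq1
    · exact ⟨_, p, ⟨_, rfl⟩, hp, hρw, Or.inl ⟨hq1, hpa⟩⟩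
    · obtain ⟨t, ht⟩ : ∃ t, orderOf (ρ ⟨n, hnN⟩ ^ t) = l := by
        obtain ⟨j, hj⟩ := hnl
        obtain ⟨q', t, hq', ht, -⟩ := exists_prime_pow (x := ρ ⟨n, hnN⟩) fun h' => hnM ((hker _).1 h')
        refine ⟨t, ht.trans ((Nat.prime_dvd_prime_iff_eq hq' Q.D.hl).1 (hq'.dvd_of_dvd_pow (m := l) (n := j) ?_))⟩
        rw [← hj, ← Subgroup.orderOf_mk n hnN, ← ht]
        exact (orderOf_pow_dvd t).trans (orderOf_map_dvd ρ _)
      exact ⟨_, l, Z.pow_mem ⟨⟨n, hnN⟩, rfl⟩ t, Q.D.hl, ht, Or.inr ⟨hq1, rfl⟩⟩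
  have hc : ∀ s ∈ K, y * s = s * y → s = 1 := by
    intro s hs hys
    by_contra hs1
    obtain ⟨q2, i, hq2, hi, -⟩ := exists_prime_pow hs1
    obtain ⟨j, hj⟩ := exists_orderOf_eq hKp hs
    have e1 : q2 = q := (Nat.prime_dvd_prime_iff_eq hq2 hq).1
      (hq2.dvd_of_dvd_pow (hj ▸ hi ▸ orderOf_pow_dvd i))
    subst e1
    have hsi : s ^ i ∈ Z := hKZ (K.pow_mem hs i)
    have hcy : Commute y (s ^ i) := (show Commute y s from hys).pow_right i
    rcases hside with ⟨h1, h2⟩ | ⟨h1, h2⟩
    · exact hpair hy hsi hq' h2 hyo (hi.trans h1) hcy.eq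
    · exact hpair hsi hy hq h1 hi (hyo.trans h2) hcy.symm.eq
  have hcop : r.Coprime q := (Nat.coprime_primes hr hq).2 fun h' => by
    rcases hside with ⟨h1, -⟩ | ⟨h1, -⟩
    · exact hrl (h'.trans h1)
    · exact not_both X hr (h' ▸ h1) hrb
  have hpow := pow_card_eq_one K y hq' (hyo ▸ pow_orderOf_eq_one y) (hKn y hy) hc
    (fun v hv => by
      obtain ⟨s, hs⟩ := exists_ne (1 : K)
      exact hfpf s (hKZ s.2) (fun h' => hs (Subtype.ext h')) v (hv s s.2))
    (hfpf y hy (ne_one_of_prime hq' hyo)) ⟨⟨h, Subgroup.le_normalizer (mem_self h)⟩, hhR⟩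
  rw [← Nat.card_eq_fintype_card, hκ] at hpow
  have h2 : h ^ (q ^ κ) = 1 := by
    simpa using congrArg (fun t : A => ((t : N) : G)) hpow
  exact hr.ne_one (Nat.eq_one_of_dvd_coprimes (hcop.pow_right κ) dvd_rfl
    (hho ▸ orderOf_dvd_of_pow_eq_one h2))

/-- Modulo the centraliser, the normaliser is an `l`-group. -/
theorem pow_mem_of_mem_normalizer {g : G}
    (hg : g ∈ Subgroup.normalizer ((Subgroup.centralizer ({h} : Set G)) : Set G)) :
    g ^ (l ^ (Nat.card G).factorization l) ∈ Subgroup.centralizer ({h} : Set G) := by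
  have X := Q.D.X
  refine RankFour54.mem_of_parts _ fun t q i hq hi => ?_
  set g' := (g ^ (l ^ (Nat.card G).factorization l)) ^ t with hg'
  have hg'N := Subgroup.pow_mem _ (Subgroup.pow_mem _ hg (l ^ (Nat.card G).factorization l)) t
  by_cases hi0 : i = 0
  · rw [hi0, pow_zero, orderOf_eq_one_iff] at hi
    rw [hi]; exact one_mem _
  have hqd : q ∣ Nat.card G := (dvd_pow_self q hi0).trans (hi ▸ orderOf_dvd_natCard _)
  by_cases hql : q = l
  · exfalso
    subst hql
    haveI := Fact.mk hq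
    set Nf := (Nat.card G).factorization q
    have h1 : orderOf g' ∣ Nat.card G / q ^ Nf := by
      refine orderOf_dvd_of_pow_eq_one ?_
      rw [hg', ← pow_mul, ← pow_mul, show q ^ Nf * (t * (Nat.card G / q ^ Nf)) =
        (q ^ Nf * (Nat.card G / q ^ Nf)) * t by ring, Nat.ordProj_mul_ordCompl_eq_self, pow_mul,
        pow_card_eq_one', one_pow]
    rw [hi] at h1
    exact Nat.not_dvd_ordCompl hq Nat.card_pos.ne' ((dvd_pow_self q hi0).trans h1)
  rcases side X hq hqd with hqa | hqb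
  · exfalso
    obtain ⟨q', j, hq', hj, -⟩ := exists_prime_pow (x := g') fun h1 => hi0 (by
      rw [h1, orderOf_one] at hi
      by_contra h0
      exact hq.ne_one (Nat.dvd_one.1 (hi ▸ dvd_pow_self q h0)))
    have e1 : q' = q := (Nat.prime_dvd_prime_iff_eq hq' hq).1
      (hq'.dvd_of_dvd_pow (hi ▸ hj ▸ orderOf_pow_dvd j))
    subst e1
    exact no_other Q hr hrl hrb hho hq hqa hj (Subgroup.pow_mem _ hg'N j)
  · exact mem_of_side Q hr hrl hrb hho hq hql hqb hg'N hi

end

end Cfsg.Agent.Lib.RankFive54.Small
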