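import Mathlib
import Cfsg.Agent.Lib.RankFive54.Small
import Cfsg.Agent.Lib.CNGroup.Solvable

/-!
# A Sylow `l`-subgroup is normal in the normaliser of its `Z(J)`
-/

set_option autoImplicit false
set_option linter.style.haveILetI false
set_option linter.unusedSectionVars false

namespace Cfsg.Agent.Lib.RankFive54.NormalL

open Cfsg.Agent.Lib.ClassSizes.Basic
open Cfsg.Agent.Lib.Inv59.RankThree
open Cfsg.Agent.Lib.RankFour54
open Cfsg.Agent.Lib.RankFive54.Odd
open Cfsg.Agent.Lib.RankFive54.Side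
open Cfsg.Agent.Lib.RankFive54.Small
open scoped commutatorElement

universe u

/-- A normal subgroup with a perfect supplement in a solvable group is everything. -/
theorem eq_top_of_le_commutator {Y : Type u} [Group Y] [Finite Y] [Group.IsSolvable Y]
    (Z : Subgroup Y) [Z.Normal] {L : Subgroup Y} (hL : L ≤ commutator Y) (hsup : L ⊔ Z = ⊤) :
    Z = ⊤ := by
  by_contra hZ
  haveI : Nontrivial (Y ⧸ Z) := QuotientGroup.nontrivial_iff.2 hZ
  haveI : Group.IsSolvable (Y ⧸ Z) := Group.isSolvable_of_surjective (QuotientGroup.mk'_surjective Z)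
  refine (Group.IsSolvable.commutator_lt_top_of_nontrivial (G := Y ⧸ Z)).ne (top_le_iff.1 ?_)
  have h : (⊤ : Subgroup Y).map (QuotientGroup.mk' Z) ≤ commutator (Y ⧸ Z) := by
    rw [← hsup, Subgroup.map_sup, QuotientGroup.map_mk'_self, sup_bot_eq]
    refine (Subgroup.map_mono hL).trans ?_
    rw [commutator_def, Subgroup.map_commutator]
    exact Subgroup.commutator_mono le_top le_top
  rwa [Subgroup.map_top_of_surjective _ (QuotientGroup.mk'_surjective Z)] at h

/-- A Sylow subgroup and a normal subgroup of prime power index for its prime generate. -/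
theorem sup_eq_top_of_pow {Y : Type u} [Group Y] [Finite Y] {l : ℕ} [Fact l.Prime] (L : Sylow l Y)
    (Z : Subgroup Y) [Z.Normal] (h : ∀ x : Y, ∃ j, x ^ l ^ j ∈ Z) : (L : Subgroup Y) ⊔ Z = ⊤ := by
  have hp : IsPGroup l (Y ⧸ Z) := fun q => by
    obtain ⟨x, rfl⟩ := QuotientGroup.mk'_surjective Z q
    obtain ⟨j, hj⟩ := h x
    exact ⟨j, by rw [← map_pow]; exact (QuotientGroup.eq_one_iff _).2 hj⟩
  obtain ⟨n, hn⟩ := IsPGroup.iff_card.1 hp
  rw [← Subgroup.index_eq_card] at hn
  refine Subgroup.index_eq_one.1 (Nat.eq_one_of_dvd_coprimes ?_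
    (Subgroup.index_dvd_of_le (le_sup_left : (L : Subgroup Y) ≤ (L : Subgroup Y) ⊔ Z))
    (hn ▸ Subgroup.index_dvd_of_le (le_sup_right : Z ≤ (L : Subgroup Y) ⊔ Z)))
  exact Nat.Coprime.pow_right n
    (((Fact.out : l.Prime).coprime_iff_not_dvd.2 L.not_dvd_index).symm)

variable {G : Type u} [Group G] [Finite G] [IsSimpleGroup G] {a b e l k : ℕ}

/-- The focal subgroup theorem with control of fusion. -/
theorem le_commutator (hG : ¬ IsMulCommutative G) (X : Ctx G a b e) [Fact l.Prime] (hlb : l ∣ b)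
    (L : Sylow l G) :
    (L : Subgroup G) ≤ ⁅Subgroup.normalizer (Cfsg.centerThompsonAOf (L : Subgroup G) : Set G),
      Subgroup.normalizer (Cfsg.centerThompsonAOf (L : Subgroup G) : Set G)⁆ := by
  have hperf : commutator G = ⊤ := by
    rcases IsSimpleGroup.eq_bot_or_eq_top_of_normal (commutator G) inferInstance with h | h
    · refine absurd ⟨⟨fun x y => ?_⟩⟩ hG
      have hm : ⁅x, y⁆ ∈ commutator G :=
        Subgroup.commutator_mem_commutator (Subgroup.mem_top x) (Subgroup.mem_top y)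
      rw [h, Subgroup.mem_bot, commutatorElement_eq_one_iff_mul_comm] at hm
      exact hm
    · exact h
  have hLN : (L : Subgroup G) ≤
      Subgroup.normalizer (Cfsg.centerThompsonAOf (L : Subgroup G) : Set G) :=
    Subgroup.le_normalizer.trans (ZJ.normalizer_le_normalizer_centerThompsonA _)
  have hfoc := Subgroup.commutator_inf_eq_focalSubgroup L
  rw [hperf, top_inf_eq] at hfoc
  intro v hv
  rw [hfoc, Subgroup.focalSubgroup_def] at hv
  induction hv using Subgroup.closure_induction with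
  | mem g hg =>
    obtain ⟨hgL, x, hx, t, rfl⟩ := hg
    obtain ⟨n, hn, he⟩ := fusion X hlb L (A := {x⁻¹}) (g := t)
      (Set.singleton_subset_iff.2 (inv_mem hx)) (by
        rintro _ rfl
        have : t * x⁻¹ * t⁻¹ = x⁻¹ * ⁅x, t⁆ := by rw [commutatorElement_def]; group
        rw [this]
        exact mul_mem (inv_mem hx) hgL)
    have e1 := he _ rfl
    rw [show ⁅x, t⁆ = ⁅x, n⁆ by
      simp only [commutatorElement_def, mul_assoc] at e1 ⊢
      rw [e1]]
    exact Subgroup.commutator_mem_commutator (hLN hx) hn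
  | one => exact one_mem _
  | mul _ _ _ _ h1 h2 => exact mul_mem h1 h2
  | inv _ _ h1 => exact inv_mem h1

set_option maxHeartbeats 400000 in
/-- The Sylow subgroup is normal in the normaliser. -/
theorem sylow_normal (Q : All G a b e l k) (hG : ¬ IsMulCommutative G) [Fact l.Prime] (L : Sylow l G) :
    Subgroup.normalizer (Cfsg.centerThompsonAOf (L : Subgroup G) : Set G) ≤
      Subgroup.normalizer ((L : Subgroup G) : Set G) := by
  classical
  have X := Q.D.X
  have hlb := hlb Q.D
  haveI : Fact (Nat.Prime 2) := ⟨Nat.prime_two⟩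
  set E := Cfsg.centerThompsonAOf (L : Subgroup G) with hE
  set N := Subgroup.normalizer (E : Set G) with hN
  have hEL : E ≤ (L : Subgroup G) := ZJ.centerThompsonAOf_le _
  have hLN : (L : Subgroup G) ≤ N :=
    Subgroup.le_normalizer.trans (ZJ.normalizer_le_normalizer_centerThompsonA _)
  have hEne : E ≠ ⊥ := BenderOne.LocalTools.zj_ne_bot L.2
    (L.ne_bot_of_dvd_card (hlb.trans (Dvd.intro_left a X.S.card.symm)))
  have hodd : Odd (Nat.card N) := odd_normalizer X hEne (coprime_pgroup X hlb (L.2.to_le hEL))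
  haveI : Group.IsSolvable N := OddOrder.FeitThompson.isSolvable_of_odd_card hodd
  set LN := L.subtype hLN with hLNdef
  have hLmem : ∀ t : N, t ∈ (LN : Subgroup N) ↔ (t : G) ∈ (L : Subgroup G) := fun t => by
    rw [hLNdef, Sylow.coe_subtype, Subgroup.mem_subgroupOf]
  have hder : (LN : Subgroup N) ≤ commutator N := by
    intro t ht
    have h1 := le_commutator hG X hlb L ((hLmem t).1 ht)
    rw [← Subgroup.map_subtype_commutator] at h1
    obtain ⟨t', ht', he⟩ := h1
    rwa [← Subtype.ext he]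
  suffices hn : (LN : Subgroup N).Normal by
    intro g hg
    rw [← Subgroup.map_subgroupOf_eq_of_le hLN]
    refine Subgroup.le_normalizer_map N.subtype ⟨⟨g, hg⟩, ?_, rfl⟩
    rw [hLNdef, Sylow.coe_subtype] at hn
    rw [Subgroup.normalizer_eq_top_iff.2 hn]
    exact Subgroup.mem_top _
  set Qc := Cfsg.pCore l N with hQc
  have hQcp : IsPGroup l Qc := Cores.pCore_isPGroup l
  suffices hle : (LN : Subgroup N) ≤ Qc by
    have heq : (LN : Subgroup N) = Qc := le_antisymm hle (Cores.pCore_le_sylow LN)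
    rw [heq]; infer_instance
  set f := QuotientGroup.mk' Qc with hf
  have hfs : Function.Surjective f := QuotientGroup.mk'_surjective Qc
  set Lb : Subgroup (N ⧸ Qc) := (LN : Subgroup N).map f with hLb
  suffices hLbot : Lb = ⊥ by
    intro t ht
    exact (QuotientGroup.eq_one_iff t).1 (Subgroup.mem_bot.1 (hLbot ▸ ⟨t, ht, rfl⟩))
  have hLbder : Lb ≤ commutator (N ⧸ Qc) := by
    refine (Subgroup.map_mono hder).trans ?_
    rw [commutator_def, Subgroup.map_commutator]
    exact Subgroup.commutator_mono le_top le_top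
  by_cases hnt : Nontrivial (N ⧸ Qc)
  swap
  · haveI := not_nontrivial_iff_subsingleton.1 hnt
    exact Subsingleton.elim _ _
  haveI : Group.IsSolvable (N ⧸ Qc) := Group.isSolvable_of_surjective hfs
  obtain ⟨r₀, hr₀, hne⟩ : ∃ r₀ : ℕ, r₀.Prime ∧ Cfsg.pCore r₀ (N ⧸ Qc) ≠ ⊥ := by
    by_contra! hall
    refine Cores.fittingSubgroup_ne_bot (G := N ⧸ Qc) ?_
    rw [Cores.fittingSubgroup_eq_iSup_pCore]
    exact iSup_eq_bot.2 fun t => hall t t.2
  haveI := Fact.mk hr₀
  set O := Cfsg.pCore r₀ (N ⧸ Qc) with hO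
  have hOp : IsPGroup r₀ O := Cores.pCore_isPGroup r₀
  set K := O.comap f with hK
  haveI hKn : K.Normal := Subgroup.Normal.comap inferInstance _
  have hr₀l : r₀ ≠ l := by
    intro h
    subst h
    refine hne ?_
    have hKp : IsPGroup r₀ K := hOp.comap_of_ker_isPGroup f (by rw [QuotientGroup.ker_mk']; exact hQcp)
    have hKQ : K ≤ Qc := Cores.le_pCore hKp
    rw [← Subgroup.map_comap_eq_self_of_surjective hfs O, eq_bot_iff]
    rintro _ ⟨t, ht, rfl⟩
    exact Subgroup.mem_bot.2 ((QuotientGroup.eq_one_iff t).2 (hKQ ht))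
  obtain ⟨P⟩ : Nonempty (Sylow r₀ K) := inferInstance
  set R0 := (P : Subgroup K).map K.subtype with hR0
  have hR0p : IsPGroup r₀ R0 := P.2.map _
  have hR0map : R0.map f = O := by
    set f' := f.subgroupComap O
    have hs : Function.Surjective f' := MonoidHom.subgroupComap_surjective_of_surjective f O hfs
    have h1 : ((P.mapSurjective hs : Sylow r₀ O) : Subgroup O) = ⊤ := by
      refine ((P.mapSurjective hs).3 (Q := ⊤) (hOp.of_equiv Subgroup.topEquiv.symm) le_top).symm
    rw [Sylow.coe_mapSurjective] at h1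
    ext x
    constructor
    · rintro ⟨_, ⟨t, -, rfl⟩, rfl⟩
      exact t.2
    · intro hx
      obtain ⟨t, ht, he⟩ := (h1 ▸ Subgroup.mem_top _ : (⟨x, hx⟩ : O) ∈ (P : Subgroup K).map f')
      exact ⟨t, ⟨t, ht, rfl⟩, congrArg Subtype.val he⟩
  have hR0ne : R0 ≠ ⊥ := fun h => hne (by rw [← hR0map, h, Subgroup.map_bot])
  haveI : Nontrivial R0 := (Subgroup.nontrivial_iff_ne_bot _).2 hR0ne
  obtain ⟨κ, hκ0, hκ⟩ := hR0p.nontrivial_iff_card.1 inferInstance
  obtain ⟨h', hh'⟩ := exists_prime_orderOf_dvd_card' (G := R0) r₀ (hκ ▸ dvd_pow_self r₀ hκ0.ne')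
  set h : G := ((h' : N) : G) with hh
  have hho : orderOf h = r₀ := by rw [hh, Subgroup.orderOf_coe, Subgroup.orderOf_coe, hh']
  have hr₀G : r₀ ∣ Nat.card G := hho ▸ orderOf_dvd_natCard _
  rcases side X hr₀ hr₀G with hra | hrb
  · -- the other side: a cyclic group without fixed points
    have hQne : Qc ≠ ⊥ := fun hb => by
      have hEN : E ≤ N := Subgroup.le_normalizer
      haveI hEn : (E.subgroupOf N).Normal := Subgroup.normal_subgroupOf_of_le_normalizer le_rfl
      have h1 := Cores.le_pCore (N := E.subgroupOf N)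
        ((L.2.to_le hEL).comap_of_injective N.subtype N.subtype_injective)
      rw [← hQc, hb, le_bot_iff, Subgroup.subgroupOf_eq_bot] at h1
      exact hEne (by rwa [disjoint_iff, inf_eq_left.2 hEN] at h1)
    have hfix : ∀ t ∈ R0, t ≠ 1 → Qc ⊓ Subgroup.centralizer ({t} : Set N) = ⊥ := by
      intro t ht ht1
      rw [Subgroup.eq_bot_iff_forall]
      rintro v ⟨hv, hvt⟩
      by_contra hv1
      obtain ⟨q, i, hq, hi, -⟩ := exists_prime_pow (x := (t : G)) fun h1 => ht1 (Subtype.ext h1)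
      obtain ⟨q', i', hq', hi', -⟩ := exists_prime_pow (x := (v : G)) fun h1 => hv1 (Subtype.ext h1)
      have e1 : q = r₀ := by
        obtain ⟨j, hj⟩ := exists_orderOf_eq hR0p ht
        rw [← Subgroup.orderOf_coe] at hj
        exact (Nat.prime_dvd_prime_iff_eq hq hr₀).1 (hq.dvd_of_dvd_pow (hj ▸ hi ▸ orderOf_pow_dvd i))
      have e2 : q' = l := by
        obtain ⟨j, hj⟩ := exists_orderOf_eq hQcp hv
        rw [← Subgroup.orderOf_coe] at hj
        exact (Nat.prime_dvd_prime_iff_eq hq' Q.D.hl).1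
          (hq'.dvd_of_dvd_pow (hj ▸ hi' ▸ orderOf_pow_dvd i'))
      exact Split.no_commute X.S hq hq' hi hi' (e1 ▸ hra) (e2 ▸ hlb)
        ((show Commute (t : G) v from congrArg Subtype.val (mem_cen.1 hvt)).pow_pow i i')
    have hdis : Qc ⊓ R0 = ⊥ := by
      rw [← disjoint_iff]
      exact IsPGroup.disjoint_of_ne l r₀ hr₀l.symm _ _ hQcp hR0p
    haveI hcyc : IsCyclic R0 := (CNGroup.Solvable.isCyclic_of_fpf_action hQne hdis hfix).2
      hR0p.isNilpotent (hodd.of_dvd_nat (Subgroup.card_subgroup_dvd_card _))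
    haveI : IsCyclic O := by
      rw [← hR0map]
      exact isCyclic_of_surjective (f.subgroupMap R0) (MonoidHom.subgroupMap_surjective _ _)
    have hcen : Lb ≤ Subgroup.centralizer (O : Set (N ⧸ Qc)) :=
      hLbder.trans (ZJCase.commutator_le_centralizer O)
    rw [eq_bot_iff]
    rintro _ ⟨n, hn, rfl⟩
    refine Subgroup.mem_bot.2 ((QuotientGroup.eq_one_iff n).2 ?_)
    set w : N := (h' : N)
    have hwo : orderOf (w : G) = r₀ := hho
    have hwn : Commute (f w) (f n) :=
      Subgroup.mem_centralizer_iff.1 (hcen ⟨n, hn, rfl⟩) _ (hR0map ▸ ⟨w, h'.2, rfl⟩)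
    -- the coset of `n` has a point fixed by `w`
    let S := {t : N // n⁻¹ * t ∈ Qc}
    have hstable : ∀ g ∈ Subgroup.zpowers w, ∀ t : N, n⁻¹ * t ∈ Qc → n⁻¹ * (g * t * g⁻¹) ∈ Qc := by
      intro g hg t ht
      rw [← QuotientGroup.eq] at ht ⊢
      obtain ⟨i, rfl⟩ := hg
      show f n = f (w ^ i * t * (w ^ i)⁻¹)
      rw [map_mul, map_mul, map_inv, map_zpow, show f t = f n from ht.symm,
        (hwn.zpow_left i).eq, mul_inv_cancel_right]
    letI : MulAction (Subgroup.zpowers w) S :=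
      { smul := fun g t => ⟨(g : N) * t.1 * (g : N)⁻¹, hstable g g.2 t.1 t.2⟩
        one_smul := fun t => Subtype.ext (by show (1 : N) * t.1 * 1⁻¹ = t.1; simp)
        mul_smul := fun g g' t => Subtype.ext (by
          show ((g * g' : Subgroup.zpowers w) : N) * t.1 * ((g * g' : Subgroup.zpowers w) : N)⁻¹ =
            g * ((g' : N) * t.1 * (g' : N)⁻¹) * (g : N)⁻¹
          push_cast
          group) }
    have hS : ¬ r₀ ∣ Nat.card S := by
      rw [Nat.card_congr ((Equiv.mulLeft n⁻¹).subtypeEquiv (fun t => Iff.rfl) : S ≃ Qc)]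
      intro hd
      obtain ⟨i, hi⟩ := IsPGroup.iff_card.1 hQcp
      rw [hi] at hd
      exact hr₀l ((Nat.prime_dvd_prime_iff_eq hr₀ Q.D.hl).1 (hr₀.dvd_of_dvd_pow hd))
    obtain ⟨⟨t, ht⟩, htf⟩ := (RankFour54.isPGroup_zpowers (p := r₀) (x := w) (k := 1)
      (by rw [pow_one, ← Subgroup.orderOf_coe, hwo])).nonempty_fixed_point_of_prime_not_dvd_card S hS
    have htw : Commute (w : G) (t : G) := by
      have h1 := congrArg (fun x : S => ((x.1 : N) : G)) (htf ⟨w, Subgroup.mem_zpowers w⟩)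
      change (w : G) * t * (w : G)⁻¹ = t at h1
      exact mul_inv_eq_iff_eq_mul.1 h1
    by_cases ht1 : t = 1
    · subst ht1
      rw [mul_one] at ht
      exact inv_mem_iff.1 ht
    exfalso
    have htL : (t : G) ∈ (L : Subgroup G) := by
      refine (hLmem t).1 ?_
      rw [show t = n * (n⁻¹ * t) by rw [mul_inv_cancel_left]]
      exact mul_mem hn (Cores.pCore_le_sylow LN ht)
    obtain ⟨q, i, hq, hi, -⟩ := exists_prime_pow (x := (t : G)) fun h1 => ht1 (Subtype.ext h1)
    obtain ⟨j, hj⟩ := exists_orderOf_eq L.2 htL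
    have e2 : q = l := (Nat.prime_dvd_prime_iff_eq hq Q.D.hl).1
      (hq.dvd_of_dvd_pow (hj ▸ hi ▸ orderOf_pow_dvd i))
    exact Split.no_commute X.S hr₀ hq hwo hi hra (e2 ▸ hlb) (htw.pow_right i)
  · -- the odd side: `N` lies in a normaliser that is an `l`-group modulo an abelian group
    haveI := Fact.mk hr₀
    set M := Subgroup.centralizer ({h} : Set G) with hM
    obtain ⟨RG, hRG⟩ := (hR0p.map N.subtype).exists_le_sylow
    have hR0M : ∀ t ∈ R0, (t : G) ∈ M := fun t ht => mem_cen.2 (congrArg Subtype.val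
      ((sylow_comm Q.D hrb hr₀l RG).is_comm.comm ⟨h, hRG ⟨_, h'.2, rfl⟩⟩
        ⟨(t : G), hRG ⟨t, ht, rfl⟩⟩))
    set NM := (Subgroup.normalizer (M : Set G)).subgroupOf N
    have hnorm : Subgroup.normalizer (R0 : Set N) ≤ NM := fun g hg => by
      rw [Subgroup.mem_subgroupOf]
      exact mem_normalizer Q hr₀ hr₀l hrb hho
        (hR0M _ ((Subgroup.mem_normalizer_iff.1 hg (h' : N)).1 h'.2))
    have htop : NM.map f = ⊤ := by
      have h1 := congrArg (Subgroup.map f) (Sylow.normalizer_sup_eq_top P)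
      have hKmap : K.map f = R0.map f :=
        (Subgroup.map_comap_eq_self_of_surjective hfs O).trans hR0map.symm
      rw [Subgroup.map_sup, Subgroup.map_top_of_surjective _ hfs, hKmap] at h1
      rw [eq_top_iff, ← h1]
      refine sup_le (Subgroup.map_mono ?_) (Subgroup.map_mono (Subgroup.le_normalizer.trans hnorm))
      exact hnorm
    set Y := (M.subgroupOf N).map f with hY
    haveI hYn : Y.Normal := ⟨fun y hy g => by
      obtain ⟨s, hs, rfl⟩ := hy
      obtain ⟨g', hg', rfl⟩ := (htop ▸ Subgroup.mem_top g : g ∈ NM.map f)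
      exact ⟨g' * s * g'⁻¹, (Subgroup.mem_normalizer_iff.1 (Subgroup.mem_subgroupOf.1 hg') _).1 hs,
        by simp⟩⟩
    have hsup : Lb ⊔ Y = ⊤ := by
      rw [hLb, ← Sylow.coe_mapSurjective hfs]
      refine sup_eq_top_of_pow (LN.mapSurjective hfs) Y fun x => ?_
      obtain ⟨g', hg', rfl⟩ := (htop ▸ Subgroup.mem_top x : x ∈ NM.map f)
      refine ⟨(Nat.card G).factorization l, ⟨g' ^ l ^ (Nat.card G).factorization l, ?_, map_pow f _ _⟩⟩
      show ((g' ^ l ^ (Nat.card G).factorization l : N) : G) ∈ M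
      rw [SubmonoidClass.coe_pow]
      exact pow_mem_of_mem_normalizer Q hr₀ hr₀l hrb hho (Subgroup.mem_subgroupOf.1 hg')
    have hYtop := eq_top_of_le_commutator Y hLbder hsup
    refine le_bot_iff.1 (hLbder.trans (le_of_eq ?_))
    rw [commutator_def, Subgroup.commutator_eq_bot_iff_le_centralizer]
    rintro _ -
    rename_i x
    rw [Subgroup.mem_centralizer_iff]
    intro y _
    obtain ⟨x', hx', rfl⟩ := (hYtop ▸ Subgroup.mem_top x : x ∈ Y)
    obtain ⟨y', hy', rfl⟩ := (hYtop ▸ Subgroup.mem_top y : y ∈ Y)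
    rw [← map_mul, ← map_mul]
    exact congrArg f (Subtype.ext (commM Q hr₀ hr₀l hrb hho hy' hx').eq)

end Cfsg.Agent.Lib.RankFive54.NormalL
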