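import Mathlib
import Cfsg.Agent.Lib.RankFive54.NormalL
import Cfsg.Agent.Lib.BlocksChars5.GagolaQuot.ClassTwo
import Cfsg.Agent.Lib.PGroups.UniqueInvolution

/-!
# Some other prime has an element of value `b`
-/

set_option autoImplicit false
set_option linter.style.haveILetI false
set_option linter.unusedSectionVars false

namespace Cfsg.Agent.Lib.RankFive54.Final

open Cfsg.Agent.Lib.ClassSizes.Basic
open Cfsg.Agent.Lib.Inv59.RankThree
open Cfsg.Agent.Lib.RankFour54
open Cfsg.Agent.Lib.RankFive54.Odd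
open Cfsg.Agent.Lib.RankFive54.Side
open Cfsg.Agent.Lib.RankFive54.Small
open scoped commutatorElement Pointwise

universe u

/-- In a cyclic group elements of the same prime order generate the same subgroup. -/
theorem mem_zpowers_of_cyclic {X : Type u} [Group X] [Finite X] [IsCyclic X] {x y : X} {p : ℕ}
    (hx : orderOf x = p) (hy : orderOf y ∣ p) : y ∈ Subgroup.zpowers x := by
  obtain ⟨c, hc⟩ := IsCyclic.exists_generator (α := X)
  obtain ⟨i, rfl⟩ := (isOfFinOrder_of_finite c).mem_powers_iff_mem_zpowers.2 (hc x)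
  obtain ⟨j, rfl⟩ := (isOfFinOrder_of_finite c).mem_powers_iff_mem_zpowers.2 (hc y)
  simp only at hx hy ⊢
  exact Primes.pow_mem_zpowers (hy.trans (dvd_of_eq hx.symm))

variable {G : Type u} [Group G] [Finite G] {a b e l k r : ℕ} {h : G}

/-- An `l`-element of the normaliser in an `l`-subgroup normalised by `h` lies in the centraliser. -/
theorem mem_of_normal [Fact l.Prime] (hr : r.Prime) (hrl : r ≠ l) (hho : orderOf h = r)
    {P : Subgroup G} (hP : IsPGroup l P) (hhP : h ∈ Subgroup.normalizer (P : Set G)) {n : G}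
    (hnP : n ∈ P)
    (hn : n ∈ Subgroup.normalizer ((Subgroup.centralizer ({h} : Set G)) : Set G)) :
    n ∈ Subgroup.centralizer ({h} : Set G) := by
  set c := n * h * n⁻¹ * h⁻¹ with hc
  have hcP : c ∈ P := by
    rw [hc, show n * h * n⁻¹ * h⁻¹ = n * (h * n⁻¹ * h⁻¹) by group]
    exact mul_mem hnP ((Subgroup.mem_normalizer_iff.1 hhP _).1 (inv_mem hnP))
  have hcM : Commute h c := mem_cen.1 (by
    rw [hc]
    exact mul_mem ((Subgroup.mem_normalizer_iff.1 hn h).1 (mem_self h)) (inv_mem (mem_self h)))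
  have hcr : c ^ r = 1 := by
    have h1 : (c * h) ^ r = 1 := by
      rw [hc, inv_mul_cancel_right, conj_pow, show h ^ r = 1 by rw [← hho, pow_orderOf_eq_one],
        mul_one, mul_inv_cancel]
    rwa [hcM.symm.mul_pow, show h ^ r = 1 by rw [← hho, pow_orderOf_eq_one], mul_one] at h1
  obtain ⟨j, hj⟩ := exists_orderOf_eq hP hcP
  have hc1 : c = 1 := orderOf_eq_one_iff.1 (Nat.eq_one_of_dvd_coprimes
    (((Nat.coprime_primes (Fact.out : l.Prime) hr).2 hrl.symm).pow_left j) (dvd_of_eq hj)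
    (orderOf_dvd_of_pow_eq_one hcr))
  refine mem_cen.2 ?_
  have h2 : n * h = h * n := by
    have := congrArg (fun t => t * h * n) hc1
    simpa [hc] using this
  exact h2.symm

variable [IsSimpleGroup G] (Q : All G a b e l k) (hG : ¬ IsMulCommutative G)
  (hr : r.Prime) (hrl : r ≠ l) (hrb : r ∣ b) (hho : orderOf h = r)
include Q hr hrl hrb hho

/-- The centraliser of an element of value `b` above `C(h)` lies in `N(C(h))` or has a normal Sylow
`l`-subgroup. -/
theorem cen_or_normal [Fact l.Prime] (hG : ¬ IsMulCommutative G) {v : G} (hv : v ∈ Subgroup.centralizer ({h} : Set G)) (hvb : cn v = b) :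
    Subgroup.centralizer ({v} : Set G) ≤
        Subgroup.normalizer ((Subgroup.centralizer ({h} : Set G)) : Set G) ∨
      ∀ Lv : Sylow l G, (Lv : Subgroup G) ≤ Subgroup.centralizer ({v} : Set G) →
        Subgroup.centralizer ({v} : Set G) ≤ Subgroup.normalizer ((Lv : Subgroup G) : Set G) := by
  classical
  have X := Q.D.X
  set Cv := Subgroup.centralizer ({v} : Set G) with hCv
  set M := Subgroup.centralizer ({h} : Set G) with hM
  have hMCv : M ≤ Cv := fun y hy => mem_cen.2 (commM Q hr hrl hrb hho hv hy).eq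
  have hCcard : Nat.card Cv = b := hvb
  have hodd : Odd (Nat.card Cv) := Nat.not_even_iff_odd.1 fun h' =>
    not_both X Nat.prime_two X.h2 (hCcard ▸ even_iff_two_dvd.1 h')
  by_cases hO : Cfsg.pPrimeCore l Cv = ⊥
  · refine Or.inr fun Lv hLv => ?_
    refine le_trans ?_ (NormalL.sylow_normal Q hG Lv)
    refine BenderOne.LocalTools.le_normalizer_zj hodd (ne_two X Q.D.hl (hlb Q.D)) ⟨hLv, ?_⟩ ?_
    · rw [card_sylow X (hlb Q.D) Lv, hCcard]
    · rw [Balance.coreIn, hO, Subgroup.map_bot]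
  · refine Or.inl fun g hg => ?_
    set O := Cfsg.pPrimeCore l Cv
    haveI : O.Normal := inferInstanceAs (Cfsg.pPrimeCore l Cv).Normal
    set M' := M.subgroupOf Cv
    have hM'card : Nat.card M' = e := by
      rw [Nat.card_congr (Subgroup.subgroupOfEquivOfLe hMCv).toEquiv]
      exact cardM Q hr hrl hrb hho
    have hOM : O ≤ M' := by
      set T := O ⊔ M'
      have h1 : Nat.card T ∣ Nat.card O * e := by
        have e1 := (O.subgroupOf T).card_mul_index
        rw [Nat.card_congr (Subgroup.subgroupOfEquivOfLe (le_sup_left : O ≤ T)).toEquiv] at e1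
        have e2 : O.relIndex T = O.relIndex M' := by
          show O.relIndex (O ⊔ M') = _
          rw [sup_comm, Subgroup.relIndex_sup_right]
        have e3 : O.relIndex M' ∣ e := hM'card ▸ Subgroup.index_dvd_card _
        rw [← e1]
        exact Nat.mul_dvd_mul_left _ (show O.relIndex T ∣ e from e2 ▸ e3)
      have h2 : Nat.card T ∣ e * l ^ k := by
        rw [← Q.D.hk, ← hCcard]; exact Subgroup.card_subgroup_dvd_card T
      have h3 : Nat.card T ∣ e := by
        have h4 := Nat.dvd_gcd (h1.trans (dvd_of_eq (mul_comm _ _))) h2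
        rwa [Nat.gcd_mul_left, Nat.Coprime.gcd_eq_one
          ((Cores.pPrimeCore_coprime (G := Cv) l).pow_right k), mul_one] at h4
      have h5 : M' = T := Subgroup.eq_of_le_of_card_ge le_sup_right
        (hM'card ▸ Nat.le_of_dvd (e_pos X) h3)
      exact h5 ▸ le_sup_left
    haveI : Nontrivial O := (Subgroup.nontrivial_iff_ne_bot _).2 hO
    obtain ⟨q, hq, hqO⟩ := Nat.exists_prime_and_dvd
      (Finite.one_lt_card_iff_nontrivial.2 (inferInstance : Nontrivial O)).ne'
    haveI := Fact.mk hq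
    obtain ⟨o, ho⟩ := exists_prime_orderOf_dvd_card' (G := O) q hqO
    rw [← Subgroup.orderOf_coe, ← Subgroup.orderOf_coe] at ho
    have hql : q ≠ l := fun h' => by
      subst h'
      exact (Cores.not_dvd_card_pPrimeCore (G := Cv) q) hqO
    have hoM : ((o : Cv) : G) ∈ M := hOM o.2
    have hqb : q ∣ b := hCcard ▸ (hqO.trans (Subgroup.card_subgroup_dvd_card O))
    have hC := cen_eq Q hr hrl hrb hho hq hql ho hoM
    have hgo : g * ((o : Cv) : G) * g⁻¹ ∈ M :=
      hOM ((inferInstance : O.Normal).conj_mem _ o.2 ⟨g, hg⟩)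
    have h6 := mem_normalizer Q hq hql hqb ho (n := g) (by rw [hC]; exact hgo)
    rwa [hC] at h6

set_option maxHeartbeats 800000 in
/-- The configuration does not occur. -/
theorem false_of_all [Fact l.Prime] (hG : ¬ IsMulCommutative G) : False := by
  classical
  have X := Q.D.X
  have hl := Q.D.hl
  have hlb := hlb Q.D
  haveI := Fact.mk hr
  haveI : Fact (Nat.Prime 2) := ⟨Nat.prime_two⟩
  set M := Subgroup.centralizer ({h} : Set G) with hM
  set NM := Subgroup.normalizer (M : Set G) with hNM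
  have hMcard := cardM Q hr hrl hrb hho
  have hMNM : M ≤ NM := Subgroup.le_normalizer
  obtain ⟨L0, hL0M, hL0p, hL0c, hL0all⟩ := l_part Q hr hrl hrb hho
  -- an `l`-element of the normaliser outside the centraliser
  obtain ⟨n₀, hn₀N, hn₀M, j₀, hn₀o⟩ : ∃ n ∈ NM, n ∉ M ∧ ∃ j, orderOf n = l ^ j := by
    obtain ⟨R0, -, hRM, hRp, hRc⟩ := exists_full (p := r) (H := M) IsPGroup.of_bot bot_le
    rw [hMcard, fac_ne Q.D hrl, ← fac_eq X hr hrb] at hRc
    set R : Sylow r G := Sylow.ofCard R0 hRc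
    have hhR : h ∈ (R : Subgroup G) := mem_of_full hRp hRM
      (by rw [hRc, hMcard, fac_ne Q.D hrl, fac_eq X hr hrb]) (mem_self h) (k := 1)
      (by rw [hho, pow_one]) (Subgroup.centralizer_le_normalizer _
        (Subgroup.mem_centralizer_iff.2 fun y hy =>
          (commM Q hr hrl hrb hho (hRM hy) (mem_self h)).eq))
    obtain ⟨g, hg, hgn⟩ := exists_normalizer_not_centralizer hG
      (hrb.trans (Dvd.intro_left a X.S.card.symm)) R
    have hgN : g ∈ NM :=
      mem_normalizer Q hr hrl hrb hho (hRM ((Subgroup.mem_normalizer_iff.1 hg h).1 hhR))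
    have hgM : g ∉ M := fun h' => hgn (Subgroup.mem_centralizer_iff.2 fun y hy =>
      (commM Q hr hrl hrb hho (hRM hy) h').eq)
    obtain ⟨t, q, i, hq, hi, hn⟩ : ∃ t q i : ℕ, q.Prime ∧ orderOf (g ^ t) = q ^ i ∧ g ^ t ∉ M := by
      by_contra! hall
      exact hgM (RankFour54.mem_of_parts M hall)
    refine ⟨g ^ t, Subgroup.pow_mem _ hgN t, hn, i, ?_⟩
    by_cases hql : q = l
    · rw [hi, hql]
    exfalso
    refine hn ?_
    rcases Nat.eq_zero_or_pos i with rfl | hi0
    · rw [pow_zero, orderOf_eq_one_iff] at hi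
      rw [hi]; exact one_mem _
    rcases side X hq ((dvd_pow_self q hi0.ne').trans (hi ▸ orderOf_dvd_natCard _)) with hqa | hqb
    · obtain ⟨q', j, hq', hj, -⟩ := exists_prime_pow (x := g ^ t) fun h1 => hn (h1 ▸ one_mem _)
      have e1 : q' = q := (Nat.prime_dvd_prime_iff_eq hq' hq).1
        (hq'.dvd_of_dvd_pow (hi ▸ hj ▸ orderOf_pow_dvd j))
      subst e1
      exact (no_other Q hr hrl hrb hho hq hqa hj
        (Subgroup.pow_mem _ (Subgroup.pow_mem _ hgN t) j)).elim
    · exact mem_of_side Q hr hrl hrb hho hq hql hqb (Subgroup.pow_mem _ hgN t) hi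
  -- a central element of a Sylow subgroup of the normaliser
  set A := L0.subgroupOf NM
  haveI hAn : A.Normal := ⟨fun x hx g => by
    obtain ⟨j, hj⟩ := exists_orderOf_eq hL0p (Subgroup.mem_subgroupOf.1 hx)
    exact Subgroup.mem_subgroupOf.2 (hL0all _
      ((Subgroup.mem_normalizer_iff.1 g.2 _).1 (hL0M (Subgroup.mem_subgroupOf.1 hx)))
      ⟨j, by rw [Subgroup.coe_mul, Subgroup.coe_mul, Subgroup.coe_inv, RankFour54.orderOf_conj, hj]⟩)⟩
  obtain ⟨z, hzo, hzb, hzM⟩ := (structureM Q hr hrl hrb hho).2.2.2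
  have hzA : (⟨z, hMNM hzM⟩ : NM) ∈ A :=
    Subgroup.mem_subgroupOf.2 (hL0all z hzM ⟨1, by rw [hzo, pow_one]⟩)
  have hAp : IsPGroup l A := hL0p.comap_of_injective NM.subtype NM.subtype_injective
  obtain ⟨P, v₀, hv₀A, hv₀1, hPv₀⟩ := Pure.exists_fixed A hAp fun h' => by
    rw [h', Subgroup.mem_bot] at hzA
    exact ne_one_of_prime hl hzo (congrArg Subtype.val hzA)
  obtain ⟨q, i, hq, hi, hi1⟩ := exists_prime_pow (x := ((v₀ : NM) : G))
    fun h' => hv₀1 (Subtype.ext h')
  set y : G := ((v₀ : NM) : G) ^ i with hy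
  have hyL0 : y ∈ L0 := L0.pow_mem hv₀A i
  have hyo : orderOf y = l := by
    obtain ⟨j, hj⟩ := exists_orderOf_eq hL0p hv₀A
    rw [hy, hi]
    exact (Nat.prime_dvd_prime_iff_eq hq hl).1 (hq.dvd_of_dvd_pow (hj ▸ hi ▸ orderOf_pow_dvd i))
  set P' := (P : Subgroup NM).map NM.subtype with hP'
  have hP'y : P' ≤ Subgroup.centralizer ({y} : Set G) := by
    rintro _ ⟨p, hp, rfl⟩
    exact cen_le_pow _ i (mem_cen.2 (congrArg Subtype.val (mem_cen.1 (hPv₀ hp))))
  have hAP : A ≤ (P : Subgroup NM) := fun x hx => by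
    obtain ⟨j, hj⟩ := exists_orderOf_eq hAp hx
    have h1 : IsPGroup l (A ⊔ (P : Subgroup NM) : Subgroup NM) := hAp.to_sup_of_normal_left P.2
    exact (P.3 h1 le_sup_right).le (Subgroup.mem_sup_left hx)
  -- it has an element outside the centraliser
  obtain ⟨n₁, hn₁P, hn₁M⟩ : ∃ n ∈ P', n ∉ M := by
    obtain ⟨P2, hP2⟩ := (RankFour54.isPGroup_zpowers (p := l) (k := j₀) (x := (⟨n₀, hn₀N⟩ : NM))
      (by rw [Subgroup.orderOf_mk, hn₀o])).exists_le_sylow
    obtain ⟨g, hg⟩ := MulAction.exists_smul_eq NM P2 P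
    refine ⟨(g : G) * n₀ * (g : G)⁻¹, ⟨g * ⟨n₀, hn₀N⟩ * g⁻¹, by
      rw [← hg]; exact ⟨_, hP2 (Subgroup.mem_zpowers _), rfl⟩, rfl⟩, fun hc => hn₀M ?_⟩
    exact (Subgroup.mem_normalizer_iff.1 g.2 n₀).2 hc
  have hP'p : IsPGroup l P' := P.2.map _
  have hL0P : L0 ≤ P' := fun x hx => ⟨⟨x, hMNM (hL0M hx)⟩, hAP (Subgroup.mem_subgroupOf.2 hx), rfl⟩
  have hyM : y ∈ M := hL0M hyL0
  have hyb : cn y = b := by
    refine (value_order X hl hyo hlb).resolve_right fun hye => ?_
    have hd : Nat.card P' ∣ l ^ e.factorization l := by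
      have h1 := card_dvd_ordProj hP'p hP'y
      rwa [show Nat.card (Subgroup.centralizer ({y} : Set G)) = e from hye] at h1
    have heq := Subgroup.eq_of_le_of_card_ge hL0P
      (by rw [hL0c]; exact Nat.le_of_dvd (pow_pos hl.pos _) hd)
    exact hn₁M (hL0M (heq.symm ▸ hn₁P))
  set Cy := Subgroup.centralizer ({y} : Set G)
  have hsupP : (P : Subgroup NM) ⊔ M.subgroupOf NM = ⊤ := by
    haveI : (M.subgroupOf NM).Normal := Subgroup.normal_subgroupOf_of_le_normalizer le_rfl
    exact NormalL.sup_eq_top_of_pow P _ fun x => ⟨(Nat.card G).factorization l, by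
      rw [Subgroup.mem_subgroupOf, SubmonoidClass.coe_pow]
      exact pow_mem_of_mem_normalizer Q hr hrl hrb hho x.2⟩
  have hMy : M ≤ Cy := fun t ht => mem_cen.2 (commM Q hr hrl hrb hho hyM ht).eq
  have hNMy : NM ≤ Cy := by
    intro x hx
    have h1 : (P : Subgroup NM) ⊔ M.subgroupOf NM ≤ Cy.subgroupOf NM :=
      sup_le (fun p hp => hP'y ⟨p, hp, rfl⟩) (fun t ht => hMy ht)
    rw [hsupP] at h1
    exact h1 (Subgroup.mem_top ⟨x, hx⟩)
  have hCy : Cy = NM := by
    refine le_antisymm ?_ hNMy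
    rcases cen_or_normal Q hr hrl hrb hho hG hyM hyb with h1 | h1
    · exact h1
    · exfalso
      obtain ⟨Lv, hLv⟩ := exists_sylow_le (p := l) (not_dvd_index_of_eq X hyb hl hlb)
      have hn := h1 Lv hLv
      obtain ⟨j, hj⟩ := exists_orderOf_eq hP'p hn₁P
      have hmem : n₁ ∈ (Lv : Subgroup G) := mem_of_full Lv.2 hLv
        (by rw [card_sylow X hlb Lv, ← hyb]; rfl) (hP'y hn₁P) hj (hn (hP'y hn₁P))
      exact hn₁M (mem_of_normal hr hrl hho Lv.2 (hn (hMy (mem_self h))) hmem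
        (Subgroup.map_subtype_le _ hn₁P))
  have hNMcard : Nat.card NM = b := by rw [← hCy]; exact hyb
  have hLcard : Nat.card P' = l ^ (Nat.card G).factorization l := by
    rw [hP', Subgroup.card_map_of_injective NM.subtype_injective, P.card_eq_multiplicity, hNMcard,
      fac_eq X hl hlb]
  set L : Sylow l G := Sylow.ofCard P' hLcard with hL
  have hLN : (L : Subgroup G) ≤ NM := Subgroup.map_subtype_le _
  -- the centralisers of elements of value `b` in `L0`
  have hL0C : ∀ v ∈ L0, orderOf v = l → cn v = b → Subgroup.centralizer ({v} : Set G) = NM := by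
    intro v hv hvo hvb
    rcases cen_or_normal Q hr hrl hrb hho hG (hL0M hv) hvb with h1 | h1
    · exact Subgroup.eq_of_le_of_card_ge h1 (by rw [hNMcard]; exact le_of_eq hvb.symm)
    exfalso
    obtain ⟨Lv, hLv⟩ := exists_sylow_le (p := l) (not_dvd_index_of_eq X hvb hl hlb)
    have hn := h1 Lv hLv
    have hL0Lv : L0 ≤ (Lv : Subgroup G) := fun t ht => by
      obtain ⟨j, hj⟩ := exists_orderOf_eq hL0p ht
      have htC : t ∈ Subgroup.centralizer ({v} : Set G) :=
        mem_cen.2 (commM Q hr hrl hrb hho (hL0M hv) (hL0M ht)).eq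
      exact mem_of_full Lv.2 hLv (by rw [card_sylow X hlb Lv, ← hvb]; rfl) htC hj (hn htC)
    have hlt : L0 < (Lv : Subgroup G) := lt_of_le_of_ne hL0Lv fun heq => by
      have h2 := card_sylow X hlb Lv
      rw [← heq, hL0c] at h2
      have := Nat.pow_right_injective hl.two_le h2
      have := hel Q.D
      omega
    haveI : Group.IsNilpotent (Lv : Subgroup G) := Lv.2.isNilpotent
    obtain ⟨n, hnn, hnL⟩ := SetLike.exists_of_lt (Group.normalizerCondition_of_isNilpotent
      (G := (Lv : Subgroup G)) (L0.subgroupOf Lv)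
      (lt_top_iff_ne_top.2 fun h' => hlt.not_ge (Subgroup.subgroupOf_eq_top.1 h')))
    have hyn : (n : G)⁻¹ * y * n ∈ L0 :=
      Subgroup.mem_subgroupOf.1 ((Subgroup.mem_normalizer_iff''.1 hnn ⟨y, hL0Lv hyL0⟩).1
        (Subgroup.mem_subgroupOf.2 hyL0))
    have hh1 : (n : G) * h * (n : G)⁻¹ ∈ NM := by
      rw [← hCy]
      refine mem_cen.2 ?_
      have h3 := (commM Q hr hrl hrb hho (hL0M hyn) (mem_self h)).eq
      calc y * ((n : G) * h * (n : G)⁻¹) = n * ((n : G)⁻¹ * y * n * h) * (n : G)⁻¹ := by group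
        _ = n * (h * ((n : G)⁻¹ * y * n)) * (n : G)⁻¹ := by rw [h3]
        _ = _ := by group
    have hh2 : (n : G) * h * (n : G)⁻¹ ∈ M := mem_of_side Q hr hrl hrb hho hr hrl hrb hh1 (i := 1)
      (by rw [RankFour54.orderOf_conj, hho, pow_one])
    have hnM := mem_of_normal hr hrl hho Lv.2
      (hn (mem_cen.2 (commM Q hr hrl hrb hho (hL0M hv) (mem_self h)).eq)) n.2
      (mem_normalizer Q hr hrl hrb hho hh2)
    obtain ⟨j, hj⟩ := exists_orderOf_eq Lv.2 n.2
    exact hnL (Subgroup.mem_subgroupOf.2 (hL0all _ hnM ⟨j, hj⟩))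
  -- an element normalising `L` outside `N(M)`
  obtain ⟨n, hnN, hnM⟩ : ∃ n ∈ Subgroup.normalizer
      (Cfsg.centerThompsonAOf (L : Subgroup G) : Set G), n ∉ NM := by
    by_contra! hall
    have h1 : (L : Subgroup G) ≤ ⁅NM, NM⁆ := (NormalL.le_commutator hG X hlb L).trans
      (Subgroup.commutator_mono hall hall)
    have hodd : Odd (Nat.card NM) := odd_normalizer X
      (fun h' => ne_one_of_prime hr hho (Subgroup.mem_bot.1 (h' ▸ mem_self h)))
      (hMcard ▸ Nat.Coprime.coprime_dvd_left X.heb X.S.cop.symm)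
    haveI : Group.IsSolvable NM := OddOrder.FeitThompson.isSolvable_of_odd_card hodd
    haveI : (M.subgroupOf NM).Normal := Subgroup.normal_subgroupOf_of_le_normalizer le_rfl
    have h2 : (P : Subgroup NM) ≤ commutator NM := fun p hp => by
      have h3 := h1 (⟨p, hp, rfl⟩ : (p : G) ∈ (L : Subgroup G))
      rw [← Subgroup.map_subtype_commutator] at h3
      obtain ⟨p', hp', he⟩ := h3
      rwa [← Subtype.ext he]
    have htop := NormalL.eq_top_of_le_commutator (M.subgroupOf NM) h2 hsupP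
    exact hn₁M ((Subgroup.subgroupOf_eq_top.1 htop) (hLN hn₁P))
  have hnL : n ∈ Subgroup.normalizer ((L : Subgroup G) : Set G) := NormalL.sylow_normal Q hG L hnN
  -- `L0` and its conjugate meet trivially
  have hmeet : ∀ v ∈ L0, n⁻¹ * v * n ∈ L0 → v = 1 := by
    intro v hv hv'
    by_contra hv1
    obtain ⟨q, i, hq, hi, hi1⟩ := exists_prime_pow hv1
    obtain ⟨j, hj⟩ := exists_orderOf_eq hL0p hv
    have e1 : q = l := (Nat.prime_dvd_prime_iff_eq hq hl).1
      (hq.dvd_of_dvd_pow (hj ▸ hi ▸ orderOf_pow_dvd i))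
    set w := v ^ i
    have hw : w ∈ L0 := L0.pow_mem hv i
    have hw' : n⁻¹ * w * n ∈ L0 := by
      have := L0.pow_mem hv' i
      have e2 : (n⁻¹ * v * n) ^ i = n⁻¹ * v ^ i * n := by
        simpa using (conj_pow (a := n⁻¹) (b := v) (i := i))
      rwa [e2] at this
    have hnh : n * h * n⁻¹ ∈ Subgroup.centralizer ({w} : Set G) := by
      refine mem_cen.2 ?_
      have h3 := (commM Q hr hrl hrb hho (hL0M hw') (mem_self h)).eq
      calc w * (n * h * n⁻¹) = n * (n⁻¹ * w * n * h) * n⁻¹ := by group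
        _ = n * (h * (n⁻¹ * w * n)) * n⁻¹ := by rw [h3]
        _ = _ := by group
    have hhM : n * h * n⁻¹ ∈ M := by
      rcases value_order X hl (hi.trans e1) hlb with hwb | hwe
      · rw [hL0C w hw (hi.trans e1) hwb] at hnh
        exact mem_of_side Q hr hrl hrb hho hr hrl hrb hnh (i := 1)
          (by rw [RankFour54.orderOf_conj, hho, pow_one])
      · have e3 : M = Subgroup.centralizer ({w} : Set G) := Subgroup.eq_of_le_of_card_ge
          (fun t ht => mem_cen.2 (commM Q hr hrl hrb hho (hL0M hw) ht).eq)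
          (by rw [hMcard]; exact le_of_eq hwe)
        rwa [e3]
    exact hnM (mem_normalizer Q hr hrl hrb hho hhM)
  -- the quotient by `L0` is cyclic
  have hLall : ∀ t ∈ (L : Subgroup G), t ∈ M → t ∈ L0 := fun t ht htM => by
    obtain ⟨j, hj⟩ := exists_orderOf_eq L.2 ht
    exact hL0all t htM ⟨j, hj⟩
  set Z0 := L0.subgroupOf (L : Subgroup G)
  haveI hZ0n : Z0.Normal := ⟨fun x hx g => Subgroup.mem_subgroupOf.2 (hLall _ (g * x * g⁻¹).2
    ((Subgroup.mem_normalizer_iff.1 (hLN g.2) _).1 (hL0M (Subgroup.mem_subgroupOf.1 hx))))⟩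
  set q₀ := QuotientGroup.mk' Z0 with hq₀
  have hq0 : ∀ t : (L : Subgroup G), q₀ t = 1 ↔ (t : G) ∈ L0 := fun t =>
    (QuotientGroup.eq_one_iff t).trans Subgroup.mem_subgroupOf
  have hcyc : IsCyclic ((L : Subgroup G) ⧸ Z0) := by
    obtain ⟨R, -, hRM, hRp, hRc⟩ := exists_full (p := r) (H := M) IsPGroup.of_bot bot_le
    have hRall : ∀ v ∈ M, (∃ j, orderOf v = r ^ j) → v ∈ R := fun v hv ⟨j, hj⟩ =>
      mem_of_full hRp hRM hRc hv hj (Subgroup.centralizer_le_normalizer _
        (Subgroup.mem_centralizer_iff.2 fun t ht => (commM Q hr hrl hrb hho (hRM ht) hv).eq))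
    have hhR : h ∈ R := hRall h (mem_self h) ⟨1, by rw [hho, pow_one]⟩
    letI : CommGroup R :=
      { (inferInstance : Group R) with
        mul_comm := fun x y => Subtype.ext (commM Q hr hrl hrb hho (hRM x.2) (hRM y.2)).eq }
    have hnR : ∀ g ∈ NM, g ∈ Subgroup.normalizer (R : Set G) := by
      have key : ∀ g ∈ NM, ∀ t ∈ R, g * t * g⁻¹ ∈ R := fun g hg t ht => by
        obtain ⟨j, hj⟩ := exists_orderOf_eq hRp ht
        exact hRall _ ((Subgroup.mem_normalizer_iff.1 hg t).1 (hRM ht))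
          ⟨j, by rw [RankFour54.orderOf_conj, hj]⟩
      intro g hg
      rw [Subgroup.mem_normalizer_iff]
      exact fun t => ⟨key g hg t, fun ht => by simpa [mul_assoc] using key g⁻¹ (inv_mem hg) _ ht⟩
    set ρ : (L : Subgroup G) →* MulAut R :=
      (Subgroup.normalizerMonoidHom R).comp (Subgroup.inclusion fun g hg => hnR g (hLN hg))
    have hρ : ∀ (t : (L : Subgroup G)) (v : R), ((ρ t v : R) : G) = t * v * (t : G)⁻¹ :=
      fun t v => rfl
    have hfix : ∀ (t : (L : Subgroup G)) (v : R), v ≠ 1 → ρ t v = v → (t : G) ∈ L0 := by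
      intro t v hv hfv
      have hc : Commute (t : G) (v : G) :=
        mul_inv_eq_iff_eq_mul.1 ((hρ t v).symm.trans (congrArg Subtype.val hfv))
      obtain ⟨q, i, hq, hi, -⟩ := exists_prime_pow (x := (v : G)) fun h' => hv (Subtype.ext h')
      obtain ⟨j, hj⟩ := exists_orderOf_eq hRp v.2
      have e1 := (Nat.prime_dvd_prime_iff_eq hq hr).1
        (hq.dvd_of_dvd_pow (hj ▸ hi ▸ orderOf_pow_dvd i))
      refine hLall _ t.2 ?_
      rw [hM, ← cen_eq Q hr hrl hrb hho hq (e1 ▸ hrl) hi (M.pow_mem (hRM v.2) i)]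
      exact mem_cen.2 (hc.pow_right i).symm.eq
    have hker : Z0 ≤ ρ.ker := fun t ht => MonoidHom.mem_ker.2 (MulEquiv.ext fun v => Subtype.ext (by
      rw [hρ]
      exact mul_inv_eq_iff_eq_mul.2
        (commM Q hr hrl hrb hho (hL0M (Subgroup.mem_subgroupOf.1 ht)) (hRM v.2)).eq))
    set ρb := QuotientGroup.lift Z0 ρ hker
    have hfixb : ∀ (t : (L : Subgroup G) ⧸ Z0) (v : R), v ≠ 1 → ρb t v = v → t = 1 := by
      intro t v hv hfv
      obtain ⟨t, rfl⟩ := QuotientGroup.mk'_surjective Z0 t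
      exact (hq0 t).2 (hfix t v hv hfv)
    have hnt : Nontrivial R := ⟨⟨⟨h, hhR⟩, 1, fun h' => ne_one_of_prime hr hho
      (congrArg Subtype.val h')⟩⟩
    have hab : ∀ x w : (L : Subgroup G) ⧸ Z0, Commute x w → orderOf x = l → orderOf w ∣ l →
        w ∈ Subgroup.zpowers x := by
      intro x w hxw hxo hwo
      set H := Subgroup.closure ({x, w} : Set ((L : Subgroup G) ⧸ Z0))
      have hHc : ∀ a b : H, a * b = b * a := by
        have : IsMulCommutative H := Subgroup.isMulCommutative_closure fun a ha b hb => by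
          rcases ha with rfl | rfl <;> rcases hb with rfl | rfl
          exacts [rfl, hxw.eq, hxw.symm.eq, rfl]
        exact this.is_comm.comm
      letI : MulDistribMulAction H R := MulDistribMulAction.compHom R (ρb.comp H.subtype)
      haveI : IsCyclic H := BlocksChars5.GagolaQuot.isCyclic_of_fixedPointFree hHc fun t v hv hfv =>
        Subtype.ext (hfixb (t : (L : Subgroup G) ⧸ Z0) v hv hfv)
      have hwH : w ∈ H := Subgroup.subset_closure (Or.inr rfl)
      obtain ⟨i, hi⟩ := mem_zpowers_of_cyclic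
        (x := (⟨x, Subgroup.subset_closure (Or.inl rfl)⟩ : H)) (y := ⟨w, hwH⟩) (p := l)
        (by rw [Subgroup.orderOf_mk, hxo]) (by rw [Subgroup.orderOf_mk]; exact hwo)
      exact ⟨i, by simpa using congrArg Subtype.val hi⟩
    have hLZp : IsPGroup l ((L : Subgroup G) ⧸ Z0) := L.2.to_quotient Z0
    refine PGroups.isCyclic_of_unique_prime (ne_two X hl hlb) hLZp fun x w hxo hwo => ?_
    obtain ⟨c, -, hco, hcT⟩ := exists_central_invariant
      (hLZp.to_subgroup (⊤ : Subgroup ((L : Subgroup G) ⧸ Z0))) fun h' => ne_one_of_prime hl hxo (by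
        have := Subgroup.mem_top x
        rwa [h', Subgroup.mem_bot] at this)
    have h1 := hab c x (mem_cen.1 (hcT (Subgroup.mem_top x))) hco (dvd_of_eq hxo)
    have h2 := hab c w (mem_cen.1 (hcT (Subgroup.mem_top w))) hco (dvd_of_eq hwo)
    have h3 : Subgroup.zpowers x = Subgroup.zpowers c := Subgroup.eq_of_le_of_card_ge
      (Subgroup.zpowers_le.2 h1) (by rw [Nat.card_zpowers, Nat.card_zpowers, hxo, hco])
    rwa [h3]
  -- so `L` is abelian of rank two
  set φ : (L : Subgroup G) →* (L : Subgroup G) :=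
    { toFun := fun t => ⟨n⁻¹ * t * n, (Subgroup.mem_normalizer_iff''.1 hnL t).1 t.2⟩
      map_one' := Subtype.ext (by simp)
      map_mul' := fun s t => Subtype.ext (by simp [mul_assoc]) }
  have hinj : ∀ t : (L : Subgroup G), q₀ t = 1 → q₀ (φ t) = 1 → t = 1 := fun t h1 h2 =>
    Subtype.ext (hmeet _ ((hq0 t).1 h1) ((hq0 _).1 h2))
  have hcommQ : ∀ x w : (L : Subgroup G) ⧸ Z0, Commute x w := fun x w => by
    obtain ⟨c, hc⟩ := IsCyclic.exists_generator (α := (L : Subgroup G) ⧸ Z0)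
    obtain ⟨i, rfl⟩ := hc x
    obtain ⟨j, rfl⟩ := hc w
    exact (Commute.refl c).zpow_zpow i j
  have hLc : ∀ s t : (L : Subgroup G), s * t = t * s := fun s t => by
    have h1 : s * t * s⁻¹ * t⁻¹ = 1 := by
      refine hinj _ ?_ ?_
      · simp only [map_mul, map_inv, (hcommQ (q₀ s) (q₀ t)).eq, mul_inv_cancel_right, mul_inv_cancel]
      · simp only [map_mul, map_inv, (hcommQ (q₀ (φ s)) (q₀ (φ t))).eq, mul_inv_cancel_right,
          mul_inv_cancel]
    exact mul_inv_eq_iff_eq_mul.1 (mul_inv_eq_one.1 h1)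
  haveI hLab : IsMulCommutative (L : Subgroup G) := ⟨⟨hLc⟩⟩
  set ω₁ : (L : Subgroup G) := ⟨y, hL0P hyL0⟩
  have hω₁o : orderOf ω₁ = l := by rw [← Subgroup.orderOf_coe]; exact hyo
  have hω₁l : ω₁ ^ l = 1 := orderOf_dvd_iff_pow_eq_one.1 hω₁o.dvd
  set ω₂ : (L : Subgroup G) := ⟨n * y * n⁻¹, (Subgroup.mem_normalizer_iff.1 hnL y).1 (hL0P hyL0)⟩
  have hω₂o : orderOf ω₂ = l := by
    rw [← Subgroup.orderOf_coe]; show orderOf (n * y * n⁻¹) = l; rw [RankFour54.orderOf_conj, hyo]
  have hω₂l : ω₂ ^ l = 1 := orderOf_dvd_iff_pow_eq_one.1 hω₂o.dvd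
  have hqω₁ : q₀ ω₁ = 1 := (hq0 _).2 hyL0
  have hφω₂ : q₀ (φ ω₂) = 1 := by
    refine (hq0 _).2 ?_
    show n⁻¹ * (n * y * n⁻¹) * n ∈ L0
    rwa [show n⁻¹ * (n * y * n⁻¹) * n = y by group]
  have hqω₂ : orderOf (q₀ ω₂) = l := by
    refine ((Nat.dvd_prime hl).1 ((orderOf_map_dvd q₀ ω₂).trans hω₂o.dvd)).resolve_left fun h' => ?_
    have h2 := hinj ω₂ (orderOf_eq_one_iff.1 h') hφω₂
    rw [h2, orderOf_one] at hω₂o
    exact hl.ne_one hω₂o.symm
  have hφω₁ : orderOf (q₀ (φ ω₁)) = l := by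
    refine ((Nat.dvd_prime hl).1 ?_).resolve_left fun h' => ?_
    · exact (orderOf_map_dvd q₀ _).trans ((orderOf_map_dvd φ ω₁).trans hω₁o.dvd)
    have h2 := hinj ω₁ hqω₁ (orderOf_eq_one_iff.1 h')
    rw [h2, orderOf_one] at hω₁o
    exact hl.ne_one hω₁o.symm
  have hline : ∀ t : (L : Subgroup G), t ^ l = 1 → q₀ t = 1 → t ∈ Subgroup.zpowers ω₁ := by
    intro t ht hqt
    obtain ⟨i, hi⟩ := mem_zpowers_of_cyclic hφω₁ (y := q₀ (φ t))
      (orderOf_dvd_of_pow_eq_one (by rw [← map_pow, ← map_pow, ht, map_one, map_one]))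
    refine ⟨i, (inv_mul_eq_one.1 (hinj ((ω₁ ^ i)⁻¹ * t) ?_ ?_))⟩
    · rw [map_mul, map_inv, map_zpow, hqω₁, hqt]; simp
    · rw [map_mul φ, map_inv φ, map_zpow φ, map_mul q₀, map_inv q₀, map_zpow q₀,
        show q₀ (φ ω₁) ^ i = q₀ (φ t) from hi, inv_mul_cancel]
  have hplane : ∀ t : (L : Subgroup G), t ^ l = 1 → ∃ i j : ℤ, ω₁ ^ i * ω₂ ^ j = t := by
    intro t ht
    obtain ⟨j, hj⟩ := mem_zpowers_of_cyclic hqω₂ (y := q₀ t)
      (orderOf_dvd_of_pow_eq_one (by rw [← map_pow, ht, map_one]))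
    obtain ⟨i, hi⟩ := hline (t * (ω₂ ^ j)⁻¹) (by
      rw [(show Commute t (ω₂ ^ j)⁻¹ from hLc _ _).mul_pow, ht, one_mul, inv_pow, inv_eq_one,
        ← zpow_natCast, ← zpow_mul, mul_comm, zpow_mul, zpow_natCast, hω₂l,
        one_zpow]) (by rw [map_mul, map_inv, map_zpow, show q₀ ω₂ ^ j = q₀ t from hj, mul_inv_cancel])
    exact ⟨i, j, by rw [show ω₁ ^ i = t * (ω₂ ^ j)⁻¹ from hi, inv_mul_cancel_right]⟩
  have hindep : ∀ i j : ℤ, ω₁ ^ i * ω₂ ^ j = 1 → (i : ZMod l) = 0 ∧ (j : ZMod l) = 0 := by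
    intro i j hij
    have h1 : q₀ ω₂ ^ j = 1 := by
      have := congrArg q₀ hij
      rwa [map_mul, map_zpow, map_zpow, hqω₁, one_zpow, one_mul, map_one] at this
    rw [← orderOf_dvd_iff_zpow_eq_one, hqω₂] at h1
    have h2 : ω₂ ^ j = 1 := by rwa [← orderOf_dvd_iff_zpow_eq_one, hω₂o]
    rw [h2, mul_one, ← orderOf_dvd_iff_zpow_eq_one, hω₁o] at hij
    exact ⟨(ZMod.intCast_zmod_eq_zero_iff_dvd i l).2 hij,
      (ZMod.intCast_zmod_eq_zero_iff_dvd j l).2 h1⟩
  -- every element of order `l` of `L` is conjugate into the first line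
  have hfuse : ∀ t : (L : Subgroup G), orderOf t = l →
      ∃ g ∈ Subgroup.normalizer ((L : Subgroup G) : Set G),
        g * (t : G) * g⁻¹ ∈ Subgroup.zpowers y := by
    intro t ht
    have hto : orderOf (t : G) = l := by rw [Subgroup.orderOf_coe, ht]
    have htb : cn (t : G) = b := central_value X hlb (hel Q.D) (ne_one_of_prime hl hto) t.2
      (fun s hs => mem_cen.2 (congrArg Subtype.val (hLc t ⟨s, hs⟩)))
    obtain ⟨s, hs⟩ := exists_prime_orderOf_dvd_card'
      (G := Subgroup.centralizer ({(t : G)} : Set G)) r (show r ∣ cn (t : G) by rw [htb]; exact hrb)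
    rw [← Subgroup.orderOf_coe] at hs
    obtain ⟨g, hg⟩ := exists_conj_mem hr (r_full Q hr hrl hrb hMcard) hs
    have hgt : g * (t : G) * g⁻¹ ∈ M := by
      rw [hM, ← cen_eq Q hr hrl hrb hho hr hrl (by rw [RankFour54.orderOf_conj, hs]) hg]
      refine mem_cen.2 ?_
      have h3 := mem_cen.1 s.2
      calc g * (s : G) * g⁻¹ * (g * t * g⁻¹) = g * ((s : G) * t) * g⁻¹ := by group
        _ = g * (t * (s : G)) * g⁻¹ := by rw [h3]
        _ = _ := by group
    have hgL0 := hL0all _ hgt ⟨1, by rw [RankFour54.orderOf_conj, hto, pow_one]⟩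
    obtain ⟨g', hg', he⟩ := Inv59.EightAuto.burnside L hLab t.2 (hL0P hgL0)
    refine ⟨g', hg', ?_⟩
    rw [he]
    obtain ⟨i, hi⟩ := hline ⟨_, hL0P hgL0⟩ (Subtype.ext (by
      show (g * (t : G) * g⁻¹) ^ l = 1
      exact orderOf_dvd_iff_pow_eq_one.1 (by rw [RankFour54.orderOf_conj, hto]))) ((hq0 _).2 hgL0)
    exact ⟨i, by simpa using congrArg Subtype.val hi⟩
  -- counting lines
  set NL := Subgroup.normalizer ((L : Subgroup G) : Set G)
  letI : MulAction NL (Subgroup G) := MulAction.compHom _ (MulAut.conj.comp NL.subtype)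
  have hsmul : ∀ (g : NL) (t : G), g • Subgroup.zpowers t =
      Subgroup.zpowers ((g : G) * t * (g : G)⁻¹) := fun g t => by
    show (Subgroup.zpowers t).map (MulAut.conj (g : G)).toMonoidHom = _
    rw [MonoidHom.map_zpowers]
    rfl
  have hlp : ∀ t : (L : Subgroup G), orderOf t = l → ∃ g : NL, g • Subgroup.zpowers y = Subgroup.zpowers (t : G) := by
    intro t ht
    obtain ⟨g, hg, hgt⟩ := hfuse t ht
    refine ⟨⟨g, hg⟩⁻¹, ?_⟩
    have h1 : Subgroup.zpowers (g * (t : G) * g⁻¹) = Subgroup.zpowers y :=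
      Subgroup.eq_of_le_of_card_ge (Subgroup.zpowers_le.2 hgt) (by
        rw [Nat.card_zpowers, Nat.card_zpowers, RankFour54.orderOf_conj, hyo, Subgroup.orderOf_coe, ht])
    rw [← h1, ← hsmul ⟨g, hg⟩ (t : G), inv_smul_smul]
  set S : Option (ZMod l) → Subgroup G := fun o => o.elim (Subgroup.zpowers (ω₂ : G))
    fun j => Subgroup.zpowers ((ω₁ * ω₂ ^ (j.val : ℤ) : (L : Subgroup G)) : G)
  haveI : NeZero l := ⟨hl.ne_zero⟩
  have hordj : ∀ j : ℤ, orderOf (ω₁ * ω₂ ^ j) = l := fun j => orderOf_eq_prime (by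
      rw [(show Commute ω₁ (ω₂ ^ j) from hLc _ _).mul_pow, ← zpow_natCast (ω₂ ^ j), ← zpow_mul,
        mul_comm j, zpow_mul, zpow_natCast, hω₂l, one_zpow, hω₁l, one_mul]) fun h' => by
      have := (hindep 1 j (by rwa [zpow_one])).1
      simp at this
  have hSinj : Function.Injective S := by
    have hsub : ∀ t s : (L : Subgroup G), Subgroup.zpowers (t : G) = Subgroup.zpowers (s : G) →
        ∃ c : ℤ, t = s ^ c := fun t s he => by
      obtain ⟨c, hc⟩ := (he ▸ Subgroup.mem_zpowers (t : G) : (t : G) ∈ Subgroup.zpowers (s : G))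
      exact ⟨c, Subtype.ext (by simpa using hc.symm)⟩
    have hnone : ∀ j : ZMod l, S none ≠ S (some j) := by
      intro j he
      obtain ⟨c, hc⟩ := hsub _ _ he
      rw [(show Commute ω₁ (ω₂ ^ (j.val : ℤ)) from hLc _ _).mul_zpow, ← zpow_mul] at hc
      obtain ⟨h1, h2⟩ := hindep c ((j.val : ℤ) * c - 1) (by
        rw [zpow_sub_one, ← mul_assoc, ← hc, mul_inv_cancel])
      push_cast at h2
      rw [h1, mul_zero, zero_sub, neg_eq_zero] at h2
      exact one_ne_zero h2
    rintro (_ | j) (_ | j') he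
    · rfl
    · exact absurd he (hnone j')
    · exact absurd he.symm (hnone j)
    · obtain ⟨c, hc⟩ := hsub _ _ he
      rw [(show Commute ω₁ (ω₂ ^ (j'.val : ℤ)) from hLc _ _).mul_zpow, ← zpow_mul] at hc
      obtain ⟨h1, h2⟩ := hindep (c - 1) ((j'.val : ℤ) * c - j.val) (by
        rw [zpow_sub, zpow_sub, zpow_one]
        calc ω₁ ^ c * ω₁⁻¹ * (ω₂ ^ ((j'.val : ℤ) * c) * (ω₂ ^ (j.val : ℤ))⁻¹)
            = ω₁ ^ c * ω₂ ^ ((j'.val : ℤ) * c) * (ω₁ * ω₂ ^ (j.val : ℤ))⁻¹ := by
              rw [mul_inv_rev, mul_assoc, mul_assoc, ← mul_assoc ω₁⁻¹, hLc ω₁⁻¹, mul_assoc,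
                hLc ω₁⁻¹]
          _ = 1 := by rw [← hc, mul_inv_cancel])
      push_cast at h1 h2
      rw [sub_eq_zero] at h1
      rw [h1, mul_one, ZMod.natCast_zmod_val, ZMod.natCast_zmod_val, sub_eq_zero] at h2
      exact congrArg some h2.symm
  have horbit : MulAction.orbit NL (Subgroup.zpowers y) = Set.range S := by
    ext T
    constructor
    · rintro ⟨g, rfl⟩
      show g • Subgroup.zpowers y ∈ Set.range S
      rw [hsmul]
      have hgL : (g : G) * y * (g : G)⁻¹ ∈ (L : Subgroup G) :=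
        (Subgroup.mem_normalizer_iff.1 g.2 y).1 (hL0P hyL0)
      set t : (L : Subgroup G) := ⟨_, hgL⟩
      have hto : orderOf t = l := by rw [Subgroup.orderOf_mk, RankFour54.orderOf_conj, hyo]
      obtain ⟨i, j, hij⟩ := hplane t (orderOf_dvd_iff_pow_eq_one.1 hto.dvd)
      have heq : ∀ s : (L : Subgroup G), orderOf s = l → t ∈ Subgroup.zpowers s →
          Subgroup.zpowers (s : G) = Subgroup.zpowers (t : G) := fun s hs hts => by
        refine (Subgroup.eq_of_le_of_card_ge (Subgroup.zpowers_le.2 ?_) ?_).symm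
        · obtain ⟨c, hc⟩ := hts
          exact ⟨c, by simpa using congrArg Subtype.val hc⟩
        · rw [Nat.card_zpowers, Nat.card_zpowers, Subgroup.orderOf_coe, Subgroup.orderOf_coe, hs, hto]
      by_cases hi : (i : ZMod l) = 0
      · refine ⟨none, heq ω₂ hω₂o ⟨j, ?_⟩⟩
        show ω₂ ^ j = t
        rw [← hij, (orderOf_dvd_iff_zpow_eq_one (x := ω₁) (i := i)).1 (by rw [hω₁o]; exact (ZMod.intCast_zmod_eq_zero_iff_dvd i l).1 hi),
          one_mul]
      · refine ⟨some ((i : ZMod l)⁻¹ * j), heq _ (hordj _) ⟨i, ?_⟩⟩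
        show (ω₁ * ω₂ ^ _) ^ i = t
        rw [(show Commute ω₁ (ω₂ ^ ((((i : ZMod l)⁻¹ * j).val : ℕ) : ℤ)) from hLc _ _).mul_zpow,
          ← zpow_mul, ← hij, mul_right_inj]
        refine orderOf_dvd_sub_iff_zpow_eq_zpow.1 ?_
        rw [hω₂o, ← ZMod.intCast_zmod_eq_zero_iff_dvd]
        push_cast
        haveI : Fact l.Prime := ⟨hl⟩
        rw [ZMod.natCast_zmod_val, mul_comm _ (i : ZMod l), ← mul_assoc, mul_inv_cancel₀ hi, one_mul,
          sub_self]
    · rintro ⟨o, rfl⟩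
      rcases o with _ | j
      · exact hlp ω₂ hω₂o
      · exact hlp _ (hordj _)
  have hcount : (MulAction.orbit NL (Subgroup.zpowers y)).ncard = l + 1 := by
    rw [horbit, Set.ncard_range_of_injective hSinj, Nat.card_eq_fintype_card, Fintype.card_option,
      ZMod.card]
  have hdvd : l + 1 ∣ Nat.card NL := by
    rw [← hcount, ← MulAction.index_stabilizer]
    exact Subgroup.index_dvd_card _
  have hoddNL : Odd (Nat.card NL) := odd_normalizer X
    (fun h' => ne_one_of_prime hl hyo (Subgroup.mem_bot.1 (h' ▸ hL0P hyL0)))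
    (coprime_pgroup X hlb L.2)
  exact (Nat.not_even_iff_odd.2 hoddNL) (even_iff_two_dvd.2
    ((even_iff_two_dvd.1 ((hl.odd_of_ne_two (ne_two X hl hlb)).add_one)).trans hdvd))

end Cfsg.Agent.Lib.RankFive54.Final
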