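import Mathlib
import Cfsg.Agent.Lib.RankFive54.Split
import Cfsg.Agent.S0042

/-!
# Four values on one side

The centraliser of an isolated element controls the configuration in which one value dominates
two others on its side.
-/

set_option autoImplicit false
set_option linter.style.haveILetI false
set_option linter.unusedSectionVars false

namespace Cfsg.Agent.Lib.RankFive54.Four

open Cfsg.Agent.Lib.ClassSizes.Basic
open Cfsg.Agent.Lib.Inv59.RankThree
open Cfsg.Agent.Lib.RankFour54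
open Cfsg.Agent.Lib.RankFive54.Split

universe u

variable {G : Type u} [Group G] [Finite G]

/-- Elements of value `a` and prime order commute with one member of each class of such. -/
def Iso (G : Type u) [Group G] (a : ℕ) : Prop :=
  ∀ x d : G, (orderOf x).Prime → (orderOf d).Prime → cn x = a → cn d = a →
    ∀ v w : G, Commute x (v * d * v⁻¹) → Commute x (w * d * w⁻¹) → v * d * v⁻¹ = w * d * w⁻¹

theorem card_inf_conj (h x k : G) (hk : h ∈ Subgroup.centralizer ({k} : Set G)) :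
    Nat.card (Subgroup.centralizer ({h * x * h⁻¹} : Set G) ⊓ Subgroup.centralizer ({k} : Set G) :
        Subgroup G) =
      Nat.card (Subgroup.centralizer ({x} : Set G) ⊓ Subgroup.centralizer ({k} : Set G) :
        Subgroup G) := by
  have hconj : h * k * h⁻¹ = k := by rw [← mem_cen.1 hk, mul_inv_cancel_right]
  conv_lhs => rw [← hconj, cen_conj, cen_conj, ← Subgroup.map_inf _ _ _ (MulAut.conj h).injective]
  exact Subgroup.card_map_of_injective (MulAut.conj h).injective

variable {a b : ℕ} (S : IsSplit G a b) (hiso : Iso G a)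
include S hiso

theorem eq_of_commute {x z : G} (hx : (orderOf x).Prime) (hz : (orderOf z).Prime) (hxa : cn x = a)
    (hza : cn z = a) (hc : Commute x z) :
    Subgroup.centralizer ({z} : Set G) = Subgroup.centralizer ({x} : Set G) := by
  refine (eq_of_le_cn (fun h hh => mem_cen_comm.1 ?_) (hxa.trans hza.symm)).symm
  have hh' : Commute x h := mem_cen.1 hh
  have e := hiso x z hx hz hxa hza h 1 (by
    show x * (h * z * h⁻¹) = h * z * h⁻¹ * x
    calc x * (h * z * h⁻¹) = (x * h) * z * h⁻¹ := by group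
      _ = h * (x * z) * h⁻¹ := by rw [hh'.eq]; group
      _ = h * z * (x * h⁻¹) := by rw [hc.eq]; group
      _ = h * z * (h⁻¹ * x) := by rw [hh'.inv_right.eq]
      _ = h * z * h⁻¹ * x := by group) (by simpa using hc)
  rw [one_mul, inv_one, mul_one, mul_inv_eq_iff_eq_mul] at e
  exact mem_cen.2 e

theorem eq_of_conj {x g : G} (hx : (orderOf x).Prime) (hxa : cn x = a)
    (hc : Commute x (g * x * g⁻¹)) : g * x * g⁻¹ = x := by
  have := hiso x x hx hx hxa hxa g 1 hc (by simp)
  simpa using this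

/-- A Sylow subgroup of a group containing an isolated element lies in its centraliser. -/
theorem sylow_le {x : G} {p : ℕ} [hp : Fact p.Prime] (hxo : orderOf x = p) (hxa : cn x = a)
    {P : Subgroup G} (hP : IsPGroup p P) (hxP : x ∈ P) : P ≤ Subgroup.centralizer ({x} : Set G) := by
  have hpa : p ∣ a := hxo ▸ hxa ▸ orderOf_dvd_cn x
  have hpi : ¬ p ∣ (Subgroup.centralizer ({x} : Set G)).index := by
    rw [Split.index_eq S hxa]
    exact fun h => hp.out.ne_one (Nat.eq_one_of_dvd_coprimes S.cop hpa h)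
  obtain ⟨P0, hP0⟩ := exists_sylow_le hpi
  obtain ⟨P', hP'⟩ := hP.exists_le_sylow
  obtain ⟨h, hh⟩ := MulAction.exists_smul_eq G P0 P'
  have hle : (P' : Subgroup G) ≤ Subgroup.centralizer ({h * x * h⁻¹} : Set G) := by
    rw [← hh, cen_conj]
    exact Subgroup.map_mono hP0
  have e := eq_of_conj S hiso (g := h) (hxo ▸ hp.out) hxa (mem_cen.1 (hle (hP' hxP))).symm
  rw [e] at hle
  exact hP'.trans hle

theorem fac_le_inter {x k : G} {p : ℕ} (hp : p.Prime) (hxo : orderOf x = p) (hxa : cn x = a)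
    (hc : Commute x k) :
    (cn k).factorization p ≤ (Nat.card (Subgroup.centralizer ({x} : Set G) ⊓
      Subgroup.centralizer ({k} : Set G) : Subgroup G)).factorization p := by
  haveI := Fact.mk hp
  obtain ⟨P, hxP, hPk, hPp, hPcard⟩ := exists_full (p := p)
    (RankFour54.isPGroup_zpowers (k := 1) (by rw [hxo, pow_one]))
    (Subgroup.zpowers_le.2 (mem_cen.2 hc.symm.eq : x ∈ Subgroup.centralizer ({k} : Set G)))
  exact fac_le_of_pow_dvd hp Nat.card_pos.ne' (hPcard ▸ Subgroup.card_dvd_of_le (le_inf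
    (sylow_le S hiso hxo hxa hPp (hxP (Subgroup.mem_zpowers x))) hPk))

/-- Conjugates of an isolated element in a centraliser are conjugate in it. -/
theorem conj_in {x k g : G} {p : ℕ} (hp : p.Prime) (hxo : orderOf x = p) (hxa : cn x = a)
    (hc : Commute x k) (hc' : Commute (g * x * g⁻¹) k) :
    ∃ h ∈ Subgroup.centralizer ({k} : Set G), h * x * h⁻¹ = g * x * g⁻¹ := by
  haveI := Fact.mk hp
  set K := Subgroup.centralizer ({k} : Set G) with hK
  have hxK : x ∈ K := mem_cen.2 hc.symm.eq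
  obtain ⟨P, hP⟩ := (RankFour54.isPGroup_zpowers (k := 1) (x := (⟨x, hxK⟩ : K)) (p := p)
    (by rw [Subgroup.orderOf_mk, hxo, pow_one])).exists_le_sylow
  have hdvd : ¬ p ∣ (P : Subgroup K).index := P.not_dvd_index
  obtain ⟨h, hh⟩ := exists_conj_mem hp hdvd (y := (⟨g * x * g⁻¹, mem_cen.2 hc'.symm.eq⟩ : K))
    (by rw [Subgroup.orderOf_mk, RankFour54.orderOf_conj, hxo])
  have hle := sylow_le S hiso hxo hxa (P := (P : Subgroup K).map K.subtype) (P.2.map _)
    ⟨⟨x, hxK⟩, hP (Subgroup.mem_zpowers _), rfl⟩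
  have hcc := mem_cen.1 (hle ⟨_, hh, rfl⟩)
  simp only [Subgroup.coe_subtype, Subgroup.coe_mul, Subgroup.coe_inv] at hcc
  have e := eq_of_conj S hiso (g := (h : G) * g) (hxo ▸ hp) hxa (by
    show x * ((h : G) * g * x * ((h : G) * g)⁻¹) = (h : G) * g * x * ((h : G) * g)⁻¹ * x
    simpa [mul_assoc] using hcc)
  refine ⟨(h : G)⁻¹, K.inv_mem h.2, ?_⟩
  conv_lhs => rw [← e]
  group

/-- An element commuting with an isolated element whose centraliser is not inside that of it. -/
structure TwoPoint (x k : G) (p l : ℕ) : Prop where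
  hp : p.Prime
  hl : l.Prime
  hxo : orderOf x = p
  hko : orderOf k = l
  hlp : l ≠ p
  hxa : cn x = a
  hc : Commute x k
  hnle : ¬ Subgroup.centralizer ({k} : Set G) ≤ Subgroup.centralizer ({x} : Set G)

theorem TwoPoint.facts {x k : G} {p l : ℕ} (T : TwoPoint (a := a) x k p l) :
    Subgroup.centralizer ({x * k} : Set G) =
        Subgroup.centralizer ({x} : Set G) ⊓ Subgroup.centralizer ({k} : Set G) ∧
      x * k ≠ 1 ∧ cn (x * k) ∣ cn k ∧ cn (x * k) ≠ cn k ∧ cn (x * k) ≠ a ∧ cn k ∣ a ∧ cn k ≠ a ∧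
      (cn k).factorization p ≤ (cn (x * k)).factorization p := by
  obtain ⟨hp, hl, hxo, hko, hlp, hxa, hc, hnle⟩ := T
  obtain ⟨hC, hne, -, hdk, -, -⟩ := pair hc (coprime_orders hp hl hxo hko hlp.symm)
  have hneq : cn (x * k) ≠ cn k := fun e => hnle (by
    rw [← eq_of_le_cn (hC.le.trans inf_le_right) e, hC]; exact inf_le_left)
  have hla : l ∣ a := by
    rw [← hko, ← hxa]
    exact orderOf_dvd_cn' (mem_cen.2 hc.eq)
  have hka : cn k ∣ a := cn_dvd_of_order S hl hko hla
  refine ⟨hC, hne (ne_one_of_prime hp hxo), hdk, hneq,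
    fun e => hneq (e.trans (Nat.dvd_antisymm (e ▸ hdk) hka)), hka,
    fun e => hnle (eq_of_commute S hiso (hxo ▸ hp) (hko ▸ hl) hxa e hc).le, ?_⟩
  have h := fac_le_inter S hiso hp hxo hxa hc
  rwa [← hC] at h

variable [IsSimpleGroup G] (hG : ¬ IsMulCommutative G)
include hG

/-- Some centraliser leaves that of an isolated element. -/
theorem exists_escape {x : G} {p : ℕ} (hp : p.Prime) (hxo : orderOf x = p) (hxa : cn x = a) :
    ∃ z : G, z ≠ 1 ∧ Commute x z ∧
      ¬ Subgroup.centralizer ({z} : Set G) ≤ Subgroup.centralizer ({x} : Set G) := by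
  by_contra! hall
  set A := Subgroup.centralizer ({x} : Set G) with hA
  have hx1 := ne_one_of_prime hp hxo
  have hfc : Cfsg.IsFrobeniusComplement A := by
    refine ⟨fun h => hx1 ?_, cen_ne_top hG hx1, fun g hg => ?_⟩
    · have := mem_self x
      rw [← hA, h, Subgroup.mem_bot] at this
      exact this
    · rw [Subgroup.eq_bot_iff_forall]
      rintro z ⟨hz, hzg'⟩
      by_contra hz1
      obtain ⟨z', hz', rfl⟩ := hzg'
      have hzg : g⁻¹ * (g * z' * g⁻¹) * g ∈ A := by simpa [mul_assoc] using hz'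
      change g * z' * g⁻¹ ∈ A at hz
      change ¬ g * z' * g⁻¹ = 1 at hz1
      have h1 : g * x * g⁻¹ ∈ Subgroup.centralizer ({g * z' * g⁻¹} : Set G) :=
        mem_cen_comm.1 (mem_cen_conj.2 hzg)
      have e := eq_of_conj S hiso (g := g) (hxo ▸ hp) hxa
        (mem_cen.1 (hall _ hz1 (mem_cen.1 hz) h1))
      exact hg (mem_cen.2 (mul_inv_eq_iff_eq_mul.1 e).symm)
  obtain ⟨N, hN, hNn, -⟩ := Cfsg.Agent.S0042.result A hfc
  obtain ⟨y, q, hq, hyo, hyb, hqb⟩ := Split.exists_prime_rep S.symm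
  have hyN : y ∈ N := by
    rw [← SetLike.mem_coe, hN]
    refine Or.inr fun g hg => ?_
    obtain ⟨z', hz', hzy⟩ := hg
    change g * z' * g⁻¹ = y at hzy
    have hg : g⁻¹ * y * g ∈ A := by rw [← hzy]; simpa [mul_assoc] using hz'
    have h := orderOf_dvd_cn' hg
    have hy' : orderOf (g⁻¹ * y * g) = q := by
      have := RankFour54.orderOf_conj g⁻¹ y
      rw [inv_inv] at this
      rw [this, hyo]
    rw [hy', hxa] at h
    exact hq.ne_one (Nat.eq_one_of_dvd_coprimes S.cop h hqb)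
  rcases hNn.eq_bot_or_eq_top with h | h
  · exact ne_one_of_prime hq hyo (by rwa [h, Subgroup.mem_bot] at hyN)
  · have hxN : x ∈ Cfsg.frobeniusKernel A := hN ▸ (h ▸ Subgroup.mem_top x : x ∈ N)
    rcases hxN with h1 | h1
    · exact hx1 h1
    · exact h1 1 (by rw [map_one, one_smul]; exact mem_self x)

/-- There is such a pair of elements with different orders. -/
theorem exists_twoPoint {x : G} {p : ℕ} (hp : p.Prime) (hxo : orderOf x = p) (hxa : cn x = a) :
    ∃ (x' k : G) (l : ℕ), TwoPoint (a := a) x' k p l := by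
  obtain ⟨z, hz1, hxz, hzn⟩ := exists_escape S hiso hG hp hxo hxa
  obtain ⟨l, i, hl, hi, hi1⟩ := exists_prime_pow hz1
  have hc : Commute x (z ^ i) := hxz.pow_right i
  have hnle : ¬ Subgroup.centralizer ({z ^ i} : Set G) ≤ Subgroup.centralizer ({x} : Set G) :=
    fun h => hzn ((cen_le_pow z i).trans h)
  by_cases hlp : l = p
  swap
  · exact ⟨x, _, l, hp, hl, hxo, hi, hlp, hxa, hc, hnle⟩
  set k := z ^ i
  have hne : Nat.card (Subgroup.centralizer ({x} : Set G) ⊓ Subgroup.centralizer ({k} : Set G) : Subgroup G) ≠ cn k := fun e => hnle (by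
    have := Subgroup.eq_of_le_of_card_ge (inf_le_right : (Subgroup.centralizer ({x} : Set G) ⊓ Subgroup.centralizer ({k} : Set G) : Subgroup G) ≤ _) (le_of_eq e.symm)
    rw [← this]; exact inf_le_left)
  obtain ⟨m, hm, hlt⟩ := exists_prime_lt (cn_pos k).ne'
    (Subgroup.card_dvd_of_le (inf_le_right : (Subgroup.centralizer ({x} : Set G) ⊓ Subgroup.centralizer ({k} : Set G) : Subgroup G) ≤ _)) hne
  haveI := Fact.mk hm
  have hmp : m ≠ p := fun e => by
    have := fac_le_inter S hiso hp hxo hxa hc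
    rw [← e] at this
    omega
  obtain ⟨L, -, hLk, hLp, hLcard⟩ :=
    exists_full (p := m) (H := Subgroup.centralizer ({k} : Set G)) IsPGroup.of_bot bot_le
  obtain ⟨w, hwL, hwo, hLw⟩ := exists_central_invariant hLp (fun h => by
    rw [h, Subgroup.card_bot] at hLcard
    have : (cn k).factorization m ≠ 0 := by omega
    exact absurd hLcard (one_lt_pow₀ hm.one_lt this).ne)
  have hma : m ∣ a := by
    have hk : cn k ∣ a := cn_dvd_of_order S hl hi
      (hlp ▸ hxo ▸ hxa ▸ orderOf_dvd_cn x)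
    exact (hwo ▸ orderOf_dvd_cn' (hLk hwL) : m ∣ cn k).trans hk
  obtain ⟨g, hg⟩ := exists_conj_max S hxa hm hwo hma
  have hx'o : orderOf (g * x * g⁻¹) = p := by rw [RankFour54.orderOf_conj, hxo]
  have hx'a : cn (g * x * g⁻¹) = a := (cn_conj g x).trans hxa
  by_cases hw : Subgroup.centralizer ({w} : Set G) ≤ Subgroup.centralizer ({g * x * g⁻¹} : Set G)
  · exfalso
    have hkw : k ∈ Subgroup.centralizer ({w} : Set G) := mem_cen_comm.1 (hLk hwL)
    obtain ⟨h, hh, he⟩ := conj_in S hiso hp hxo hxa hc (mem_cen.1 (hw hkw))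
    have hd := pow_dvd_cn (z := g * x * g⁻¹) hLcard (fun v hv => hw (hLw hv))
    have hcard : m ^ (cn k).factorization m ∣ Nat.card (Subgroup.centralizer ({x} : Set G) ⊓ Subgroup.centralizer ({k} : Set G) : Subgroup G) := by
      rw [← card_inf_conj h x k hh, he]
      exact (show Nat.card L = _ from hLcard) ▸ Subgroup.card_dvd_of_le
        (le_inf (fun v hv => hw (hLw hv)) hLk)
    have := fac_le_of_pow_dvd hm Nat.card_pos.ne' hcard
    omega
  · exact ⟨_, w, m, hp, hm, hx'o, hwo, hmp, hx'a, hg, hw⟩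

variable {c d e : ℕ} (hV : ∀ v ∈ Cross.vals G, v ∣ a → v = a ∨ v = c ∨ v = d ∨ v = e)
  (hca : c ∣ a) (hcn : c ≠ a) (hdc : d ∣ c) (hec : e ∣ c)
include hV hca hcn hdc hec

theorem dvd_c {v : ℕ} (hv : v ∈ Cross.vals G) (hva : v ∣ a) (hne : v ≠ a) : v ∣ c := by
  rcases hV v hv hva with rfl | rfl | rfl | rfl
  exacts [absurd rfl hne, dvd_rfl, hdc, hec]

omit S hiso [Finite G] [IsSimpleGroup G] hG hV hca hcn hdc hec in
theorem pigeon {u v w d e : ℕ} (hu : u = d ∨ u = e) (hv : v = d ∨ v = e) (hw : w = d ∨ w = e) :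
    u = v ∨ u = w ∨ v = w := by omega

theorem low {v : ℕ} (hv : v ∈ Cross.vals G) (hva : v ∣ a) (hna : v ≠ a) (hnc : v ≠ c) :
    v = d ∨ v = e := by
  rcases hV v hv hva with h | h | h | h
  exacts [absurd h hna, absurd h hnc, Or.inl h, Or.inr h]

/-- The pair may be chosen with the largest value. -/
theorem exists_top {x : G} {p : ℕ} (hp : p.Prime) (hxo : orderOf x = p) (hxa : cn x = a) :
    ∃ (x' k : G) (l : ℕ), TwoPoint (a := a) x' k p l ∧ cn k = c := by
  obtain ⟨x1, k, l0, T⟩ := exists_twoPoint S hiso hG hp hxo hxa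
  by_contra! hno
  obtain ⟨hC, hne1, hdk, hneq, hna, hka, hkna, hfp⟩ := T.facts S hiso
  have hδc : (cn (x1 * k)) ≠ c := fun e1 => by
    have := dvd_c S hiso hG hV hca hcn hdc hec (Cross.mem_vals (ne_one_of_prime T.hl T.hko)) hka hkna
    exact hneq (Nat.dvd_antisymm hdk (e1 ▸ this))
  obtain ⟨m, hm, hlt⟩ := exists_prime_lt (cn_pos k).ne' hdk hneq
  haveI := Fact.mk hm
  have hmp : m ≠ p := fun e1 => by subst e1; omega
  obtain ⟨L0, -, hL0k, hL0p, hL0card⟩ :=
    exists_full (p := m) (H := Subgroup.centralizer ({k} : Set G)) IsPGroup.of_bot bot_le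
  obtain ⟨w, hwL, hwo, hLw⟩ := exists_central_invariant hL0p (fun h => by
    rw [h, Subgroup.card_bot] at hL0card
    have : (cn k).factorization m ≠ 0 := by omega
    exact absurd hL0card (one_lt_pow₀ hm.one_lt this).ne)
  have hma : m ∣ a := (hwo ▸ orderOf_dvd_cn' (hL0k hwL) : m ∣ cn k).trans hka
  -- replace `k` by an element of order `m`
  obtain ⟨k', hk'o, hk'n, hk'L, hk'eq⟩ : ∃ k', orderOf k' = m ∧
      TwoPoint (a := a) x1 k' p m ∧ (∀ v ∈ L0, Commute v k') ∧
      Subgroup.centralizer ({k'} : Set G) = Subgroup.centralizer ({k} : Set G) := by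
    by_cases hlm : l0 = m
    · exact ⟨k, hlm ▸ T.hko, hlm ▸ T, fun v hv => (mem_cen.1 (hL0k hv)).symm, rfl⟩
    have hkw : Commute k w := mem_cen.1 (hL0k hwL)
    obtain ⟨hC2, hne2, hd2, -, -, -⟩ := pair hkw (coprime_orders T.hl hm T.hko hwo hlm)
    have hfac : (cn k).factorization m ≤ (cn (k * w)).factorization m :=
      fac_le_of_pow_dvd hm (cn_pos _).ne' (pow_dvd_cn hL0card (hC2 ▸ le_inf hL0k hLw))
    have heq : cn (k * w) = cn k := by
      have hkV := Cross.mem_vals (ne_one_of_prime T.hl T.hko)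
      have hcnk := dvd_c S hiso hG hV hca hcn hdc hec hkV hka hkna
      have hk0 : cn k ≠ c := hno x1 k l0 T
      have hkw1 : cn (k * w) ≠ (cn (x1 * k)) := fun e1 => by rw [e1] at hfac; omega
      rcases pigeon (low S hiso hG hV hca hcn hdc hec (Cross.mem_vals hne1) (hdk.trans hka) hna hδc)
        (low S hiso hG hV hca hcn hdc hec hkV hka hkna hk0)
        (low S hiso hG hV hca hcn hdc hec (Cross.mem_vals (hne2 (ne_one_of_prime T.hl T.hko))) (hd2.trans hka)
          (fun e1 => hkna (Nat.dvd_antisymm hka (e1 ▸ hd2)))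
          (fun e1 => hk0 (Nat.dvd_antisymm hcnk (e1 ▸ hd2)))) with h | h | h
      exacts [absurd h hneq, absurd h.symm hkw1, h.symm]
    have hle : Subgroup.centralizer ({k} : Set G) ≤ Subgroup.centralizer ({w} : Set G) := by
      rw [← eq_of_le_cn (hC2.le.trans inf_le_left) heq, hC2]
      exact inf_le_right
    have hxw : Commute x1 w := (mem_cen.1 (hle (mem_cen.2 T.hc.symm.eq))).symm
    have hT' : TwoPoint (a := a) x1 w p m :=
      ⟨hp, hm, T.hxo, hwo, hmp, T.hxa, hxw, fun h => T.hnle (hle.trans h)⟩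
    refine ⟨w, hwo, hT', fun v hv => (mem_cen.1 (hLw hv)).symm, ?_⟩
    obtain ⟨-, -, -, -, -, hwa, hwna, -⟩ := hT'.facts S hiso
    refine (eq_of_le_cn hle ?_).symm
    have hd3 := cn_dvd_of_le hle
    by_contra hne3
    rcases pigeon (low S hiso hG hV hca hcn hdc hec (Cross.mem_vals hne1) (hdk.trans hka) hna hδc)
      (low S hiso hG hV hca hcn hdc hec (Cross.mem_vals (ne_one_of_prime T.hl T.hko)) hka hkna (hno x1 k l0 T))
      (low S hiso hG hV hca hcn hdc hec (Cross.mem_vals (ne_one_of_prime hm hwo)) hwa hwna (hno x1 w m hT')) with h | h | h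
    exacts [hneq h, hneq (Nat.dvd_antisymm hdk (hd3.trans (dvd_of_eq h.symm))), hne3 h]
  -- an element central in a Sylow subgroup of the group
  obtain ⟨LG, hLG⟩ := hL0p.exists_le_sylow
  obtain ⟨z, hzL, hzo, hLz⟩ := exists_central_invariant LG.2 (fun h => by
    have := hLG hwL
    rw [h, Subgroup.mem_bot] at this
    exact ne_one_of_prime hm hwo this)
  have hk'L0 : k' ∈ L0 := mem_of_full hL0p hL0k hL0card (k := 1)
    (hk'eq ▸ mem_self k') (by rw [hk'o, pow_one]) (Subgroup.centralizer_le_normalizer _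
      (Subgroup.mem_centralizer_iff.2 fun v hv => (hk'L v hv).eq))
  have hzk' : Commute z k' := mem_cen.1 (hLz (hLG hk'L0))
  have hmb : ¬ m ∣ (Subgroup.centralizer ({x1} : Set G)).index := by
    rw [Split.index_eq S T.hxa]
    exact fun h => hm.ne_one (Nat.eq_one_of_dvd_coprimes S.cop hma h)
  obtain ⟨L1, hL1⟩ := exists_sylow_le hmb
  obtain ⟨g, hg⟩ := MulAction.exists_smul_eq G L1 LG
  have hLx : (LG : Subgroup G) ≤ Subgroup.centralizer ({g * x1 * g⁻¹} : Set G) := by
    rw [← hg, cen_conj]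
    exact Subgroup.map_mono hL1
  have hx'o : orderOf (g * x1 * g⁻¹) = p := by rw [RankFour54.orderOf_conj, T.hxo]
  have hx'a : cn (g * x1 * g⁻¹) = a := (cn_conj g x1).trans T.hxa
  by_cases hz : Subgroup.centralizer ({z} : Set G) ≤ Subgroup.centralizer ({g * x1 * g⁻¹} : Set G)
  · obtain ⟨hC', -, -, hneq', -⟩ := hk'n.facts S hiso
    have hk'x := hz (mem_cen.2 hzk'.eq)
    obtain ⟨h, hh, he⟩ := conj_in S hiso hp T.hxo T.hxa hk'n.hc (mem_cen.1 hk'x)
    have hcard : m ^ (cn k).factorization m ∣ (cn (x1 * k)) := by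
      show _ ∣ Nat.card (Subgroup.centralizer ({x1 * k} : Set G))
      rw [hC, ← hk'eq, ← card_inf_conj h x1 k' hh, he]
      exact hL0card ▸ Subgroup.card_dvd_of_le (le_inf (fun v hv => hz (hLz (hLG hv)))
        (hk'eq ▸ hL0k))
    have := fac_le_of_pow_dvd hm (cn_pos _).ne' hcard
    omega
  · have T2 : TwoPoint (a := a) (g * x1 * g⁻¹) z p m :=
      ⟨hp, hm, hx'o, hzo, hmp, hx'a, mem_cen.1 (hLx hzL), hz⟩
    obtain ⟨hC2, hne2, hdz, hneqz, hnaz, hza, hzna, -⟩ := T2.facts S hiso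
    have hfull : (Nat.card G).factorization m ≤ (cn (g * x1 * g⁻¹ * z)).factorization m :=
      fac_le_of_pow_dvd hm (cn_pos _).ne' (pow_dvd_cn LG.card_eq_multiplicity (hC2 ▸ le_inf hLx hLz))
    have hkm : (cn k).factorization m ≤ (Nat.card G).factorization m := fac_le_card k
    have hd22 : (cn (g * x1 * g⁻¹ * z)) ≠ (cn (x1 * k)) := fun e1 => by rw [e1] at hfull; omega
    have hk0 : cn k ≠ c := hno x1 k l0 T
    have hz0 : cn z ≠ c := hno _ z m T2
    have hzV := Cross.mem_vals (ne_one_of_prime hm hzo)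
    have l1 := low S hiso hG hV hca hcn hdc hec (Cross.mem_vals hne1) (hdk.trans hka) hna hδc
    have l2 := low S hiso hG hV hca hcn hdc hec (Cross.mem_vals (ne_one_of_prime T.hl T.hko)) hka hkna hk0
    have l3 := low S hiso hG hV hca hcn hdc hec hzV hza hzna hz0
    have l4 := low S hiso hG hV hca hcn hdc hec (Cross.mem_vals hne2) (hdz.trans hza) hnaz
      (fun e1 => hz0 (Nat.dvd_antisymm (dvd_c S hiso hG hV hca hcn hdc hec hzV hza hzna) (e1 ▸ hdz)))
    have e24 : (cn (g * x1 * g⁻¹ * z)) = cn k := by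
      rcases pigeon l1 l2 l4 with h | h | h
      exacts [absurd h hneq, absurd h.symm hd22, h.symm]
    rcases pigeon l1 l4 l3 with h | h | h
    · exact hd22 h.symm
    · rw [← h, e24] at hdz
      exact hneq (Nat.dvd_antisymm hdk hdz)
    · exact hneqz h

/-- The key step from a pair with the largest value. -/
theorem key {x k : G} {p l0 : ℕ} (T : TwoPoint (a := a) x k p l0) (hk : cn k = c) {l : ℕ}
    (hl : l.Prime) (hlt : (cn (x * k)).factorization l < c.factorization l) :
    ∃ g z : G, TwoPoint (a := a) (g * x * g⁻¹) z p l ∧ Commute k z ∧ cn z = c ∧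
      c.factorization l = (Nat.card G).factorization l ∧
      ¬ Commute (g * x * g⁻¹) k ∧
      (cn (g * x * g⁻¹ * z)).factorization l = (Nat.card G).factorization l ∧
      ∃ L : Subgroup G, Nat.card L = l ^ (Nat.card G).factorization l ∧
        L ≤ Subgroup.centralizer ({k} : Set G) ∧ L ≤ Subgroup.centralizer ({z} : Set G) := by
  haveI := Fact.mk hl
  obtain ⟨hC, hne1, hdk, hneq, hna, hka, hkna, hfp⟩ := T.facts S hiso
  have hlp : l ≠ p := fun e1 => by subst e1; rw [hk] at hfp; omega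
  have hc0 : c ≠ 0 := hk ▸ (cn_pos k).ne'
  have hla : l ∣ a := (Nat.dvd_of_factorization_pos (n := c) (by omega)).trans hca
  have hmb : ¬ l ∣ (Subgroup.centralizer ({x} : Set G)).index := by
    rw [Split.index_eq S T.hxa]
    exact fun h => hl.ne_one (Nat.eq_one_of_dvd_coprimes S.cop hla h)
  obtain ⟨L1, hL1⟩ := exists_sylow_le hmb
  -- the `l`-part of `c` is full
  have hfullc : c.factorization l = (Nat.card G).factorization l := by
    refine le_antisymm (hk ▸ fac_le_card k) ?_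
    obtain ⟨z0, hz0, hz0o, hL1z⟩ := exists_central_invariant L1.2
      (L1.ne_bot_of_dvd_card (hla.trans (Dvd.intro b S.card.symm)))
    have hzf : (Nat.card G).factorization l ≤ (cn z0).factorization l :=
      fac_le_of_pow_dvd hl (cn_pos _).ne' (pow_dvd_cn L1.card_eq_multiplicity hL1z)
    by_cases hza : cn z0 = a
    · exfalso
      have he := eq_of_commute S hiso (T.hxo ▸ T.hp) (hz0o ▸ hl) T.hxa hza (mem_cen.1 (hL1 hz0))
      have hzk : Commute z0 k := mem_cen.1 (he.symm ▸ (mem_cen.2 T.hc.eq :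
        k ∈ Subgroup.centralizer ({x} : Set G)))
      have h := fac_le_inter S hiso hl hz0o hza hzk
      rw [he, ← hC, hk] at h
      exact absurd h (by change ¬ _ ≤ (cn (x * k)).factorization l; omega)
    · exact hzf.trans (fac_mono hc0 (dvd_c S hiso hG hV hca hcn hdc hec
        (Cross.mem_vals (ne_one_of_prime hl hz0o)) (cn_dvd_of_order S hl hz0o hla) hza))
  obtain ⟨L, -, hLk, hLp, hLcard⟩ :=
    exists_full (p := l) (H := Subgroup.centralizer ({k} : Set G)) IsPGroup.of_bot bot_le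
  rw [show Nat.card (Subgroup.centralizer ({k} : Set G)) = c from hk, hfullc] at hLcard
  obtain ⟨LG, hLG⟩ := hLp.exists_le_sylow
  have hLeq : L = (LG : Subgroup G) :=
    Subgroup.eq_of_le_of_card_ge hLG (by rw [hLcard, LG.card_eq_multiplicity])
  obtain ⟨g, hg⟩ := MulAction.exists_smul_eq G L1 LG
  have hLx : L ≤ Subgroup.centralizer ({g * x * g⁻¹} : Set G) := by
    rw [hLeq, ← hg, cen_conj]
    exact Subgroup.map_mono hL1
  obtain ⟨z, hzL, hzo, hLz⟩ := exists_central_invariant hLp (fun h => by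
    rw [h, Subgroup.card_bot] at hLcard
    have : (Nat.card G).factorization l ≠ 0 := by omega
    exact absurd hLcard (one_lt_pow₀ hl.one_lt this).ne)
  have hkz : Commute k z := mem_cen.1 (hLk hzL)
  have hnc : ¬ Commute (g * x * g⁻¹) k := fun hc' => by
    obtain ⟨h, hh, he⟩ := conj_in S hiso T.hp T.hxo T.hxa T.hc hc'
    have hcard : l ^ (Nat.card G).factorization l ∣ cn (x * k) := by
      show _ ∣ Nat.card (Subgroup.centralizer ({x * k} : Set G))
      rw [hC, ← card_inf_conj h x k hh, he]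
      exact hLcard ▸ Subgroup.card_dvd_of_le (le_inf hLx hLk)
    have := fac_le_of_pow_dvd hl (cn_pos _).ne' hcard
    omega
  have T2 : TwoPoint (a := a) (g * x * g⁻¹) z p l :=
    ⟨T.hp, hl, by rw [RankFour54.orderOf_conj, T.hxo], hzo, hlp, (cn_conj g x).trans T.hxa,
      mem_cen.1 (hLx hzL), fun hle => hnc (mem_cen.1 (hle (mem_cen.2 hkz.symm.eq)))⟩
  obtain ⟨hC2, hne2, hdz, hneqz, hnaz, hza, hzna, -⟩ := T2.facts S hiso
  set δ2 := cn (g * x * g⁻¹ * z)
  have hf2 : (Nat.card G).factorization l ≤ δ2.factorization l :=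
    fac_le_of_pow_dvd hl (cn_pos _).ne' (pow_dvd_cn hLcard (hC2 ▸ le_inf hLx hLz))
  refine ⟨g, z, T2, hkz, ?_, hfullc, hnc, le_antisymm (fac_le_card _) hf2, L, hLcard, hLk, hLz⟩
  by_contra hzc
  have hzf := fac_mono (p := l) (cn_pos z).ne' hdz
  have hδc : cn (x * k) ≠ c := fun e1 => hneq (e1.trans hk.symm)
  have hne12 : δ2 ≠ cn (x * k) := fun e1 => by rw [e1] at hf2; omega
  have hnez : cn z ≠ cn (x * k) := fun e1 => by rw [e1] at hzf; omega
  have hδ2c : δ2 ≠ c := fun e1 => hneqz (Nat.dvd_antisymm hdz (e1 ▸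
    dvd_c S hiso hG hV hca hcn hdc hec (Cross.mem_vals (ne_one_of_prime hl hzo)) hza hzna))
  rcases pigeon (low S hiso hG hV hca hcn hdc hec (Cross.mem_vals hne1) (hdk.trans hka) hna hδc)
    (low S hiso hG hV hca hcn hdc hec (Cross.mem_vals hne2) (hdz.trans hza) hnaz hδ2c)
    (low S hiso hG hV hca hcn hdc hec (Cross.mem_vals (ne_one_of_prime hl hzo)) hza hzna hzc) with h | h | h
  exacts [hne12 h.symm, hnez h.symm, hneqz h]

/-- This configuration does not occur. -/
theorem false_of_four : False := by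
  obtain ⟨x0, p, hp, hx0o, hx0a, -⟩ := Split.exists_prime_rep S
  obtain ⟨x1, k1, l1, T1, hk1⟩ := exists_top S hiso hG hV hca hcn hdc hec hp hx0o hx0a
  -- a pair and a prime different from the order
  obtain ⟨x, k, l0, l, T, hk, hl, hlt, hne⟩ : ∃ (x k : G) (l0 l : ℕ), TwoPoint (a := a) x k p l0 ∧
      cn k = c ∧ l.Prime ∧ (cn (x * k)).factorization l < c.factorization l ∧ l ≠ l0 := by
    obtain ⟨-, -, hdk, hneq, -, -, -, -⟩ := T1.facts S hiso
    obtain ⟨l, hl, hlt⟩ := exists_prime_lt (hk1 ▸ (cn_pos k1).ne') (hk1 ▸ hdk) (hk1 ▸ hneq)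
    by_cases hl1 : l = l1
    swap
    · exact ⟨x1, k1, l1, l, T1, hk1, hl, hlt, hl1⟩
    obtain ⟨g, z, T2, -, hzc, hfull, -, hf2, -⟩ :=
      key S hiso hG hV hca hcn hdc hec T1 hk1 hl hlt
    obtain ⟨-, -, hdz, hneqz, -, -, -, -⟩ := T2.facts S hiso
    obtain ⟨l', hl', hlt'⟩ := exists_prime_lt (hzc ▸ (cn_pos z).ne') (hzc ▸ hdz) (hzc ▸ hneqz)
    exact ⟨_, z, l, l', T2, hzc, hl', hlt', fun e1 => by subst e1; omega⟩
  obtain ⟨g, z, T2, hkz, hzc, hfull, hnc, hf2, L, hLcard, hLk, hLz⟩ :=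
    key S hiso hG hV hca hcn hdc hec T hk hl hlt
  obtain ⟨hC, hne1, hdk, hneq, hna, hka, -, -⟩ := T.facts S hiso
  obtain ⟨hC2, hne2, hdz, hneqz, hnaz, hza, -, hfp2⟩ := T2.facts S hiso
  -- neither of the two lower values divides the other
  have hδ2 : ¬ (cn (g * x * g⁻¹ * z)) ∣ (cn (x * k)) := fun h => by
    have := fac_mono (p := l) (cn_pos _).ne' h
    omega
  have hδ : ¬ (cn (x * k)) ∣ (cn (g * x * g⁻¹ * z)) := fun h => by
    obtain ⟨l', hl', hlt'⟩ := exists_prime_lt (hzc ▸ (cn_pos z).ne') (hzc ▸ hdz) (hzc ▸ hneqz)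
    obtain ⟨g', z', T3, -, hzc', hfull', -, hf3, -⟩ :=
      key S hiso hG hV hca hcn hdc hec T2 hzc hl' hlt'
    obtain ⟨-, hne3, hdz3, hneq3, hna3, hza3, -, -⟩ := T3.facts S hiso
    have h32 : (cn (g' * (g * x * g⁻¹) * g'⁻¹ * z')) ≠ (cn (g * x * g⁻¹ * z)) := fun e1 => by rw [e1] at hf3; omega
    have h31 : (cn (g' * (g * x * g⁻¹) * g'⁻¹ * z')) ≠ (cn (x * k)) := fun e1 => by
      have := fac_mono (p := l') (cn_pos _).ne' h
      rw [e1] at hf3
      omega
    have h12 : (cn (g * x * g⁻¹ * z)) ≠ (cn (x * k)) := fun e1 => hδ2 (e1 ▸ dvd_rfl)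
    rcases pigeon (low S hiso hG hV hca hcn hdc hec (Cross.mem_vals hne1) (hdk.trans hka) hna (fun e1 => hneq (e1.trans hk.symm)))
      (low S hiso hG hV hca hcn hdc hec (Cross.mem_vals hne2) (hdz.trans hza) hnaz (fun e1 => hneqz (e1.trans hzc.symm)))
      (low S hiso hG hV hca hcn hdc hec (Cross.mem_vals hne3) (hdz3.trans hza3) hna3 (fun e1 => hneq3 (e1.trans hzc'.symm))) with e1 | e1 | e1
    exacts [h12 e1.symm, h31 e1.symm, h32 e1.symm]
  -- the product of `k` and `z`
  obtain ⟨hCkz, hnekz, hd1, hd2, -, -⟩ :=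
    pair hkz (coprime_orders T.hl hl T.hko T2.hko (Ne.symm hne))
  have hkz1 := hnekz (ne_one_of_prime T.hl T.hko)
  have hfl : (Nat.card G).factorization l ≤ (cn (k * z)).factorization l :=
    fac_le_of_pow_dvd hl (cn_pos _).ne' (pow_dvd_cn hLcard (hCkz ▸ le_inf hLk hLz))
  have hν : cn (k * z) = (cn (g * x * g⁻¹ * z)) := by
    have h12 : (cn (g * x * g⁻¹ * z)) ≠ (cn (x * k)) := fun e1 => hδ2 (e1 ▸ dvd_rfl)
    have hν1 : cn (k * z) ≠ (cn (x * k)) := fun e1 => by rw [e1] at hfl; omega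
    have hνa : cn (k * z) ≠ a := fun e1 => by
      rw [e1, hk] at hd1
      exact hcn (Nat.dvd_antisymm hca hd1)
    have hνc : cn (k * z) ≠ c := fun e1 => by
      have e2 := eq_of_le_cn (hCkz.le.trans inf_le_left) (e1.trans hk.symm)
      have e3 := eq_of_le_cn (hCkz.le.trans inf_le_right) (e1.trans hzc.symm)
      refine hnc (mem_cen.1 (mem_cen_comm.1 ?_) : Commute (g * x * g⁻¹) k)
      rw [← e2, e3]
      exact mem_cen.2 T2.hc.symm.eq
    rcases pigeon (low S hiso hG hV hca hcn hdc hec (Cross.mem_vals hne1) (hdk.trans hka) hna (fun e1 => hneq (e1.trans hk.symm)))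
      (low S hiso hG hV hca hcn hdc hec (Cross.mem_vals hne2) (hdz.trans hza) hnaz (fun e1 => hneqz (e1.trans hzc.symm)))
      (low S hiso hG hV hca hcn hdc hec (Cross.mem_vals hkz1) (hd1.trans hka) hνa hνc) with e1 | e1 | e1
    exacts [absurd e1.symm h12, absurd e1.symm hν1, e1.symm]
  -- a conjugate of `x` in its centraliser
  haveI := Fact.mk T.hp
  have hle : Subgroup.centralizer ({k * z} : Set G) ≤ Subgroup.centralizer ({k} : Set G) :=
    hCkz.le.trans inf_le_left
  have hidx : ¬ p ∣ ((Subgroup.centralizer ({k * z} : Set G)).subgroupOf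
      (Subgroup.centralizer ({k} : Set G))).index := by
    intro hd
    have h1 := ((Subgroup.centralizer ({k * z} : Set G)).subgroupOf
      (Subgroup.centralizer ({k} : Set G))).card_mul_index
    rw [Nat.card_congr (Subgroup.subgroupOfEquivOfLe hle).toEquiv] at h1
    change cn (k * z) * _ = cn k at h1
    have h2 := congrArg (fun n => n.factorization p) h1
    simp only [Nat.factorization_mul (cn_pos _).ne' Subgroup.index_ne_zero_of_finite,
      Finsupp.add_apply] at h2
    have := (T.hp.dvd_iff_one_le_factorization Subgroup.index_ne_zero_of_finite).1 hd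
    rw [hν, hk] at h2
    rw [hzc] at hfp2
    omega
  obtain ⟨h, hh⟩ := exists_conj_mem T.hp hidx
    (y := (⟨x, mem_cen.2 T.hc.symm.eq⟩ : Subgroup.centralizer ({k} : Set G)))
    (by rw [Subgroup.orderOf_mk, T.hxo])
  set x2 := (h : G) * x * (h : G)⁻¹
  have hx2c : Commute (k * z) x2 := mem_cen.1 (Subgroup.mem_subgroupOf.1 hh)
  have hx2k : Commute x2 k := (mem_cen.1 (hle (mem_cen.2 hx2c.eq))).symm
  have hx2o : orderOf x2 = p := by rw [RankFour54.orderOf_conj, T.hxo]
  obtain ⟨hC3, hne3, -, hd3, -, -⟩ := pair hx2c.symm (by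
    rw [hx2o, hkz.orderOf_mul_eq_mul_orderOf_of_coprime
      (coprime_orders T.hl hl T.hko T2.hko (Ne.symm hne)), T.hko, T2.hko]
    exact Nat.Coprime.mul_right ((Nat.coprime_primes T.hp T.hl).2 T.hlp.symm)
      ((Nat.coprime_primes T.hp hl).2 T2.hlp.symm))
  have h3a : cn (x2 * (k * z)) ∣ (cn (x * k)) := by
    show _ ∣ Nat.card (Subgroup.centralizer ({x * k} : Set G))
    rw [hC, ← card_inf_conj (h : G) x k h.2]
    exact Subgroup.card_dvd_of_le (hC3.le.trans (inf_le_inf_left _ hle))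
  rw [hν] at hd3
  have hv3 := Cross.mem_vals (hne3 (ne_one_of_prime T.hp hx2o))
  rcases pigeon (low S hiso hG hV hca hcn hdc hec (Cross.mem_vals hne1) (hdk.trans hka) hna (fun e1 => hneq (e1.trans hk.symm)))
    (low S hiso hG hV hca hcn hdc hec (Cross.mem_vals hne2) (hdz.trans hza) hnaz (fun e1 => hneqz (e1.trans hzc.symm)))
    (low S hiso hG hV hca hcn hdc hec hv3 (h3a.trans (hdk.trans hka))
      (fun e1 => hna (Nat.dvd_antisymm (hdk.trans hka) (e1 ▸ h3a)))
      (fun e1 => hneq (Nat.dvd_antisymm hdk (hk.symm ▸ e1 ▸ h3a)))) with h | h | h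
  exacts [hδ (dvd_of_eq h), hδ ((dvd_of_eq h).trans hd3), hδ2 ((dvd_of_eq h).trans h3a)]

end Cfsg.Agent.Lib.RankFive54.Four
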