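import Mathlib
import Cfsg.Agent.Lib.RankFive54.Basic
import Cfsg.Agent.Lib.RankFour54.Main
import Cfsg.Agent.Lib.RankFour54.Exclude
import Cfsg.Agent.S3188
import Cfsg.Agent.S3193
import Cfsg.Agent.S3214
import Cfsg.Agent.Lib.Linear.Order

/-!
# Five centraliser orders and at most one value below the involutions
-/

set_option autoImplicit false
set_option linter.style.haveILetI false
set_option linter.unusedSectionVars false

namespace Cfsg.Agent.Lib.RankFive54.Npc

open Cfsg.Agent.Lib.ClassSizes.Basic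
open Cfsg.Agent.Lib.Inv59.RankThree
open Cfsg.Agent.Lib.RankFour54

universe u

variable {G : Type u} [Group G] [Finite G]

/-- All involution centralisers are solvable. -/
theorem solvable_centralizer {t : G} (ht : orderOf t = 2) {c : ℕ} (hlow : Local.Low G c) :
    Group.IsSolvable (Subgroup.centralizer ({t} : Set G)) := by
  refine Solv.isSolvable_of_one_order c fun x hx hxc => ?_
  rw [← Subgroup.orderOf_coe] at hx
  obtain ⟨hC, -, -⟩ := Local.tmul ht x.2 hx
  rw [← Local.cn_tmul ht hlow x.2 hx (fun hle => hxc (Local.mem_center_subtype.2 hle)),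
    Local.cn_subtype, ← hC]
  rfl

open Equiv in
theorem two_mul_cn_aux {n : ℕ} (x : alternatingGroup (Fin n)) (g : Perm (Fin n))
    (hg : Perm.sign g = -1) (hc : (x : Perm (Fin n)) * g = g * x) :
    2 ∣ Nat.card (Subgroup.centralizer ({(x : Perm (Fin n))} : Set (Perm (Fin n)))) :=
  ⟨cn x, (Exclude.two_mul_cn x g hg hc).symm⟩

open Equiv in
theorem alt_seven : (Cross.vals (alternatingGroup (Fin 7))).ncard ≠ 5 := by
  have key : ∀ (x g : Perm (Fin 7)) (m : Multiset ℕ) (hx : Perm.sign x = 1), Perm.sign g = -1 →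
      x * g = g * x → x.cycleType = m →
      cn (⟨x, hx⟩ : alternatingGroup (Fin 7)) * 2 =
        (7 - m.sum).factorial * m.prod * ∏ k ∈ m.toFinset, (m.count k).factorial := by
    intro x g m hx hg hc hm
    rw [mul_comm, Exclude.two_mul_cn ⟨x, hx⟩ g hg hc, Perm.nat_card_centralizer, hm, Fintype.card_fin]
  have e1 := key (c[(0 : Fin 7), 1, 2]) (c[(3 : Fin 7), 4]) {3} (by decide +kernel)
    (by decide +kernel) (by decide +kernel) (by decide +kernel)
  have e2 := key (c[(0 : Fin 7), 1] * c[2, 3]) (c[(0 : Fin 7), 1]) {2, 2} (by decide +kernel)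
    (by decide +kernel) (by decide +kernel) (by decide +kernel)
  have e3 := key (c[(0 : Fin 7), 1, 2] * c[3, 4, 5]) (c[(0 : Fin 7), 3] * c[1, 4] * c[2, 5]) {3, 3}
    (by decide +kernel) (by decide +kernel) (by decide +kernel) (by decide +kernel)
  have e4 := key (c[(0 : Fin 7), 1, 2, 3, 4]) (c[(5 : Fin 7), 6]) {5} (by decide +kernel)
    (by decide +kernel) (by decide +kernel) (by decide +kernel)
  have e5 := key (c[(0 : Fin 7), 1, 2, 3] * c[4, 5]) (c[(4 : Fin 7), 5]) {4, 2} (by decide +kernel)
    (by decide +kernel) (by decide +kernel) (by decide +kernel)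
  have f1 : (7 - ({3} : Multiset ℕ).sum).factorial * ({3} : Multiset ℕ).prod *
      ∏ k ∈ ({3} : Multiset ℕ).toFinset, (({3} : Multiset ℕ).count k).factorial = 72 := by decide
  have f2 : (7 - ({2, 2} : Multiset ℕ).sum).factorial * ({2, 2} : Multiset ℕ).prod *
      ∏ k ∈ ({2, 2} : Multiset ℕ).toFinset, (({2, 2} : Multiset ℕ).count k).factorial = 48 := by
    decide
  have f3 : (7 - ({3, 3} : Multiset ℕ).sum).factorial * ({3, 3} : Multiset ℕ).prod *
      ∏ k ∈ ({3, 3} : Multiset ℕ).toFinset, (({3, 3} : Multiset ℕ).count k).factorial = 18 := by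
    decide
  have f4 : (7 - ({5} : Multiset ℕ).sum).factorial * ({5} : Multiset ℕ).prod *
      ∏ k ∈ ({5} : Multiset ℕ).toFinset, (({5} : Multiset ℕ).count k).factorial = 10 := by decide
  have f5 : (7 - ({4, 2} : Multiset ℕ).sum).factorial * ({4, 2} : Multiset ℕ).prod *
      ∏ k ∈ ({4, 2} : Multiset ℕ).toFinset, (({4, 2} : Multiset ℕ).count k).factorial = 8 := by
    decide
  rw [f1] at e1; rw [f2] at e2; rw [f3] at e3; rw [f4] at e4; rw [f5] at e5
  have h7 : Nat.card (Subgroup.centralizer ({c[(0 : Fin 7), 1, 2, 3, 4, 5, 6]} : Set (Perm (Fin 7)))) = 7 := by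
    rw [Perm.nat_card_centralizer,
      show (c[(0 : Fin 7), 1, 2, 3, 4, 5, 6] : Perm (Fin 7)).cycleType = {7} by decide +kernel,
      Fintype.card_fin]
    decide
  set X : alternatingGroup (Fin 7) := ⟨c[(0 : Fin 7), 1, 2, 3, 4, 5, 6], by rw [Perm.mem_alternatingGroup]; decide +kernel⟩
    with hX
  have e6 : cn X = 7 := by
    refine Eq.trans ?_ h7
    rw [cn, ← Subgroup.card_map_of_injective (alternatingGroup (Fin 7)).subtype_injective]
    congr 2
    ext y
    constructor
    · rintro ⟨z, hz, rfl⟩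
      exact mem_cen.2 (congrArg Subtype.val (mem_cen.1 hz))
    · intro hy
      have hmem : y ∈ alternatingGroup (Fin 7) := by
        by_contra hno
        rw [Perm.mem_alternatingGroup] at hno
        have h1 := two_mul_cn_aux X y ((Int.units_eq_one_or _).resolve_left hno) (mem_cen.1 hy)
        rw [show (X : Perm (Fin 7)) = c[(0 : Fin 7), 1, 2, 3, 4, 5, 6] from rfl, h7] at h1
        omega
      exact ⟨⟨y, hmem⟩, mem_cen.2 (Subtype.ext (mem_cen.1 hy)), rfl⟩
  intro h5
  have h := eq_of_five h5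
    (Cross.mem_vals (x := (⟨c[(0 : Fin 7), 1, 2], by rw [Perm.mem_alternatingGroup]; decide +kernel⟩ :
      alternatingGroup (Fin 7))) (fun h => absurd (congrArg Subtype.val h) (by decide +kernel)))
    (Cross.mem_vals (x := (⟨c[(0 : Fin 7), 1] * c[2, 3], by rw [Perm.mem_alternatingGroup]; decide +kernel⟩ :
      alternatingGroup (Fin 7))) (fun h => absurd (congrArg Subtype.val h) (by decide +kernel)))
    (Cross.mem_vals (x := (⟨c[(0 : Fin 7), 1, 2] * c[3, 4, 5], by rw [Perm.mem_alternatingGroup]; decide +kernel⟩ :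
      alternatingGroup (Fin 7))) (fun h => absurd (congrArg Subtype.val h) (by decide +kernel)))
    (Cross.mem_vals (x := (⟨c[(0 : Fin 7), 1, 2, 3, 4], by rw [Perm.mem_alternatingGroup]; decide +kernel⟩ :
      alternatingGroup (Fin 7))) (fun h => absurd (congrArg Subtype.val h) (by decide +kernel)))
    (Cross.mem_vals (x := (⟨c[(0 : Fin 7), 1, 2, 3] * c[4, 5], by rw [Perm.mem_alternatingGroup]; decide +kernel⟩ :
      alternatingGroup (Fin 7))) (fun h => absurd (congrArg Subtype.val h) (by decide +kernel)))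
    (Cross.mem_vals (x := X) (fun h => absurd (congrArg Subtype.val h) (by decide +kernel)))
    (by
      simp only [List.nodup_cons, List.mem_cons, List.not_mem_nil, or_false, not_or,
        List.nodup_nil, and_true, not_false_eq_true]
      omega)
  rw [e6] at h
  omega

variable [IsSimpleGroup G] (hG : ¬ IsMulCommutative G)
include hG

theorem ncard_odd {F : Type} [Field F] [Fintype F] (hodd : Odd (Fintype.card F))
    (h7 : 7 ≤ Fintype.card F) (e : G ≃* Matrix.ProjectiveSpecialLinearGroup (Fin 2) F) :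
    (Cross.vals G).ncard = 4 := by
  obtain ⟨-, -, h⟩ := Cfsg.Agent.S3193.reverse hodd h7
  rw [← Cfsg.Agent.S3192.index_set_iso e, Cfsg.Agent.S3192.ncard_index_set hG] at h
  exact h

theorem ncard_even {F : Type} [Field F] [Fintype F] (h2 : 2 ∣ Fintype.card F)
    (hq : 4 ≤ Fintype.card F) (e : G ≃* Matrix.ProjectiveSpecialLinearGroup (Fin 2) F) :
    (Cross.vals G).ncard = 3 := by
  obtain ⟨n, hp, hn⟩ := FiniteField.card F (ringChar F)
  have hc : ringChar F = 2 := ((Nat.prime_dvd_prime_iff_eq Nat.prime_two hp).1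
    (Nat.prime_two.dvd_of_dvd_pow (hn ▸ h2))).symm
  rw [hc] at hn
  have hm : 2 ≤ (n : ℕ) := by
    by_contra hlt
    have : 2 ^ (n : ℕ) ≤ 2 ^ 1 := Nat.pow_le_pow_right two_pos (by omega)
    omega
  obtain ⟨-, -, h3⟩ := Cfsg.Agent.S3192.reverse hm hn
  rw [← Cfsg.Agent.S3192.index_set_iso e, Cfsg.Agent.S3192.ncard_index_set hG] at h3
  exact h3

/-- No group `PSL₂(q)` has five centraliser orders. -/
theorem not_psl (h5 : (Cross.vals G).ncard = 5) {F : Type} [Field F] [Fintype F]
    (hq : 4 ≤ Fintype.card F) (e : G ≃* Matrix.ProjectiveSpecialLinearGroup (Fin 2) F) : False := by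
  by_cases h2 : 2 ∣ Fintype.card F
  · have := ncard_even hG h2 hq e
    omega
  by_cases hF : Fintype.card F = 5
  · let K : Type := GaloisField 2 2
    letI : Fintype K := Fintype.ofFinite K
    have hK : Fintype.card K = 4 := by
      rw [← Nat.card_eq_fintype_card, GaloisField.card 2 2 two_ne_zero]; norm_num
    obtain ⟨e4⟩ := Cfsg.Agent.S0252.result (F := K) hK
    obtain ⟨e5⟩ := Cfsg.Agent.S0253.result (F := F) hF
    have := ncard_even hG (F := K) (by rw [hK]; norm_num) hK.ge (e.trans (e5.trans e4.symm))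
    omega
  · have := ncard_odd hG (Nat.odd_iff.2 (by omega)) (by omega) e
    omega

/-- A simple group with five centraliser orders and one value below its involutions has 2-nilpotent involution centralisers. -/
theorem npc (h5 : (Cross.vals G).ncard = 5) {c : ℕ} (hlow : Local.Low G c) {t : G} (ht : orderOf t = 2) :
    Cfsg.HasNormalPComplement 2 (Subgroup.centralizer ({t} : Set G)) := by
  by_contra hnn
  have hsol : ∀ i : G, orderOf i = 2 → Group.IsSolvable (Subgroup.centralizer ({i} : Set G)) :=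
    fun i hi => solvable_centralizer hi hlow
  haveI := hsol t ht
  obtain ⟨S, hS, h8⟩ := Local.abelian_sylow ht hlow hsol hnn
  rcases Cfsg.Agent.S3188.result S hS hsol with h | ⟨F, hF, hFt, hcase, N, hN, ⟨e⟩, -⟩
  · exact hG ⟨⟨IsSimpleGroup.comm_iff_isSolvable.2 h⟩⟩
  have hcore : Cfsg.oddCore G = ⊥ := by
    rcases IsSimpleGroup.eq_bot_or_eq_top_of_normal (Cfsg.oddCore G)
      (inferInstanceAs (Cfsg.pPrimeCore 2 G).Normal) with h | h
    · exact h
    · have : Odd (Nat.card (Cfsg.oddCore G)) :=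
        Nat.coprime_two_right.1 (Cores.pPrimeCore_coprime 2)
      rw [h, Subgroup.card_top] at this
      exact absurd (even_iff_two_dvd.2 ((dvd_trans (by norm_num : 2 ∣ 8) h8)))
        (Nat.not_even_iff_odd.2 this)
  let q : G ⧸ Cfsg.oddCore G ≃* G :=
    (QuotientGroup.quotientMulEquivOfEq hcore).trans QuotientGroup.quotientBot
  haveI : IsSimpleGroup (G ⧸ Cfsg.oddCore G) := q.isSimpleGroup
  have hF4 : 4 ≤ Fintype.card F := by
    rcases hcase with ⟨-, h⟩ | ⟨n, hn, h⟩
    · omega
    · rw [h]; exact le_trans (by norm_num : (4:ℕ) ≤ 2 ^ 2) (Nat.pow_le_pow_right two_pos hn)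
  have htop : N = ⊤ := by
    rcases IsSimpleGroup.eq_bot_or_eq_top_of_normal N hN with h | h
    · exfalso
      subst h
      have h1 : Nat.card (Matrix.ProjectiveSpecialLinearGroup (Fin 2) F) = 1 := by
        rw [← Nat.card_congr e.toEquiv, Subgroup.card_bot]
      have h60 : 4 * 3 * 5 ≤ Fintype.card F * (Fintype.card F - 1) * (Fintype.card F + 1) :=
        Nat.mul_le_mul (Nat.mul_le_mul hF4 (by omega)) (by omega)
      rcases Nat.even_or_odd (Fintype.card F) with hev | hodd
      · have := Linear.card_PSL_two_of_even (F := F) hev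
        rw [h1] at this
        omega
      · have := Linear.two_mul_card_PSL_two_of_odd (F := F) hodd
        rw [h1] at this
        omega
    · exact h
  subst htop
  have eG : G ≃* Matrix.ProjectiveSpecialLinearGroup (Fin 2) F :=
    (q.symm.trans Subgroup.topEquiv.symm).trans e
  exact not_psl hG h5 (F := F) (by omega) eG

omit hG [IsSimpleGroup G] in
theorem alt_seven_ne (e : G ≃* alternatingGroup (Fin 7)) : (Cross.vals G).ncard ≠ 5 := by
  rw [Exclude.vals_congr e]
  exact alt_seven

/-- One value below the involutions: the group is a Suzuki group or `PSL₃(4)`. -/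
theorem classify (h5 : (Cross.vals G).ncard = 5) {c : ℕ} (hlow : Local.Low G c) :
    Cfsg.Lie.IsoSuzuki G ∨ ∃ (F : Type) (_ : Field F) (_ : Fintype F), Fintype.card F = 4 ∧
      Nonempty (G ≃* Matrix.ProjectiveSpecialLinearGroup (Fin 3) F) := by
  rcases Cfsg.Agent.S3214.result hG (fun t ht => npc hG h5 hlow ht) with
    ⟨F, hF, hFt, h3, ⟨e⟩⟩ | h | ⟨⟨e⟩⟩ | h
  · exact (not_psl hG h5 (by omega) e).elim
  · exact Or.inl h
  · exact absurd h5 (alt_seven_ne e)
  · exact Or.inr h

end Cfsg.Agent.Lib.RankFive54.Npc
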