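import Mathlib
import Cfsg.Agent.Lib.RankFive54.Final

/-!
# The odd side is a nilpotent subgroup with the centralisers of its elements
-/

set_option autoImplicit false
set_option linter.style.haveILetI false
set_option linter.unusedSectionVars false

namespace Cfsg.Agent.Lib.RankFive54.PFour

open Cfsg.Agent.Lib.ClassSizes.Basic
open Cfsg.Agent.Lib.Inv59.RankThree
open Cfsg.Agent.Lib.RankFive54.Odd

universe u

/-- With two values on the odd side there is a nilpotent subgroup of that order, containing the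
centralisers of its non-identity elements. -/
theorem exists_nilpotent {G : Type u} [Group G] [Finite G] [IsSimpleGroup G]
    (hG : ¬ IsMulCommutative G) {a b e : ℕ} (X : Ctx G a b e) :
    ∃ K : Subgroup G, Group.IsNilpotent K ∧ Nat.card K = b ∧
      (∀ x ∈ K, x ≠ 1 → Subgroup.centralizer ({x} : Set G) ≤ K) ∧
      K < Subgroup.normalizer (K : Set G) := by
  obtain ⟨l, k, D⟩ := Side.exists_data X
  haveI := Fact.mk D.hl
  obtain ⟨r, hr, hrb, hrl⟩ : ∃ r, r.Prime ∧ r ∣ b ∧ r ≠ l := by
    by_contra! h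
    exact Split.not_prime_pow X.S hG D.hl (Nat.eq_prime_pow_of_unique_prime_dvd
      (Split.pos X.S).2.ne' (fun {d} hd hdb => h d hd hdb))
  by_cases hbig : ∃ (r : ℕ) (s : G), r.Prime ∧ r ≠ l ∧ r ∣ b ∧ orderOf s = r ∧ cn s = b
  · obtain ⟨r, s, hr, hrl, hrb, hso, hsb⟩ := hbig
    exact Side.of_big D hG hr hrb hrl hso hsb
  · have Q : Small.All G a b e l k := ⟨D, fun r hr hrl hrb s hso =>
      (value_order X hr hso hrb).resolve_left fun hsb => hbig ⟨r, s, hr, hrl, hrb, hso, hsb⟩⟩
    haveI := Fact.mk hr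
    obtain ⟨h, hho⟩ := exists_prime_orderOf_dvd_card' (G := G) r
      (hrb.trans (Dvd.intro_left a X.S.card.symm))
    exact (Final.false_of_all Q hr hrl hrb hho hG).elim

end Cfsg.Agent.Lib.RankFive54.PFour
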