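import Mathlib
import Cfsg.Agent.Lib.RankFive54.Four
import Cfsg.Agent.Lib.RankFive54.PFour
import Cfsg.Agent.Lib.RankFive54.Coherent
import Cfsg.Agent.Lib.Inv59.EightAuto

/-!
# Involutions do not have the largest value on their side
-/

set_option autoImplicit false
set_option linter.style.haveILetI false
set_option linter.unusedSectionVars false

namespace Cfsg.Agent.Lib.RankFive54.Single

open Cfsg.Agent.Lib.ClassSizes.Basic
open Cfsg.Agent.Lib.Inv59.RankThree
open Cfsg.Agent.Lib.RankFour54
open Cfsg.Agent.Lib.RankFive54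

universe u

variable {G : Type u} [Group G] [Finite G] [IsSimpleGroup G] (hG : ¬ IsMulCommutative G)
include hG

/-- With one value on the other side, elements of the largest value are isolated. -/
theorem iso {a b : ℕ} (S : Split.IsSplit G a b) (hb : ∀ v ∈ Cross.vals G, v ∣ b → v = b) :
    Four.Iso G a := by
  classical
  haveI := Fintype.ofFinite G
  haveI : Fintype (Cfsg.IrrCharacter G) := Fintype.ofFinite _
  have honly : ∀ v ∈ Cross.vals G, b ∣ v ∨ v ∣ b → v = b := by
    intro v hv h
    rcases h with h | h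
    · rcases S.hall v hv with h' | h'
      · exact absurd (h.trans h') (Split.not_dvd S.symm)
      · exact hb v hv h'
    · exact hb v hv h
  obtain ⟨y, q, hq, hyo, hyb, -⟩ := Split.exists_prime_rep S.symm
  set B := Subgroup.centralizer ({y} : Set G) with hB
  -- elements of coprime prime orders
  have hsame : ∀ α β : G, (orderOf α).Prime → (orderOf β).Prime → orderOf α ≠ orderOf β →
      Subgroup.centralizer ({α} : Set G) = B → β ∈ B →
      Subgroup.centralizer ({β} : Set G) = B := by
    intro α β hα hβ hne eα hβB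
    have hc : Commute α β := mem_cen.1 (eα ▸ hβB)
    have hco : (orderOf α).Coprime (orderOf β) := (Nat.coprime_primes hα hβ).2 hne
    obtain ⟨hC, hne1, -, -, -, -⟩ := pair hc hco
    have hne1 := hne1 (ne_one_of_prime hα rfl)
    have e := honly _ (Cross.mem_vals hne1) (Or.inr
      (hyb ▸ cn_dvd_of_le (hC.le.trans (inf_le_left.trans eα.le))))
    have hβ1 : β ≠ 1 := ne_one_of_prime hβ rfl
    have eb := honly _ (Cross.mem_vals hβ1) (Or.inl (e ▸ cn_dvd_of_le (hC.le.trans inf_le_right)))
    rw [← eq_of_le_cn (hC.le.trans inf_le_right) (e.trans eb.symm),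
      eq_of_le_cn (hC.le.trans inf_le_left) (e.trans (hyb.symm.trans
        (by rw [cn, cn, eα]))), eα]
  obtain ⟨x0, p0, hp0, hx0o, hx0a, -⟩ := Split.exists_prime_rep S
  obtain ⟨l, hl, hld, hlq⟩ := exists_other_prime hG (ne_one_of_prime hp0 hx0o) hq
  rw [Split.index_eq S hx0a] at hld
  haveI := Fact.mk hl
  obtain ⟨ρ, hρ⟩ := exists_prime_orderOf_dvd_card' (G := B) l
    (show l ∣ cn y by rwa [hyb])
  rw [← Subgroup.orderOf_coe] at hρ
  have eρ : Subgroup.centralizer ({(ρ : G)} : Set G) = B :=
    hsame y ρ (hyo ▸ hq) (hρ ▸ hl) (by rw [hyo, hρ]; exact Ne.symm hlq) rfl ρ.2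
  have hprime : ∀ β ∈ B, (orderOf β).Prime → Subgroup.centralizer ({β} : Set G) = B := by
    intro β hβ hβp
    by_cases e : orderOf β = q
    · exact hsame ρ β (hρ ▸ hl) hβp (by rw [hρ, e]; exact hlq) eρ hβ
    · exact hsame y β (hyo ▸ hq) hβp (by rw [hyo]; exact Ne.symm e) rfl hβ
  have hCC : ∀ β ∈ B, β ≠ 1 → Subgroup.centralizer ({β} : Set G) = B := by
    intro β hβ hβ1
    obtain ⟨p, j, hp, hj, -⟩ := exists_prime_pow hβ1
    have e := hprime _ (B.pow_mem hβ j) (hj ▸ hp)
    have hle : Subgroup.centralizer ({β} : Set G) ≤ B := e ▸ cen_le_pow β j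
    refine eq_of_le_cn hle ?_
    exact (honly _ (Cross.mem_vals hβ1) (Or.inr (hyb ▸ cn_dvd_of_le hle))).trans hyb.symm
  have hBcard : Nat.card B = b := hyb
  intro x d hx hd hxa hda v w hv hw
  exact unique_commuting hG B (cc_comm hCC) hCC
    (by rw [hBcard, Split.index_eq S.symm hyb]; exact S.cop.symm) (ne_one_of_prime hx rfl)
    (by rw [hBcard, Split.index_eq S hxa]) (by rw [hBcard, Split.index_eq S hda]) hv hw

/-- An element of order two with an odd class and isolated from its conjugates does not exist. -/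
theorem no_invol_of_isolated {a b : ℕ} (S : Split.IsSplit G a b) (h2 : 2 ∣ a) {t : G}
    (ht : orderOf t = 2) (hta : cn t = a)
    (hiso : ∀ g : G, Commute t (g * t * g⁻¹) → g * t * g⁻¹ = t) : False := by
  haveI : Fact (Nat.Prime 2) := ⟨Nat.prime_two⟩
  have hodd : ¬ 2 ∣ (Subgroup.centralizer ({t} : Set G)).index := by
    rw [Split.index_eq S hta]
    exact fun h => by
      have := Nat.eq_one_of_dvd_coprimes S.cop h2 h
      omega
  have hfac : (cn t).factorization 2 = (Nat.card G).factorization 2 :=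
    le_antisymm (fac_le_card t) (not_lt.1 fun h => hodd ((fac_index Nat.prime_two t).2 h))
  obtain ⟨R, htR, hRt, hRp, hRcard⟩ := exists_full (p := 2)
    (RankFour54.isPGroup_zpowers (k := 1) (x := t) (by rw [ht, pow_one]))
    (Subgroup.zpowers_le.2 (mem_self t))
  change Nat.card R = 2 ^ (cn t).factorization 2 at hRcard
  rw [hfac] at hRcard
  obtain ⟨g, hgS, hgne⟩ := Inv59.EightAuto.no_isolated hG (Sylow.ofCard R hRcard) ht
    (show t ∈ R from htR (Subgroup.mem_zpowers t))
  exact hgne (hiso g (mem_cen.1 (hRt hgS)))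

/-- With two values on the other side no involution has the largest value of its side. -/
theorem no_invol_of_two {a b e : ℕ} (X : Odd.Ctx G a b e) {t : G} (ht : orderOf t = 2) :
    cn t ≠ a := by
  intro hta
  obtain ⟨K, hnil, hK, hC, hlt⟩ := PFour.exists_nilpotent hG X
  refine no_invol_of_isolated hG X.S X.h2 ht hta fun g hg => ?_
  have hidx : K.index = a := Nat.eq_of_mul_eq_mul_left (Split.pos X.S).2
    (by rw [← hK, K.card_mul_index, X.S.card, hK, mul_comm])
  refine Coherent.isolated hG K hC hlt (by rw [hK, hidx]; exact X.S.cop.symm)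
    (fun p k hp => hK ▸ Split.not_prime_pow X.S hG hp) (ne_one_of_prime Nat.prime_two ht)
    (by rw [hK, Split.index_eq X.S hta]) (fun x hx => ?_) hg
  refine Odd.invol_not_normalizer X (u := x⁻¹ * t * x) ?_ (fun h => ?_)
    (by rw [hK]; exact X.S.cop.symm) hx
  · rw [show x⁻¹ * t * x = x⁻¹ * t * x⁻¹⁻¹ by group, RankFour54.orderOf_conj, ht]
  · rw [h, Subgroup.card_bot] at hK
    exact Split.not_prime_pow X.S hG Nat.prime_two (k := 0) (by rw [pow_zero, hK])

end Cfsg.Agent.Lib.RankFive54.Single
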