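import Mathlib
import Cfsg.Agent.Lib.RankFive54.Npc
import Cfsg.Agent.Lib.RankFive54.Single
import Cfsg.Agent.Lib.RankFive54.Common

/-!
# Five centraliser orders, not three of them maximal
-/

set_option autoImplicit false
set_option linter.style.haveILetI false
set_option linter.unusedSectionVars false

namespace Cfsg.Agent.Lib.RankFive54.Main

open Cfsg.Agent.Lib.ClassSizes.Basic
open Cfsg.Agent.Lib.Inv59.RankThree
open Cfsg.Agent.Lib.RankFour54
open Cfsg.Agent.Lib.RankFive54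

universe u

variable {G : Type u} [Group G] [Finite G]

/-- The values with no other value as a proper multiple. -/
def maxs (G : Type u) [Group G] : Set ℕ :=
  {v | v ∈ Cross.vals G ∧ ∀ w ∈ Cross.vals G, v ∣ w → w = v}

theorem vals_finite : (Cross.vals G).Finite := (Set.toFinite _).image _

theorem maxs_finite : (maxs G).Finite := vals_finite.subset fun _ h => h.1

/-- Every value divides a maximal one. -/
theorem exists_max {v : ℕ} (hv : v ∈ Cross.vals G) : ∃ w ∈ maxs G, v ∣ w := by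
  obtain ⟨w, ⟨hw, hvw⟩, hmax⟩ := Set.exists_max_image {w | w ∈ Cross.vals G ∧ v ∣ w} id
    (vals_finite.subset fun _ h => h.1) ⟨v, hv, dvd_rfl⟩
  refine ⟨w, ⟨hw, fun u hu hwu => ?_⟩, hvw⟩
  exact le_antisymm (hmax u ⟨hu, hvw.trans hwu⟩)
    (Nat.le_of_dvd (lt_of_lt_of_le two_pos (Cross.two_le_of_mem hu)) hwu)

theorem low_of_subsingleton (h : ∀ i i' w w' : G, orderOf i = 2 → orderOf i' = 2 → w ≠ 1 → w' ≠ 1 →
    cn w ∣ cn i → cn w ≠ cn i → cn w' ∣ cn i' → cn w' ≠ cn i' → cn w = cn w') :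
    ∃ c, Local.Low G c := by
  by_cases hne : ∃ i w : G, orderOf i = 2 ∧ w ≠ 1 ∧ cn w ∣ cn i ∧ cn w ≠ cn i
  · obtain ⟨i, w, hi, hw, h1, h2⟩ := hne
    exact ⟨cn w, fun i' hi' w' hw' h1' h2' => h i' i w' w hi' hi hw' hw h1' h2' h1 h2⟩
  · exact ⟨0, fun i' hi' w' hw' h1' h2' => absurd ⟨i', w', hi', hw', h1', h2'⟩ hne⟩

variable [IsSimpleGroup G] (hG : ¬ IsMulCommutative G) (h5 : (Cross.vals G).ncard = 5)
include hG h5

/-- Two maximal values, the first even. -/
theorem low_of_split {a b : ℕ} (S : Split.IsSplit G a b) (h2 : 2 ∣ a) : ∃ c, Local.Low G c := by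
  classical
  set Va : Set ℕ := {v | v ∈ Cross.vals G ∧ v ∣ a ∧ v ≠ a} with hVa
  set Vb : Set ℕ := {v | v ∈ Cross.vals G ∧ v ∣ b ∧ v ≠ b} with hVb
  have hVaf : Va.Finite := vals_finite.subset fun _ h => h.1
  have hVbf : Vb.Finite := vals_finite.subset fun _ h => h.1
  have hcount : Va.ncard + Vb.ncard = 3 := by
    have hdisj : Disjoint Va Vb := Set.disjoint_left.2 fun v h1 h2 =>
      Split.not_both S h1.1 ⟨h1.2.1, h2.2.1⟩
    have hab : a ≠ b := fun e => Split.not_dvd S (dvd_of_eq e)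
    have hsub : ({a, b} : Set ℕ) ⊆ Cross.vals G :=
      Set.insert_subset S.ha (Set.singleton_subset_iff.2 S.hb)
    have hunion : Va ∪ Vb = Cross.vals G \ {a, b} := by
      ext v
      constructor
      · rintro (⟨hv, hd, hne⟩ | ⟨hv, hd, hne⟩) <;> refine ⟨hv, ?_⟩ <;> rintro (rfl | rfl)
        · exact hne rfl
        · exact Split.not_dvd S.symm hd
        · exact Split.not_dvd S hd
        · exact hne rfl
      · rintro ⟨hv, hne⟩
        rcases S.hall v hv with h | h
        · exact Or.inl ⟨hv, h, fun e => hne (Or.inl e)⟩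
        · exact Or.inr ⟨hv, h, fun e => hne (Or.inr e)⟩
    rw [← Set.ncard_union_eq hdisj hVaf hVbf, hunion, Set.ncard_sdiff hsub ((Set.toFinite _)),
      Set.ncard_pair hab, h5]
  -- centraliser orders of involutions
  have hinv : ∀ i : G, orderOf i = 2 → cn i ∣ a := fun i hi =>
    Split.cn_dvd_of_order S Nat.prime_two hi h2
  have hbelow : ∀ i w : G, orderOf i = 2 → w ≠ 1 → cn w ∣ cn i → cn w ≠ cn i → cn w ∈ Va :=
    fun i w hi hw h1 h2' => ⟨Cross.mem_vals hw, h1.trans (hinv i hi),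
      fun e => h2' (Nat.dvd_antisymm h1 (e ▸ hinv i hi))⟩
  have hb_odd : ¬ 2 ∣ b := fun h => by
    have := Nat.eq_one_of_dvd_coprimes S.cop h2 h
    omega
  rcases (show Va.ncard ≤ 1 ∨ Va.ncard = 2 ∨ Va.ncard = 3 by omega) with hA | hA | hA
  · exact low_of_subsingleton fun i i' w w' hi hi' hw hw' h1 h2' h1' h2'' =>
      (Set.ncard_le_one hVaf).1 hA _ (hbelow i w hi hw h1 h2') _ (hbelow i' w' hi' hw' h1' h2'')
  · obtain ⟨e, he⟩ := Set.ncard_eq_one.1 (show Vb.ncard = 1 by omega)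
    have heV : e ∈ Vb := he ▸ rfl
    have X : Odd.Ctx G a b e := ⟨S, h2, heV.1, heV.2.1, heV.2.2, fun v hv hvb => by
      by_contra! h
      exact h.2 (show v ∈ ({e} : Set ℕ) from he ▸ ⟨hv, hvb, h.1⟩)⟩
    have htop : ∀ i : G, orderOf i = 2 → cn i ∈ Va := fun i hi =>
      ⟨Cross.mem_vals (ne_one_of_prime Nat.prime_two hi), hinv i hi,
        Single.no_invol_of_two hG X hi⟩
    refine low_of_subsingleton fun i i' w w' hi hi' hw hw' h1 h2' h1' h2'' => ?_
    obtain ⟨c, d, -, hcd⟩ := Set.ncard_eq_two.1 hA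
    have m1 := hbelow i w hi hw h1 h2'
    have m2 := hbelow i' w' hi' hw' h1' h2''
    have t1 := htop i hi
    have t2 := htop i' hi'
    simp only [hcd, Set.mem_insert_iff, Set.mem_singleton_iff] at m1 m2 t1 t2
    by_contra hne
    have e1 : cn i = cn w' := by omega
    have e2 : cn i' = cn w := by omega
    exact hne (Nat.dvd_antisymm (e1 ▸ h1) (e2 ▸ h1'))
  · have hVb0 : Vb = ∅ := (Set.ncard_eq_zero hVbf).1 (by omega)
    have hb : ∀ v ∈ Cross.vals G, v ∣ b → v = b := fun v hv hvb => by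
      by_contra hne
      exact Set.eq_empty_iff_forall_notMem.1 hVb0 v ⟨hv, hvb, hne⟩
    have hiso := Single.iso hG S hb
    have htop : ∀ i : G, orderOf i = 2 → cn i ∈ Va := fun i hi =>
      ⟨Cross.mem_vals (ne_one_of_prime Nat.prime_two hi), hinv i hi, fun hia =>
        Single.no_invol_of_isolated hG S h2 hi hia fun g hg => by
          have h := hiso i i (hi ▸ Nat.prime_two) (hi ▸ Nat.prime_two) hia hia g 1 hg (by simp)
          simpa using h⟩
    refine low_of_subsingleton fun i i' w w' hi hi' hw hw' h1 h2' h1' h2'' => ?_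
    have m1 := hbelow i w hi hw h1 h2'
    have m2 := hbelow i' w' hi' hw' h1' h2''
    by_contra hne
    exfalso
    -- three distinct members are all of them
    have hall3 : ∀ u ∈ Va, u ≠ cn w → u ≠ cn w' → ∀ v ∈ Va, v = u ∨ v = cn w ∨ v = cn w' := by
      intro u hu h1u h2u v hv
      have hsub : ({u, cn w, cn w'} : Set ℕ) ⊆ Va :=
        Set.insert_subset hu (Set.insert_subset m1 (Set.singleton_subset_iff.2 m2))
      have hc : ({u, cn w, cn w'} : Set ℕ).ncard = 3 :=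
        Set.ncard_eq_three.2 ⟨u, cn w, cn w', h1u, h2u, hne, rfl⟩
      rw [← Set.eq_of_subset_of_ncard_le hsub (by rw [hc, hA]) hVaf] at hv
      simpa using hv
    -- a value with the two others below it
    obtain ⟨u, hu, hun1, hun2, hd1, hd2⟩ : ∃ u ∈ Va, u ≠ cn w ∧ u ≠ cn w' ∧ cn w ∣ u ∧ cn w' ∣ u := by
      by_cases e1 : cn i = cn w'
      · refine ⟨cn i', htop i' hi', ?_, fun e => h2'' e.symm, (h1.trans (dvd_of_eq e1)).trans h1', h1'⟩
        intro e
        exact hne (Nat.dvd_antisymm (h1.trans (dvd_of_eq e1)) (e ▸ h1'))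
      · by_cases e2 : cn i' = cn w
        · exact ⟨cn i, htop i hi, fun e => h2' e.symm, e1, h1, (h1'.trans (dvd_of_eq e2)).trans h1⟩
        · have e3 : cn i' = cn i := ((hall3 _ (htop i hi) (Ne.symm h2') e1 _ (htop i' hi')).resolve_right
            (not_or.2 ⟨e2, fun e => h2'' e.symm⟩))
          exact ⟨cn i, htop i hi, fun e => h2' e.symm, e1, h1, e3 ▸ h1'⟩
    refine Four.false_of_four S hiso hG (c := u) (d := cn w) (e := cn w') (fun v hv hva => ?_)
      hu.2.1 hu.2.2 hd1 hd2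
    by_cases hv' : v = a
    · exact Or.inl hv'
    · exact Or.inr (hall3 u hu hun1 hun2 v ⟨hv, hva, hv'⟩)

/-- The classification. -/
theorem classify (h3 : (maxs G).ncard ≠ 3) :
    Cfsg.Lie.IsoSuzuki G ∨ ∃ (F : Type) (_ : Field F) (_ : Fintype F), Fintype.card F = 4 ∧
      Nonempty (G ≃* Matrix.ProjectiveSpecialLinearGroup (Fin 3) F) := by
  classical
  suffices h : ∃ c, Local.Low G c by
    obtain ⟨c, hc⟩ := h
    exact Npc.classify hG h5 hc
  have hle : (maxs G).ncard ≤ 5 := h5 ▸ Set.ncard_le_ncard (fun _ h => h.1) vals_finite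
  rcases (show (maxs G).ncard = 0 ∨ (maxs G).ncard = 1 ∨ (maxs G).ncard = 2 ∨ 4 ≤ (maxs G).ncard by
    omega) with hM | hM | hM | hM
  · obtain ⟨v, hv⟩ := Set.nonempty_of_ncard_ne_zero (h5.trans_ne (by norm_num : (5 : ℕ) ≠ 0))
    obtain ⟨w, hw, -⟩ := exists_max hv
    exact absurd hw (Set.eq_empty_iff_forall_notMem.1 ((Set.ncard_eq_zero maxs_finite).1 hM) w)
  · obtain ⟨a, ha⟩ := Set.ncard_eq_one.1 hM
    obtain ⟨z, hz, rfl⟩ := (ha ▸ rfl : a ∈ maxs G).1
    refine (no_one_max hG hz fun x hx => ?_).elim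
    obtain ⟨w, hw, hxw⟩ := exists_max (Cross.mem_vals hx)
    rw [ha, Set.mem_singleton_iff] at hw
    exact hw ▸ hxw
  · obtain ⟨a, b, hne, hab⟩ := Set.ncard_eq_two.1 hM
    have ha : a ∈ maxs G := hab ▸ Or.inl rfl
    have hb : b ∈ maxs G := hab ▸ Or.inr rfl
    have hall : ∀ v ∈ Cross.vals G, v ∣ a ∨ v ∣ b := fun v hv => by
      obtain ⟨w, hw, hvw⟩ := exists_max hv
      rw [hab] at hw
      rcases hw with rfl | rfl
      exacts [Or.inl hvw, Or.inr hvw]
    have hndab : ¬ a ∣ b := fun h => hne (ha.2 b hb.1 h).symm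
    have hndba : ¬ b ∣ a := fun h => hne (hb.2 a ha.1 h)
    obtain ⟨x, p, hp, hxo, hxa⟩ := Cross.exists_prime_rep hndab hall ha.1
    obtain ⟨y, q, hq, hyo, hyb⟩ := Cross.exists_prime_rep hndba (fun v hv => (hall v hv).symm) hb.1
    have H : Common.Heads G a b := ⟨x, y, p, q, hp, hq, hxo, hyo, hxa, hyb, hndab, hndba, hall⟩
    have S := Split.of_heads hG H (Common.coprime_of_two_max hG h5 H)
    have h2 : 2 ∣ Nat.card G := by
      by_contra h
      exact hG ⟨⟨IsSimpleGroup.comm_iff_isSolvable.2 (Cfsg.Agent.Lib.OddOrder.FeitThompson.isSolvable_of_odd_card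
        (Nat.not_even_iff_odd.1 fun h' => h (even_iff_two_dvd.1 h')))⟩⟩
    rw [S.card, Nat.prime_two.dvd_mul] at h2
    rcases h2 with h2 | h2
    exacts [low_of_split hG h5 S h2, low_of_split hG h5 S.symm h2]
  · refine low_of_subsingleton fun i i' w w' hi hi' hw hw' h1 h2' h1' h2'' => ?_
    have hrest : (Cross.vals G \ maxs G).ncard ≤ 1 := by
      rw [Set.ncard_sdiff (fun _ h => h.1) maxs_finite]
      omega
    have hmem : ∀ i w : G, orderOf i = 2 → w ≠ 1 → cn w ∣ cn i → cn w ≠ cn i →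
        cn w ∈ Cross.vals G \ maxs G := fun i w hi hw h1 h2 => ⟨Cross.mem_vals hw, fun h =>
      h2 (h.2 _ (Cross.mem_vals (ne_one_of_prime Nat.prime_two hi)) h1).symm⟩
    exact (Set.ncard_le_one (vals_finite.sdiff)).1 hrest _ (hmem i w hi hw h1 h2') _
      (hmem i' w' hi' hw' h1' h2'')

end Cfsg.Agent.Lib.RankFive54.Main
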